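import Groth.Agent.InjMod.Scheme
import Groth.Agent.ChgRings.Basic
import Groth.Agent.KFlat.PushRestrict
import Groth.Agent.KFlat.PullTensor
import Groth.Agent.ChgRings.Derived
import Groth.Agent.DerFun.Basic
import Groth.Prelude.Def_CxOX
import Mathlib.CategoryTheory.Adjunction.Triple

/-!
# Internal Hom commutes with restriction to an open subscheme
-/

set_option autoImplicit false

universe u

open CategoryTheory CategoryTheory.Limits AlgebraicGeometry Opposite TopologicalSpace
open Groth.Agent.PullStalk.Sky Groth.Agent.KFlat.StalkTensor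

noncomputable section

namespace Groth.Agent.InjMod

variable {X : Scheme.{u}} (U : X.Opens)

/-- `(N ⊗ F)|_U ≅ N|_U ⊗ F|_U`, naturally in `N`. -/
def tensRestrIso (F : X.Modules) :
    ChgRings.tensR F ⋙ Scheme.Modules.restrictFunctor U.ι ≅
      Scheme.Modules.restrictFunctor U.ι ⋙ ChgRings.tensR (F.restrict U.ι) :=
  Functor.isoWhiskerLeft (ChgRings.tensR F) (Scheme.Modules.restrictFunctorIsoPullback U.ι) ≪≫
    (NatIso.ofComponents (F := ChgRings.tensR F ⋙ Scheme.Modules.pullback U.ι)
      (G := Scheme.Modules.pullback U.ι ⋙ ChgRings.tensR ((Scheme.Modules.pullback U.ι).obj F))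
      (fun N => KFlat.PullTensor.pullTensorIso U.ι N F)
      (fun φ => KFlat.PullTensor.pullTensorIso_left U.ι φ F)) ≪≫
    Functor.isoWhiskerRight (Scheme.Modules.restrictFunctorIsoPullback U.ι).symm
      (ChgRings.tensR ((Scheme.Modules.pullback U.ι).obj F)) ≪≫
    Functor.isoWhiskerLeft (Scheme.Modules.restrictFunctor U.ι)
      ((ModSite.tensorBi (U : Scheme.{u}).sheaf).flip.mapIso
        ((Scheme.Modules.restrictFunctorIsoPullback U.ι).app F).symm)

variable (F : X.Modules) [ModSite.HasSheafHom (O := X.sheaf) F]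
  [ModSite.HasSheafHom (O := (U : Scheme.{u}).sheaf) (F.restrict U.ι)]

/-- `ℋom(F, j_* N) ≅ j_* ℋom(F|_U, N)`. -/
def pushHomIso :
    Scheme.Modules.pushforward U.ι ⋙ ModSite.sheafHom (O := X.sheaf) F ≅
      ModSite.sheafHom (O := (U : Scheme.{u}).sheaf) (F.restrict U.ι) ⋙ Scheme.Modules.pushforward U.ι :=
  conjugateIsoEquiv ((ModSite.sheafHomAdj (O := X.sheaf) F).comp (Scheme.Modules.restrictAdjunction U.ι))
    ((Scheme.Modules.restrictAdjunction U.ι).comp
      (ModSite.sheafHomAdj (O := (U : Scheme.{u}).sheaf) (F.restrict U.ι))) (tensRestrIso U F).symm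

omit [ModSite.HasSheafHom (O := X.sheaf) F]
  [ModSite.HasSheafHom (O := (U : Scheme.{u}).sheaf) (F.restrict U.ι)] in
theorem subsingleton_stalk_extZero (A : (U : Scheme.{u}).Modules) {y : X} (hy : y ∉ U) :
    Subsingleton (((CxOX.extZero U.ι).obj A).presheaf.stalk y) := by
  let M := (CxOX.extZero U.ι).obj A
  have : ∀ f g : M ⟶ sky y (M.presheaf.stalk y), f = g := fun f g => by
    apply ((CxOX.extZeroAdj U.ι).homEquiv A _).injective
    refine Scheme.Modules.hom_ext _ _ fun V => ?_
    ext a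
    refine funext fun p => absurd ?_ hy
    exact ((U.ι.image_le_opensRange V).trans U.opensRange_ι.le) p.down
  have e := this (toSky (M := M) LinearMap.id) (toSky 0)
  have := congrArg ofSky e
  rw [ofSky_toSky, ofSky_toSky] at this
  exact subsingleton_of_forall_eq 0 fun t => LinearMap.congr_fun this t

instance isIso_unit_extZeroAdj : IsIso (CxOX.extZeroAdj U.ι).unit :=
  (Adjunction.Triple.mk (CxOX.extZeroAdj U.ι) (Scheme.Modules.restrictAdjunction U.ι)).isIso_unit_iff_isIso_counit.2
    inferInstance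

omit [ModSite.HasSheafHom (O := X.sheaf) F]
  [ModSite.HasSheafHom (O := (U : Scheme.{u}).sheaf) (F.restrict U.ι)] in
/-- A module supported on `U` is the extension by zero of its restriction. -/
theorem isIso_counit_of_supported (M : X.Modules)
    (hM : ∀ y : X, y ∉ U → Subsingleton (M.presheaf.stalk y)) :
    IsIso ((CxOX.extZeroAdj U.ι).counit.app M) := by
  let ε := (CxOX.extZeroAdj U.ι).counit.app M
  have hR : IsIso ((Scheme.Modules.restrictFunctor U.ι).map ε) :=
    IsIso.of_isIso_fac_left ((CxOX.extZeroAdj U.ι).right_triangle_components M)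
  have happ : ∀ V : X.Opens, V ≤ U → Function.Bijective (ε.app V) := by
    intro V hV
    obtain ⟨O, rfl⟩ : ∃ O : (U : Scheme.{u}).Opens, U.ι ''ᵁ O = V :=
      ⟨U.ι ⁻¹ᵁ V, LFFrame.le_image_preimage hV⟩
    exact (ConcreteCategory.isIso_iff_bijective _).1 (Scheme.Modules.Hom.isIso_iff_isIso_app.1 hR O)
  refine KFlat.PullTensor.isIso_of_stalk_bijective ε fun y => ?_
  by_cases hy : y ∈ U
  · refine ⟨?_, fun t => ?_⟩
    · rw [injective_iff_map_eq_zero]
      intro t ht
      obtain ⟨V, hV, m, rfl⟩ := exists_germM_eq _ y t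
      have h1 := ((DerSch.stalkFunctor_map_germ y ε V hV m).symm.trans ht).trans
        (map_zero (M.presheaf.germ V y hV).hom).symm
      obtain ⟨W, hW, i₁, i₂, e⟩ := M.presheaf.germ_eq y hV hV _ _ h1
      have hW' : y ∈ W ⊓ U := ⟨hW, hy⟩
      let N := (CxOX.extZero U.ι).obj (M.restrict U.ι)
      have h2 : N.presheaf.map (homOfLE (inf_le_left.trans i₁.le : W ⊓ U ≤ V)).op m = 0 := by
        refine (happ (W ⊓ U) inf_le_right).1 ?_
        rw [map_zero]
        refine (NatTrans.naturality_apply ε.mapPresheaf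
          (homOfLE (inf_le_left.trans i₁.le : W ⊓ U ≤ V)).op m).trans ?_
        rw [map_zero] at e
        have e' := congrArg (M.presheaf.map (homOfLE (inf_le_left : W ⊓ U ≤ W)).op) e
        rw [map_zero] at e'
        exact (ConcreteCategory.congr_hom
          (M.presheaf.map_comp i₁.op (homOfLE (inf_le_left : W ⊓ U ≤ W)).op) _).trans e'
      refine (N.presheaf.germ_res_apply (homOfLE (inf_le_left.trans i₁.le : W ⊓ U ≤ V)) y hW' m).symm.trans ?_
      exact (congrArg (N.presheaf.germ (W ⊓ U) y hW') h2).trans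
        (map_zero (N.presheaf.germ (W ⊓ U) y hW').hom)
    · obtain ⟨V, hV, m, rfl⟩ := exists_germM_eq M y t
      have hV' : y ∈ V ⊓ U := ⟨hV, hy⟩
      obtain ⟨n, hn⟩ := (happ (V ⊓ U) inf_le_right).2
        (M.presheaf.map (homOfLE (inf_le_left : V ⊓ U ≤ V)).op m)
      exact ⟨germM _ (V ⊓ U) y hV' n, (DerSch.stalkFunctor_map_germ y ε _ hV' n).trans
        ((congrArg (M.presheaf.germ _ y hV') hn).trans (M.presheaf.germ_res_apply _ y hV' m))⟩
  · have h1 : Subsingleton ((DerSch.stalkFunctor X y).obj ((CxOX.extZero U.ι).obj (M.restrict U.ι))) :=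
      subsingleton_stalk_extZero U _ hy
    have h2 : Subsingleton ((DerSch.stalkFunctor X y).obj M) := hM y hy
    exact ⟨fun a b _ => @Subsingleton.elim _ h1 a b, fun b => ⟨0, @Subsingleton.elim _ h2 _ b⟩⟩

omit [ModSite.HasSheafHom (O := X.sheaf) F]
  [ModSite.HasSheafHom (O := (U : Scheme.{u}).sheaf) (F.restrict U.ι)] in
/-- Homs out of a module supported on `U` only see the restriction to `U`. -/
theorem bijective_postcomp_of_supported (M : X.Modules)
    (hM : ∀ y : X, y ∉ U → Subsingleton (M.presheaf.stalk y)) {G G' : X.Modules} (φ : G ⟶ G')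
    [IsIso ((Scheme.Modules.restrictFunctor U.ι).map φ)] :
    Function.Bijective (fun ψ : M ⟶ G => ψ ≫ φ) := by
  have := isIso_counit_of_supported U M hM
  let ε := (CxOX.extZeroAdj U.ι).counit.app M
  let e : ∀ H : X.Modules, (M ⟶ H) ≃ (M.restrict U.ι ⟶ H.restrict U.ι) := fun H =>
    (asIso ε).symm.homFromEquiv.trans ((CxOX.extZeroAdj U.ι).homEquiv _ H)
  refine (Function.Bijective.of_comp_iff' (e G').bijective _).1 ?_
  have h : ((e G') ∘ fun ψ : M ⟶ G => ψ ≫ φ) =
      fun ψ => e G ψ ≫ (Scheme.Modules.restrictFunctor U.ι).map φ := funext fun ψ => by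
    show (CxOX.extZeroAdj U.ι).homEquiv _ G' (ε ≫ ψ ≫ φ) =
      (CxOX.extZeroAdj U.ι).homEquiv _ G (ε ≫ ψ) ≫ _
    rw [← Adjunction.homEquiv_naturality_right, Category.assoc]
  rw [h]
  exact (asIso ((Scheme.Modules.restrictFunctor U.ι).map φ)).homToEquiv.bijective.comp (e G).bijective

omit [ModSite.HasSheafHom (O := (U : Scheme.{u}).sheaf) (F.restrict U.ι)] in
/-- `ℋom(F, -)` preserves isomorphisms over `U`. -/
theorem isIso_restrict_sheafHom_map {G G' : X.Modules} (φ : G ⟶ G')
    [IsIso ((Scheme.Modules.restrictFunctor U.ι).map φ)] :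
    IsIso ((Scheme.Modules.restrictFunctor U.ι).map ((ModSite.sheafHom (O := X.sheaf) F).map φ)) := by
  let R := Scheme.Modules.restrictFunctor U.ι
  let H := ModSite.sheafHom (O := X.sheaf) F
  let adjE := CxOX.extZeroAdj U.ι
  let adjH := ModSite.sheafHomAdj (O := X.sheaf) F
  have hpost : ∀ A : (U : Scheme.{u}).Modules,
      Function.Bijective (fun f : A ⟶ R.obj (H.obj G) => f ≫ R.map (H.map φ)) := by
    intro A
    let e : ∀ G₀ : X.Modules, ((ChgRings.tensR F).obj ((CxOX.extZero U.ι).obj A) ⟶ G₀) ≃ (A ⟶ R.obj (H.obj G₀)) :=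
      fun G₀ => (adjH.homEquiv _ G₀).trans (adjE.homEquiv A _)
    have hM : ∀ y : X, y ∉ U →
        Subsingleton (((ChgRings.tensR F).obj ((CxOX.extZero U.ι).obj A)).presheaf.stalk y) := fun y hy => by
      have := subsingleton_stalk_extZero U A hy
      exact (stalkTensorEquiv ((CxOX.extZero U.ι).obj A) F y).toEquiv.subsingleton
    refine (Function.Bijective.of_comp_iff _ (e G).bijective).1 ?_
    have h : ((fun f : A ⟶ R.obj (H.obj G) => f ≫ R.map (H.map φ)) ∘ (e G)) =
        (e G') ∘ fun ψ => ψ ≫ φ := funext fun ψ => by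
      show adjE.homEquiv A _ (adjH.homEquiv _ G ψ) ≫ R.map (H.map φ) =
        adjE.homEquiv A _ (adjH.homEquiv _ G' (ψ ≫ φ))
      exact ((congrArg (adjE.homEquiv A _) (adjH.homEquiv_naturality_right ψ φ)).trans
        (adjE.homEquiv_naturality_right _ _)).symm
    rw [h]
    exact (e G').bijective.comp (bijective_postcomp_of_supported U _ hM φ)
  obtain ⟨s, hs⟩ := (hpost _).2 (𝟙 _)
  exact ⟨s, (hpost _).1 ((Category.assoc _ _ _).trans
    ((congrArg (R.map (H.map φ) ≫ ·) hs).trans ((Category.comp_id _).trans (Category.id_comp _).symm))), hs⟩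

/-- `ℋom(F, -)|_U ≅ ℋom(F|_U, -|_U)`. -/
def sheafHomRestrIso :
    ModSite.sheafHom (O := X.sheaf) F ⋙ Scheme.Modules.restrictFunctor U.ι ≅
      Scheme.Modules.restrictFunctor U.ι ⋙ ModSite.sheafHom (O := (U : Scheme.{u}).sheaf) (F.restrict U.ι) :=
  have : ∀ G : X.Modules, IsIso ((Scheme.Modules.restrictFunctor U.ι).map
      ((ModSite.sheafHom (O := X.sheaf) F).map ((Scheme.Modules.restrictAdjunction U.ι).unit.app G))) := fun G => by
    have h1 : IsIso ((Scheme.Modules.restrictFunctor U.ι).map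
        ((Scheme.Modules.restrictAdjunction U.ι).unit.app G)) :=
      IsIso.of_isIso_fac_right ((Scheme.Modules.restrictAdjunction U.ι).left_triangle_components G)
    exact isIso_restrict_sheafHom_map U F _
  NatIso.ofComponents (F := ModSite.sheafHom (O := X.sheaf) F ⋙ Scheme.Modules.restrictFunctor U.ι)
    (G := Scheme.Modules.restrictFunctor U.ι ⋙ ((Scheme.Modules.pushforward U.ι ⋙
      ModSite.sheafHom (O := X.sheaf) F) ⋙ Scheme.Modules.restrictFunctor U.ι))
    (fun G => @asIso _ _ _ _ _ (this G))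
    (fun {G G'} φ => ((Functor.map_comp _ _ _).symm.trans
      (congrArg (Scheme.Modules.restrictFunctor U.ι).map (((ModSite.sheafHom (O := X.sheaf) F).map_comp _ _).symm.trans
        ((congrArg (ModSite.sheafHom (O := X.sheaf) F).map
          ((Scheme.Modules.restrictAdjunction U.ι).unit.naturality φ)).trans
            ((ModSite.sheafHom (O := X.sheaf) F).map_comp _ _))))).trans (Functor.map_comp _ _ _)) ≪≫
    Functor.isoWhiskerLeft (Scheme.Modules.restrictFunctor U.ι)
      (Functor.isoWhiskerRight (pushHomIso U F) (Scheme.Modules.restrictFunctor U.ι)) ≪≫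
    Functor.isoWhiskerLeft (Scheme.Modules.restrictFunctor U.ι ⋙
        ModSite.sheafHom (O := (U : Scheme.{u}).sheaf) (F.restrict U.ι))
      (Scheme.Modules.restrictFunctorAdjCounitIso U.ι) ≪≫
    Functor.rightUnitor _

end Groth.Agent.InjMod
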