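import Groth.Agent.GabLocLib
import Mathlib.CategoryTheory.Subobject.NoetherianObject

/-!
# Injective hulls inside injectives and indecomposable summands
-/

set_option autoImplicit false

universe w v u

open CategoryTheory CategoryTheory.Limits

namespace Groth.Agent.InjMod

variable {C : Type u} [Category.{v} C] [Abelian C] [IsGrothendieckAbelian.{w} C]

open GabLocLib in
/-- A maximal subobject avoiding a kernel in an injective is a direct summand. -/
theorem isSplitMono_of_maximal {E Q : C} [Injective E] (q : E ⟶ Q) (L : Subobject E)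
    (hL : Maximal (Avoids q) L) : IsSplitMono L.arrow := by
  obtain ⟨E', π, _, _, hess⟩ := exists_essential L.arrow
  obtain ⟨g₀, hg₀⟩ : ∃ g₀ : E' ⟶ E, (L.arrow ≫ π) ≫ g₀ = L.arrow :=
    ⟨Injective.factorThru L.arrow (L.arrow ≫ π), Injective.comp_factorThru _ _⟩
  have hLq : Mono (L.arrow ≫ q) := hL.1
  have hker : ∀ {Z : C} (z : Z ⟶ E') [Mono z] (f : E' ⟶ Q), z ≫ f = 0 →
      Mono ((L.arrow ≫ π) ≫ f) → IsZero Z := by
    intro Z z hz f hf hm
    refine hess z hz ((IsZero.iff_id_eq_zero _).2 ?_)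
    have h1 : pullback.fst (L.arrow ≫ π) z = 0 := by
      refine zero_of_comp_mono ((L.arrow ≫ π) ≫ f) ?_
      rw [pullback.condition_assoc, hf, comp_zero]
    have h2 : pullback.snd (L.arrow ≫ π) z = 0 :=
      zero_of_comp_mono z (by rw [← pullback.condition, h1, zero_comp])
    exact pullback.hom_ext (by simp [h1]) (by simp [h2])
  have hgq : Mono (g₀ ≫ q) := Preadditive.mono_of_kernel_zero
    ((hker (kernel.ι (g₀ ≫ q)) (g₀ ≫ q) (kernel.condition _) (by
      rw [← Category.assoc, hg₀]; exact hLq)).eq_of_src _ _)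
  have : Mono g₀ := mono_of_mono g₀ q
  have hav : Avoids q (Subobject.mk g₀) := by
    show Mono ((Subobject.mk g₀).arrow ≫ q)
    rw [← Subobject.underlyingIso_hom_comp_eq_mk, Category.assoc]
    exact mono_comp _ _
  have hge := hL.2 hav (Subobject.le_mk_of_comm (L.arrow ≫ π) hg₀)
  refine IsSplitMono.mk' ⟨π ≫ Subobject.ofMkLE g₀ L hge, ?_⟩
  rw [← cancel_mono L.arrow, Category.assoc, Category.assoc, Subobject.ofMkLE_arrow,
    Category.id_comp, ← Category.assoc, hg₀]

open GabLocLib in
/-- Every subobject of an injective is essential in some injective subobject containing it. -/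
theorem exists_hull {B M : C} [Injective M] (i : B ⟶ M) [Mono i] :
    ∃ (H : C) (l : H ⟶ M) (_ : IsSplitMono l) (_ : Injective H) (j : B ⟶ H), j ≫ l = i ∧
      ∀ ⦃Z : C⦄ (z : Z ⟶ H), Mono z → (∀ ⦃W : C⦄ (w : W ⟶ B) (y : W ⟶ Z), w ≫ j = y ≫ z → w = 0) →
        IsZero Z := by
  obtain ⟨Y, π, _, hmono, hess⟩ := exists_essential i
  have hi : Avoids π (Subobject.mk i) := by
    show Mono ((Subobject.mk i).arrow ≫ π)
    rw [← Subobject.underlyingIso_hom_comp_eq_mk, Category.assoc]
    exact mono_comp _ _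
  obtain ⟨L, hiL, hL⟩ := exists_maximal π _ hi
  have := isSplitMono_of_maximal π L hL
  have hinj : Injective (L : C) :=
    Retract.injective ⟨L.arrow, retraction L.arrow, IsSplitMono.id _⟩
  refine ⟨_, L.arrow, this, hinj, Subobject.ofMkLE i L hiL, Subobject.ofMkLE_arrow _,
    fun Z z _ hz => ?_⟩
  have : Mono (L.arrow ≫ π) := hL.1
  refine hess (z ≫ L.arrow ≫ π) inferInstance ((IsZero.iff_id_eq_zero _).2 ?_)
  have h1 : pullback.fst (i ≫ π) (z ≫ L.arrow ≫ π) = 0 := by
    refine hz _ (pullback.snd (i ≫ π) (z ≫ L.arrow ≫ π)) ?_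
    rw [← cancel_mono (L.arrow ≫ π), Category.assoc, Category.assoc,
      ← Category.assoc (Subobject.ofMkLE i L hiL), Subobject.ofMkLE_arrow]
    exact pullback.condition
  have h2 : pullback.snd (i ≫ π) (z ≫ L.arrow ≫ π) = 0 :=
    zero_of_comp_mono (z ≫ L.arrow ≫ π) (by rw [← pullback.condition, h1, zero_comp])
  exact pullback.hom_ext (by simp [h1]) (by simp [h2])

/-- An injective receiving a nonzero map from a noetherian object has an indecomposable injective
summand. -/
theorem exists_indecomposable_summand {E K : C} [IsNoetherianObject E] [Injective K] (φ : E ⟶ K)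
    (hφ : φ ≠ 0) :
    ∃ (H : C) (l : H ⟶ K), IsSplitMono l ∧ Injective H ∧ ¬ IsZero H ∧
      ∀ A B : C, Nonempty (H ≅ A ⊞ B) → IsZero A ∨ IsZero B := by
  let 𝒦 : Set (Subobject E) := {S | ∃ (M : C) (m : M ⟶ K) (_ : Mono m) (_ : Injective M) (ψ : E ⟶ M),
    ψ ≠ 0 ∧ kernelSubobject ψ = S}
  obtain ⟨-, ⟨M, m, hm, hM, ψ, hψ, rfl⟩, hmax⟩ := (wellFounded_gt (α := Subobject E)).has_min 𝒦
    ⟨_, K, 𝟙 K, inferInstance, inferInstance, φ, hφ, rfl⟩
  obtain ⟨H, l, hl, hH, j, hj, hess⟩ := exists_hull (Abelian.image.ι ψ)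
  let p := Abelian.factorThruImage ψ
  have hp : p ≫ Abelian.image.ι ψ = ψ := Abelian.image.fac ψ
  have : Mono j := mono_of_mono_fac hj
  have hj0 : p ≫ j ≠ 0 := fun h => hψ (by rw [← hp, ← hj, ← Category.assoc, h, zero_comp])
  have : Injective K := inferInstance
  refine ⟨H, l ≫ m, IsSplitMono.mk' ⟨Injective.factorThru (𝟙 H) (l ≫ m), Injective.comp_factorThru _ _⟩,
    hH, fun hz => hj0 (hz.eq_of_tgt _ _), fun A B ⟨e⟩ => ?_⟩
  by_contra hne
  push Not at hne
  have hA : Injective A :=
    Retract.injective ⟨biprod.inl ≫ e.inv, e.hom ≫ biprod.fst, by simp⟩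
  by_cases hA0 : p ≫ j ≫ e.hom ≫ biprod.fst = 0
  · have hjA : j ≫ e.hom ≫ biprod.fst = 0 := by
      rw [← cancel_epi p, hA0, comp_zero]
    refine hne.1 (hess (biprod.inl ≫ e.inv) inferInstance fun W w y hw => ?_)
    have hy : y = 0 := by
      have h2 := congrArg (fun z => z ≫ e.hom ≫ biprod.fst) hw
      simp only [Category.assoc, hjA, comp_zero, Iso.inv_hom_id_assoc, biprod.inl_fst,
        Category.comp_id] at h2
      exact h2.symm
    exact zero_of_comp_mono j (by rw [hw, hy, zero_comp])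
  · have hle : kernelSubobject ψ ≤ kernelSubobject (p ≫ j ≫ e.hom ≫ biprod.fst) := by
      refine le_kernelSubobject _ _ ?_
      have : (kernelSubobject ψ).arrow ≫ p = 0 := zero_of_comp_mono (Abelian.image.ι ψ)
        (by rw [Category.assoc, hp, kernelSubobject_arrow_comp])
      rw [reassoc_of% this, zero_comp]
    have heq : kernelSubobject ψ = kernelSubobject (p ≫ j ≫ e.hom ≫ biprod.fst) :=
      hle.eq_of_not_lt (hmax _ ⟨A, biprod.inl ≫ e.inv ≫ l ≫ m, inferInstance, hA, _, hA0, rfl⟩)
    refine hne.2 (hess (biprod.inr ≫ e.inv) inferInstance fun W w y hw => ?_)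
    have hA' : pullback.fst p w ≫ p ≫ j ≫ e.hom ≫ biprod.fst = 0 := by
      rw [pullback.condition_assoc, reassoc_of% hw]
      simp
    have hψ' : pullback.fst p w ≫ p = 0 := by
      have hf : (kernelSubobject ψ).Factors (pullback.fst p w) := by
        rw [heq]; exact kernelSubobject_factors _ _ hA'
      refine zero_of_comp_mono (Abelian.image.ι ψ) ?_
      rw [Category.assoc, hp, ← (kernelSubobject ψ).factorThru_arrow _ hf, Category.assoc,
        kernelSubobject_arrow_comp, comp_zero]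
    have : Epi (pullback.snd p w) := Abelian.epi_pullback_of_epi_f _ _
    rw [← cancel_epi (pullback.snd p w), ← pullback.condition, hψ', comp_zero]

end Groth.Agent.InjMod
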