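import Groth.Agent.InjMod.Coprod
import Groth.Agent.InjMod.Indecomp

/-!
# Decomposition of injective modules on a locally noetherian scheme
-/

set_option autoImplicit false

universe u

open CategoryTheory CategoryTheory.Limits AlgebraicGeometry Opposite TopologicalSpace
open Groth.Agent.PullStalk.Sky Groth.Agent.KFlat.StalkTensor
open scoped ZeroObject

namespace Groth.Agent.InjMod

variable {X : Scheme.{u}}

/-- Independence of a family is finitary. -/
theorem mono_desc_of_finite {ι : Type u} (I : ι → X.Modules) {K : X.Modules} (a : ∀ i, I i ⟶ K)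
    (h : ∀ T : Finset ι, Mono (subSum I T ≫ Sigma.desc a)) : Mono (Sigma.desc a) := by
  refine mono_of_stalk_injective _ fun y => ?_
  rw [injective_iff_map_eq_zero]
  intro t ht
  obtain ⟨T, u, rfl⟩ := exists_finset_stalk I y t
  have hu : u = 0 := by
    refine (injective_iff_map_eq_zero _).1
      (@stalk_map_injective X y _ _ (subSum I T ≫ Sigma.desc a) (h T)) u ?_
    rw [Functor.map_comp]
    exact ht
  rw [hu, map_zero]

/-- An indecomposable injective subobject. -/
def IsBlock {K : X.Modules} (S : Subobject K) : Prop :=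
  Injective (S : X.Modules) ∧ ¬ IsZero (S : X.Modules) ∧
    ∀ A B : X.Modules, Nonempty ((S : X.Modules) ≅ A ⊞ B) → IsZero A ∨ IsZero B

/-- A nonzero injective contains an indecomposable injective. -/
theorem exists_block [IsLocallyNoetherian X] (K : X.Modules) (hK : Injective K) (h0 : ¬ IsZero K) :
    ∃ (H : X.Modules) (l : H ⟶ K), IsSplitMono l ∧ Injective H ∧ ¬ IsZero H ∧
      ∀ A B : X.Modules, Nonempty (H ≅ A ⊞ B) → IsZero A ∨ IsZero B := by
  obtain ⟨U, hU, φ, hφ⟩ := exists_gen_not_lift (0 : (0 : X.Modules) ⟶ K) (fun h => h0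
    (IsZero.of_iso (isZero_zero _) (@asIso _ _ _ _ (0 : (0 : X.Modules) ⟶ K) h).symm))
  have := isNoetherianObject_gen hU
  exact exists_indecomposable_summand φ fun h => hφ ⟨0, by rw [zero_comp, h]⟩

/-- An injective on a locally noetherian scheme is a coproduct of indecomposable injectives. -/
theorem exists_decomposition [IsLocallyNoetherian X] (K : X.Modules) (hK : Injective K) :
    ∃ (ι : Type u) (J : ι → X.Modules), (∀ i, Injective (J i)) ∧ (∀ i, ¬ IsZero (J i)) ∧
      (∀ i (A B : X.Modules), Nonempty (J i ≅ A ⊞ B) → IsZero A ∨ IsZero B) ∧ Nonempty (K ≅ ∐ J) := by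
  classical
  let κ : Type u := Shrink.{u} (Subobject K)
  let sb : κ → Subobject K := fun k => (equivShrink _).symm k
  let fam : Set κ → Prop := fun T => (∀ k ∈ T, IsBlock (sb k)) ∧
    Mono (Sigma.desc fun k : T => (sb k.1).arrow)
  obtain ⟨T, hT⟩ := zorn_subset {T : Set κ | fam T} fun c hc hch => by
    refine ⟨⋃₀ c, ⟨fun k ⟨t, ht, hk⟩ => (hc ht).1 k hk, ?_⟩, fun s hs => Set.subset_sUnion_of_mem hs⟩
    refine mono_desc_of_finite _ _ fun F => ?_
    rcases F.eq_empty_or_nonempty with rfl | hF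
    · have hz : IsZero (∐ fun i : ((∅ : Finset ↥(⋃₀ c))) => (sb i.1.1 : X.Modules)) :=
        (IsZero.iff_id_eq_zero _).2 (Sigma.hom_ext _ _ fun i => absurd i.2 (Finset.notMem_empty _))
      exact ⟨fun _ _ _ => hz.eq_of_tgt _ _⟩
    obtain ⟨k₀, -⟩ := hF
    obtain ⟨t₀, ht₀, -⟩ := k₀.2
    obtain ⟨t, ht, hFt⟩ := DirectedOn.exists_mem_subset_of_finset_subset_biUnion
      ⟨t₀, ht₀⟩ hch.directedOn (f := id) (s := F.image Subtype.val) (by
        intro k hk
        simp only [Finset.coe_image, Set.mem_image] at hk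
        obtain ⟨⟨k', t', ht', hk'⟩, -, rfl⟩ := hk
        exact Set.mem_biUnion ht' hk')
    have : Mono (Sigma.desc fun k : t => (sb k.1).arrow) := (hc ht).2
    let e : (∐ fun i : F => (sb i.1.1 : X.Modules)) ⟶ ∐ fun k : t => (sb k.1 : X.Modules) :=
      Sigma.desc fun i => Sigma.ι (fun k : t => (sb k.1 : X.Modules))
        ⟨i.1.1, hFt (Finset.mem_coe.2 (Finset.mem_image_of_mem _ i.2))⟩
    have : IsSplitMono e := by
      refine IsSplitMono.mk' ⟨Sigma.desc fun k =>
        if h : ∃ i : F, i.1.1 = k.1 then eqToHom (congrArg (fun k => (sb k : X.Modules)) h.choose_spec.symm) ≫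
          Sigma.ι (fun i : F => (sb i.1.1 : X.Modules)) h.choose else 0,
        Sigma.hom_ext _ _ fun i => ?_⟩
      simp only [e, Category.comp_id, Sigma.ι_desc_assoc]
      rw [Sigma.ι_desc, dif_pos ⟨i, rfl⟩]
      exact Sigma.eqToHom_comp_ι (fun i : F => (sb i.1.1 : X.Modules))
        (Subtype.ext (Subtype.ext (Exists.choose_spec (⟨i, rfl⟩ : ∃ i' : F, i'.1.1 = i.1.1)))).symm
    have he : subSum _ F ≫ Sigma.desc (fun k : ↥(⋃₀ c) => (sb k.1).arrow) =
        e ≫ Sigma.desc (fun k : t => (sb k.1).arrow) := Sigma.hom_ext _ _ fun i => by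
      simp only [e, Sigma.ι_desc, Sigma.ι_desc_assoc]
      exact ((ι_subSum_assoc (fun k : ↥(⋃₀ c) => (sb k.1 : X.Modules)) F i _).trans
        (Sigma.ι_desc _ _))
    rw [he]
    exact mono_comp _ _
  obtain ⟨hblock, hmono⟩ := hT.prop
  let d := Sigma.desc fun k : T => (sb k.1).arrow
  have hS : Injective (∐ fun k : T => (sb k.1 : X.Modules)) :=
    injective_coproduct _ fun k => (hblock k.1 k.2).1
  have : Mono d := hmono
  refine ⟨T, fun k => sb k.1, fun k => (hblock _ k.2).1, fun k => (hblock _ k.2).2.1,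
    fun k => (hblock _ k.2).2.2, ⟨?_⟩⟩
  let r := Injective.factorThru (𝟙 _) d
  have hr : d ≫ r = 𝟙 _ := Injective.comp_factorThru _ _
  let S : ShortComplex X.Modules := ShortComplex.mk d (cokernel.π d) (cokernel.condition _)
  let sp := ShortComplex.Splitting.ofExactOfRetraction S
    (ShortComplex.exact_of_g_is_cokernel _ (cokernelIsCokernel d)) r hr
    (inferInstanceAs (Epi (cokernel.π d)))
  suffices hC : IsZero (cokernel d) by
    have : Epi d := Preadditive.epi_of_cancel_zero _ fun g hg => by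
      rw [← cokernel.π_desc d g hg, hC.eq_of_src (cokernel.desc d g hg) 0, comp_zero]
    exact (@asIso _ _ _ _ d (isIso_of_mono_of_epi d)).symm
  by_contra hC
  have : Injective K := hK
  have : Injective (cokernel d) := Retract.injective ⟨sp.s, cokernel.π d, sp.s_g⟩
  obtain ⟨H, l, hl, hH, hH0, hHind⟩ := exists_block _ ‹_› hC
  have hvS : (l ≫ sp.s) ≫ cokernel.π d = l := by
    rw [Category.assoc, show sp.s ≫ cokernel.π d = 𝟙 _ from sp.s_g, Category.comp_id]
  have hvr : (l ≫ sp.s) ≫ r = 0 := by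
    rw [Category.assoc, show sp.s ≫ r = 0 from sp.s_r, comp_zero]
  have : Mono (l ≫ sp.s) := mono_of_mono_fac hvS
  let s₀ : κ := equivShrink _ (Subobject.mk (l ≫ sp.s))
  have hs₀ : sb s₀ = Subobject.mk (l ≫ sp.s) := Equiv.symm_apply_apply _ _
  have hle : ∀ k : T, Sigma.ι (fun k : T => (sb k.1 : X.Modules)) k ≫ d = (sb k.1).arrow :=
    fun k => Sigma.ι_desc _ _
  have hnot : s₀ ∉ T := fun hmem => hH0 (by
    have h1 : (sb s₀).arrow ≫ cokernel.π d = 0 := by
      rw [← hle ⟨s₀, hmem⟩, Category.assoc, cokernel.condition, comp_zero]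
    rw [hs₀, ← Subobject.underlyingIso_hom_comp_eq_mk, Category.assoc, hvS] at h1
    exact (IsZero.iff_id_eq_zero _).2 ((cancel_mono l).1 (by
      rw [Category.id_comp, zero_comp]; exact (cancel_epi _).1 (h1.trans comp_zero.symm))))
  let i₀ : (sb s₀ : X.Modules) ≅ H := eqToIso (by rw [hs₀]) ≪≫ Subobject.underlyingIso (l ≫ sp.s)
  have hi₀ : i₀.hom ≫ l ≫ sp.s = (sb s₀).arrow := by
    simp only [i₀, Iso.trans_hom, eqToIso.hom, Category.assoc,
      Subobject.underlyingIso_hom_comp_eq_mk]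
    exact Subobject.arrow_congr _ _ hs₀
  refine hnot (hT.2 (y := insert s₀ T) ⟨?_, ?_⟩ (Set.subset_insert _ _) (Set.mem_insert _ _))
  · rintro k (rfl | hk)
    · exact ⟨Injective.of_iso i₀.symm hH, fun h => hH0 (h.of_iso i₀.symm),
        fun A B ⟨e⟩ => hHind A B ⟨i₀.symm ≪≫ e⟩⟩
    · exact hblock k hk
  · have : IsSplitMono (Sigma.desc fun k : ↥(insert s₀ T) => (sb k.1).arrow) := by
      refine IsSplitMono.mk' ⟨r ≫ Sigma.desc (fun k : T =>
          Sigma.ι (fun k : ↥(insert s₀ T) => (sb k.1 : X.Modules)) ⟨k.1, Or.inr k.2⟩) +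
        cokernel.π d ≫ retraction l ≫ i₀.inv ≫
          Sigma.ι (fun k : ↥(insert s₀ T) => (sb k.1 : X.Modules)) ⟨s₀, Or.inl rfl⟩,
        Sigma.hom_ext _ _ fun ⟨k, hk⟩ => ?_⟩
      rcases hk with rfl | hk
      · rw [Category.comp_id, Preadditive.comp_add, Preadditive.comp_add, Sigma.ι_desc_assoc,
          Sigma.ι_desc_assoc, ← hi₀]
        simp only [Category.assoc]
        rw [show sp.s ≫ r ≫ _ = 0 from by rw [← Category.assoc, show sp.s ≫ r = 0 from sp.s_r, zero_comp],
          comp_zero, comp_zero, zero_add, reassoc_of% sp.s_g, IsSplitMono.id_assoc,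
          Iso.hom_inv_id_assoc]
      · rw [Category.comp_id, Preadditive.comp_add, Preadditive.comp_add, Sigma.ι_desc_assoc,
          Sigma.ι_desc_assoc, ← hle ⟨k, hk⟩]
        simp only [Category.assoc]
        rw [reassoc_of% hr, cokernel.condition_assoc, zero_comp, comp_zero, add_zero, Sigma.ι_desc]
    infer_instance

end Groth.Agent.InjMod
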