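import Groth.Agent.InjMod.Coprod

/-!
# Stalks of injective modules on a locally noetherian scheme are injective
-/

set_option autoImplicit false

universe u

open CategoryTheory CategoryTheory.Limits AlgebraicGeometry Opposite TopologicalSpace
open Groth.Agent.PullStalk.Sky Groth.Agent.KFlat.StalkTensor

namespace Groth.Agent.InjMod

variable {X : Scheme.{u}}

/-- The stalk of a coproduct is generated by the stalks of the summands. -/
theorem iSup_range_stalk {ι : Type u} (I : ι → X.Modules) (x : X) :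
    (⨆ i, LinearMap.range ((DerSch.stalkFunctor X x).map (Sigma.ι I i)).hom) = ⊤ := by
  let F := DerSch.stalkFunctor X x
  let P := ⨆ i, LinearMap.range (F.map (Sigma.ι I i)).hom
  let q : F.obj (∐ I) ⟶ ModuleCat.of _ (F.obj (∐ I) ⧸ P) := ModuleCat.ofHom P.mkQ
  have hq : q = 0 := by
    refine (isColimitOfHasCoproductOfPreservesColimit F I).hom_ext fun ⟨i⟩ => ?_
    rw [comp_zero]
    ext v
    exact (Submodule.Quotient.mk_eq_zero _).2 (Submodule.mem_iSup_of_mem i ⟨v, rfl⟩)
  exact eq_top_iff.2 fun v _ =>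
    (Submodule.Quotient.mk_eq_zero _).1 (congrArg (fun f => ModuleCat.Hom.hom f v) hq)

theorem germM_sum {M : X.Modules} {W : X.Opens} {y : X} (hy : y ∈ W) {ι : Type*} (s : Finset ι)
    (f : ι → Γ(M, W)) : germM M W y hy (∑ i ∈ s, f i) = ∑ i ∈ s, germM M W y hy (f i) :=
  map_sum (M.presheaf.germ W y hy).hom f s

theorem germM_zero {M : X.Modules} {W : X.Opens} {y : X} (hy : y ∈ W) :
    germM M W y hy (0 : Γ(M, W)) = 0 :=
  map_zero (M.presheaf.germ W y hy).hom

/-- The value on germs of a morphism out of a generator. -/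
theorem stalk_gen_hom {W : X.Opens} {M : X.Modules} (g : genMod W ⟶ M) {y : X} (hy : y ∈ W) :
    ((DerSch.stalkFunctor X y).map g).hom (genGerm hy) = germM M W y hy (g.app W (genSec W)) :=
  DerSch.stalkFunctor_map_germ y g W hy _

variable (I : X.Modules) (hI : Injective I) {W : X.Opens} {n : ℕ}
  (a : Fin n → Γ(X, W)) (m : Fin n → Γ(I, W))

include hI in
/-- Compatible values on finitely many functions extend, by injectivity, to multiplication by a section. -/
theorem exists_section_of_compat (h : ∀ (y : X) (hy : y ∈ W) (c : Fin n → X.presheaf.stalk y),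
      ∑ i, c i * X.presheaf.germ W y hy (a i) = 0 → ∑ i, c i • germM I W y hy (m i) = 0) :
    ∃ σ : Γ(I, W), ∀ i, a i • σ = m i := by
  let L : ULift.{u} (Fin n) → X.Modules := fun _ => genMod W
  choose φi hφi using fun i : ULift.{u} (Fin n) => exists_gen_hom W (M := genMod W) (a i.down • genSec W)
  choose gi hgi using fun i : ULift.{u} (Fin n) => exists_gen_hom W (M := I) (m i.down)
  let φ : ∐ L ⟶ genMod W := Sigma.desc φi
  let g : ∐ L ⟶ I := Sigma.desc gi
  have hker : kernel.ι φ ≫ g = 0 := by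
    refine eq_zero_of_stalk _ fun y t => ?_
    let F := DerSch.stalkFunctor X y
    rw [F.map_comp]
    have h0 : (F.map φ).hom ((F.map (kernel.ι φ)).hom t) = 0 := congrArg (fun f => ModuleCat.Hom.hom f t)
      ((F.map_comp _ _).symm.trans ((congrArg F.map (kernel.condition φ)).trans (F.map_zero _ _)))
    generalize ht : (F.map (kernel.ι φ)).hom t = u at h0
    show (F.map g).hom ((F.map (kernel.ι φ)).hom t) = 0
    rw [ht]
    by_cases hy : y ∈ W
    · let e : ULift.{u} (Fin n) → F.obj (∐ L) := fun i => (F.map (Sigma.ι L i)).hom (genGerm hy)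
      have hspan : Submodule.span (X.presheaf.stalk y) (Set.range e) = ⊤ := by
        rw [eq_top_iff, ← iSup_range_stalk L y]
        refine iSup_le fun i => ?_
        rintro _ ⟨v, rfl⟩
        obtain ⟨r, rfl⟩ := (smul_genGerm_bijective hy).2 v
        exact (congrArg (· ∈ _) (map_smul (F.map (Sigma.ι L i)).hom r (genGerm hy))).mpr
          (Submodule.smul_mem _ _ (Submodule.subset_span ⟨i, rfl⟩))
      obtain ⟨c, rfl⟩ := (Submodule.mem_span_range_iff_exists_fun _).1
        (hspan ▸ Submodule.mem_top : u ∈ Submodule.span (X.presheaf.stalk y) (Set.range e))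
      have hφe : ∀ i, (F.map φ).hom (e i) = X.presheaf.germ W y hy (a i.down) • genGerm hy := fun i => by
        refine (congrArg (fun f => ModuleCat.Hom.hom f (genGerm hy))
          ((F.map_comp _ _).symm.trans (congrArg F.map (Sigma.ι_desc φi i)))).trans ?_
        rw [stalk_gen_hom, hφi, germM_smul]
        rfl
      have hge : ∀ i, (F.map g).hom (e i) = germM I W y hy (m i.down) := fun i => by
        refine (congrArg (fun f => ModuleCat.Hom.hom f (genGerm hy))
          ((F.map_comp _ _).symm.trans (congrArg F.map (Sigma.ι_desc gi i)))).trans ?_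
        rw [stalk_gen_hom, hgi]
      simp only [map_sum, map_smul, hφe] at h0
      simp only [map_sum, map_smul, hge]
      rw [← Equiv.ulift.symm.sum_comp]
      refine h y hy (fun i => c ⟨i⟩) ?_
      refine (smul_genGerm_bijective hy).1 (Eq.trans ?_ (zero_smul _ _).symm)
      show (∑ i, c ⟨i⟩ * _) • genGerm hy = 0
      refine Eq.trans ?_ h0
      refine Finset.sum_smul.trans ?_
      exact Fintype.sum_equiv Equiv.ulift.symm _ _ fun i => mul_smul _ _ _
    · have hu : ∀ v : F.obj (∐ L), v = 0 := fun v => by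
        have : v ∈ ⨆ i, LinearMap.range (F.map (Sigma.ι L i)).hom := iSup_range_stalk L y ▸ Submodule.mem_top
        rw [show (⨆ i, LinearMap.range (F.map (Sigma.ι L i)).hom) = ⊥ from
          iSup_eq_bot.2 fun i => LinearMap.range_eq_bot.2 (LinearMap.ext fun w => by
            have : Subsingleton (F.obj (L i)) := subsingleton_stalk_gen (U := W) hy
            rw [Subsingleton.elim w 0, map_zero, map_zero])] at this
        exact this
      rw [hu u, map_zero]
  let p := Abelian.factorThruImage φ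
  have hp : kernel.ι p ≫ g = 0 := by
    rw [← kernel.lift_ι φ (kernel.ι p) ((congrArg (kernel.ι p ≫ ·) (Abelian.image.fac φ)).symm.trans
      (by rw [kernel.condition_assoc, zero_comp])), Category.assoc, hker, comp_zero]
  let k := Injective.factorThru (Abelian.epiDesc p g hp) (Abelian.image.ι φ)
  have hk : φ ≫ k = g := by
    rw [← Abelian.image.fac φ, Category.assoc, Injective.comp_factorThru, Abelian.comp_epiDesc]
  refine ⟨k.app W (genSec W), fun i => ?_⟩
  have h1 := congrArg (fun f => Sigma.ι L ⟨i⟩ ≫ f) hk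
  simp only [φ, g, Sigma.ι_desc_assoc, Sigma.ι_desc] at h1
  have h2 := congrArg (fun f : genMod W ⟶ I => f.app W (genSec W)) h1
  rw [Scheme.Modules.Hom.comp_app] at h2
  exact ((Scheme.Modules.Hom.app_smul k _ _).symm.trans (congrArg (k.app W) (hφi ⟨i⟩).symm)).trans
    (h2.trans (hgi ⟨i⟩))

include hI in
/-- Stalks of injective modules are injective on a locally noetherian scheme. -/
theorem stalk_injective [IsLocallyNoetherian X] (x : X) :
    Module.Injective (X.presheaf.stalk x) (I.presheaf.stalk x) := by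
  refine Module.Baer.injective fun 𝔞 f => ?_
  obtain ⟨V, hV, hxV, -⟩ :=
    exists_isAffineOpen_mem_and_subset (X := X) (x := x) (U := ⊤) trivial
  have : IsNoetherianRing Γ(X, V) := IsLocallyNoetherian.component_noetherian ⟨V, hV⟩
  let := X.presheaf.algebra_section_stalk (⟨x, hxV⟩ : V)
  have := hV.isLocalization_stalk ⟨x, hxV⟩
  obtain ⟨n, a, ha⟩ := Submodule.fg_iff_exists_fin_generating_family.1
    (IsNoetherian.noetherian (𝔞.comap (algebraMap Γ(X, V) (X.presheaf.stalk x))))
  have hmem : ∀ i, algebraMap Γ(X, V) (X.presheaf.stalk x) (a i) ∈ 𝔞 := fun i => by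
    show a i ∈ 𝔞.comap (algebraMap Γ(X, V) (X.presheaf.stalk x))
    rw [← ha]; exact Submodule.subset_span ⟨i, rfl⟩
  have h𝔞 : Submodule.span (X.presheaf.stalk x)
      (Set.range fun i => algebraMap Γ(X, V) (X.presheaf.stalk x) (a i)) = 𝔞 := by
    rw [← IsLocalization.map_under (hV.primeIdealOf ⟨x, hxV⟩).asIdeal.primeCompl _ 𝔞]
    simp only [← ha]
    rw [show Submodule.span Γ(X, V) (Set.range a) = Ideal.span (Set.range a) from rfl, Ideal.map_span,
      ← Set.range_comp]
    rfl
  choose Wi hxWi si hsi using fun i => exists_germM_eq I x (f ⟨_, hmem i⟩)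
  let W₀ : X.Opens := ⟨(V : Set X) ∩ ⋂ i, (Wi i : Set X),
    V.2.inter (isOpen_iInter_of_finite fun i => (Wi i).2)⟩
  have hW₀V : W₀ ≤ V := fun y hy => hy.1
  have hxW₀ : x ∈ W₀ := ⟨hxV, Set.mem_iInter.2 hxWi⟩
  let m₀ : Fin n → Γ(I, W₀) := fun i =>
    I.presheaf.map (homOfLE (fun y hy => Set.mem_iInter.1 hy.2 i : W₀ ≤ Wi i)).op (si i)
  let a₀ : Fin n → Γ(X, W₀) := fun i => X.presheaf.map (homOfLE hW₀V).op (a i)
  have ha₀ : ∀ (y : X) (hy : y ∈ W₀) (r : Γ(X, V)),
      X.presheaf.germ W₀ y hy (X.presheaf.map (homOfLE hW₀V).op r) = X.presheaf.germ V y (hW₀V hy) r :=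
    fun y hy r => X.presheaf.germ_res_apply _ y hy r
  have hm₀ : ∀ i, germM I W₀ x hxW₀ (m₀ i) = f ⟨_, hmem i⟩ := fun i =>
    (I.presheaf.germ_res_apply _ x hxW₀ (si i)).trans (hsi i)
  obtain ⟨s, hs⟩ := IsNoetherian.noetherian (LinearMap.ker (Fintype.linearCombination Γ(X, V) a))
  let z : (Fin n → Γ(X, V)) → Γ(I, W₀) := fun r => ∑ i, X.presheaf.map (homOfLE hW₀V).op (r i) • m₀ i
  have hz : ∀ r : s, ∃ O : X.Opens, x ∈ O ∧ ∀ (y : X) (hy : y ∈ W₀), y ∈ O →
      germM I W₀ y hy (z r) = 0 := by
    intro r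
    have hr : ∑ i, r.1 i * a i = 0 := by
      have : r.1 ∈ LinearMap.ker (Fintype.linearCombination Γ(X, V) a) := hs ▸ Submodule.subset_span r.2
      exact this
    have h0 : germM I W₀ x hxW₀ (z r) = germM I W₀ x hxW₀ 0 := by
      rw [germM_zero]
      simp only [z, germM_sum, germM_smul, ha₀, hm₀, ← map_smul, ← map_sum]
      refine (congrArg f (Subtype.ext ?_)).trans f.map_zero
      simp only [AddSubmonoidClass.coe_finsetSum, SetLike.val_smul, smul_eq_mul, ZeroMemClass.coe_zero]
      exact ((map_sum (X.presheaf.germ V x hxV).hom _ _).trans (Finset.sum_congr rfl fun i _ =>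
        map_mul _ _ _)).symm.trans ((congrArg _ hr).trans (map_zero _))
    obtain ⟨O, hO, i₁, i₂, e⟩ := I.presheaf.germ_eq x hxW₀ hxW₀ _ _ h0
    refine ⟨O, hO, fun y hy hyO => ?_⟩
    refine (I.presheaf.germ_res_apply i₁ y hyO (z r)).symm.trans ((congrArg (I.presheaf.germ O y hyO) e).trans ?_)
    rw [map_zero, map_zero]
  choose O hxO hO using hz
  let W : X.Opens := ⟨(W₀ : Set X) ∩ ⋂ r, (O r : Set X), W₀.2.inter (isOpen_iInter_of_finite fun r => (O r).2)⟩
  have hWW₀ : W ≤ W₀ := fun y hy => hy.1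
  obtain ⟨σ, hσ⟩ := exists_section_of_compat I hI
    (fun i => X.presheaf.map (homOfLE hWW₀).op (a₀ i)) (fun i => I.presheaf.map (homOfLE hWW₀).op (m₀ i))
    (fun y hy c hc => by
      have hy₀ : y ∈ W₀ := hWW₀ hy
      have hg : ∀ i, X.presheaf.germ W y hy (X.presheaf.map (homOfLE hWW₀).op (a₀ i)) =
          X.presheaf.germ V y (hW₀V hy₀) (a i) := fun i =>
        (X.presheaf.germ_res_apply _ y hy _).trans (ha₀ y hy₀ _)
      have hm : ∀ i, germM I W y hy (I.presheaf.map (homOfLE hWW₀).op (m₀ i)) = germM I W₀ y hy₀ (m₀ i) :=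
        fun i => I.presheaf.germ_res_apply _ y hy _
      simp only [hg] at hc
      simp only [hm]
      let := X.presheaf.algebra_section_stalk (⟨y, hW₀V hy₀⟩ : V)
      have := hV.isLocalization_stalk ⟨y, hW₀V hy₀⟩
      obtain ⟨b, hb⟩ := IsLocalization.exist_integer_multiples_of_finite
        (hV.primeIdealOf ⟨y, hW₀V hy₀⟩).asIdeal.primeCompl c
      choose d hd using hb
      have hd' : ∀ i, X.presheaf.germ V y (hW₀V hy₀) (d i) =
          X.presheaf.germ V y (hW₀V hy₀) b.1 * c i := fun i => (hd i).trans (Algebra.smul_def b.1 (c i))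
      obtain ⟨e, he⟩ : ∃ e : (hV.primeIdealOf ⟨y, hW₀V hy₀⟩).asIdeal.primeCompl, e.1 * ∑ i, d i * a i = 0 := by
        refine (IsLocalization.map_eq_zero_iff _ (X.presheaf.stalk y) _).1 ?_
        refine (map_sum (X.presheaf.germ V y (hW₀V hy₀)).hom _ _).trans ?_
        refine (Finset.sum_congr rfl fun i _ => (map_mul _ _ _).trans
          ((congrArg (· * _) (hd' i)).trans (mul_assoc _ _ _))).trans ?_
        rw [← Finset.mul_sum]
        exact (congrArg _ hc).trans (mul_zero _)
      have hu : IsUnit (X.presheaf.germ V y (hW₀V hy₀) (e.1 * b.1)) :=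
        IsLocalization.map_units (X.presheaf.stalk y) (e * b)
      refine hu.smul_eq_zero.1 ?_
      have key : ∀ r ∈ LinearMap.ker (Fintype.linearCombination Γ(X, V) a),
          ∑ i, X.presheaf.germ V y (hW₀V hy₀) (r i) • germM I W₀ y hy₀ (m₀ i) = 0 := by
        intro r hr
        rw [← hs] at hr
        induction hr using Submodule.span_induction with
        | mem r hr =>
          have := hO ⟨r, hr⟩ y hy₀ (Set.mem_iInter.1 hy.2 ⟨r, hr⟩)
          simpa only [z, germM_sum, germM_smul, ha₀] using this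
        | zero => simp
        | add r r' _ _ h h' => simp [add_smul, Finset.sum_add_distrib, h, h']
        | smul q r _ h =>
          simp only [Pi.smul_apply, smul_eq_mul, map_mul, mul_smul, ← Finset.smul_sum, h, smul_zero]
      refine Eq.trans ?_ (key (fun i => e.1 * d i) ?_)
      · rw [Finset.smul_sum]
        refine Finset.sum_congr rfl fun i _ => ?_
        rw [smul_smul, map_mul, map_mul, hd' i, mul_assoc]
      · show ∑ i, (e.1 * d i) * a i = 0
        simp only [mul_assoc, ← Finset.mul_sum, he])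
  have hxW : x ∈ W := ⟨hxW₀, Set.mem_iInter.2 hxO⟩
  refine ⟨LinearMap.toSpanSingleton _ _ (germM I W x hxW σ), fun r hr => ?_⟩
  let Ψ : (X.presheaf.stalk x) →ₗ[X.presheaf.stalk x] I.presheaf.stalk x :=
    LinearMap.toSpanSingleton _ _ (germM I W x hxW σ)
  have hext : Ψ.comp (Submodule.subtype 𝔞) = f := by
    refine LinearMap.ext_on (s := Set.range fun i => (⟨_, hmem i⟩ : 𝔞)) ?_ ?_
    · apply Submodule.map_injective_of_injective (f := 𝔞.subtype) 𝔞.injective_subtype
      rw [Submodule.map_span, Submodule.map_top, Submodule.range_subtype, ← Set.range_comp]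
      exact h𝔞
    · rintro _ ⟨i, rfl⟩
      show algebraMap Γ(X, V) (X.presheaf.stalk x) (a i) • germM I W x hxW σ = f ⟨_, hmem i⟩
      have h3 := congrArg (germM I W x hxW) (hσ i)
      rw [germM_smul] at h3
      refine Eq.trans ?_ ((h3.trans (I.presheaf.germ_res_apply _ x hxW _)).trans (hm₀ i))
      exact congrArg (· • germM I W x hxW σ)
        ((X.presheaf.germ_res_apply _ x hxW _).trans (ha₀ x hxW₀ _)).symm
  exact LinearMap.congr_fun hext ⟨r, hr⟩

end Groth.Agent.InjMod
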