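import Groth.Agent.InjMod.PushSky
import Groth.Agent.InjMod.Decomp
import Groth.Agent.InjMod.StalkInj
import Groth.Agent.AssSch.Stalk
import Groth.Agent.QCoh.Exact

/-!
# Injective objects of quasi-coherent modules are injective
-/

set_option autoImplicit false

universe u

open CategoryTheory CategoryTheory.Limits AlgebraicGeometry Opposite TopologicalSpace
open Groth.Agent.PullStalk.Sky Groth.Agent.KFlat.StalkTensor

namespace Groth.Agent.InjMod

variable {X : Scheme.{u}}

/-- Retracts of quasi-coherent modules are quasi-coherent. -/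
theorem isQCoh_of_retract {M N : X.Modules} (i : M ⟶ N) (r : N ⟶ M) (h : i ≫ r = 𝟙 M)
    (hN : Coh.IsQCoh N) : Coh.IsQCoh M := by
  have : N.IsQuasicoherent := hN
  have hk : kernel.ι (r ≫ i - 𝟙 N) ≫ (r ≫ i - 𝟙 N) = 0 := kernel.condition _
  rw [Preadditive.comp_sub, sub_eq_zero, Category.comp_id] at hk
  let e : kernel (r ≫ i - 𝟙 N) ≅ M :=
    { hom := kernel.ι _ ≫ r
      inv := kernel.lift _ i (by rw [Preadditive.comp_sub, reassoc_of% h, Category.comp_id, sub_self])
      hom_inv_id := by
        rw [← cancel_mono (kernel.ι (r ≫ i - 𝟙 N)), Category.assoc, kernel.lift_ι, Category.assoc,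
          Category.id_comp, hk]
      inv_hom_id := by rw [← Category.assoc, kernel.lift_ι, h] }
  exact (SheafOfModules.isQuasicoherent X.ringCatSheaf).prop_of_iso e
    (Groth.Agent.QCoh.isQuasicoherent_kernel (r ≫ i - 𝟙 N))

/-- A nonzero morphism has a nonzero value on a section over some affine open. -/
theorem exists_section_ne_zero {M N : X.Modules} (f : M ⟶ N) (hf : f ≠ 0) :
    ∃ (V : X.Opens) (_ : IsAffineOpen V) (t : Γ(M, V)), f.app V t ≠ 0 := by
  by_contra h
  push Not at h
  refine hf (eq_zero_of_stalk f fun y t => ?_)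
  obtain ⟨U, hy, m, rfl⟩ := exists_germM_eq M y t
  obtain ⟨V, hV, hyV, hVU⟩ := exists_isAffineOpen_mem_and_subset (X := X) hy
  rw [show germM M U y hy m = germM M V y hyV (M.presheaf.map (homOfLE hVU).op m) from
    (M.presheaf.germ_res_apply _ y hyV m).symm]
  refine (DerSch.stalkFunctor_map_germ y f V hyV _).trans ?_
  rw [h V hV _]
  exact map_zero (N.presheaf.germ V y hyV).hom

/-- An indecomposable injective meeting a quasi-coherent module is quasi-coherent. -/
theorem isQCoh_of_meets [IsLocallyNoetherian X] {H J N : X.Modules} [J.IsQuasicoherent]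
    (hH : Injective H) (hind : ∀ A B : X.Modules, Nonempty (H ≅ A ⊞ B) → IsZero A ∨ IsZero B)
    (z : H ⟶ N) [Mono z] (j : J ⟶ N) [Mono j] {W : X.Modules} (w : W ⟶ J) (y : W ⟶ H) (hw : w ≠ 0)
    (heq : w ≫ j = y ≫ z) : Coh.IsQCoh H := by
  obtain ⟨D, hD, t, ht⟩ := exists_section_ne_zero w hw
  have : IsNoetherianRing Γ(X, D) := IsLocallyNoetherian.component_noetherian ⟨D, hD⟩
  let s₀ := w.app D t
  let h₀ := y.app D t
  have hjz₀ : j.app D s₀ = z.app D h₀ := congrArg (fun f : W ⟶ N => f.app D t) heq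
  have : Nontrivial (Submodule.span Γ(X, D) {s₀}) :=
    Submodule.nontrivial_iff_ne_bot.2 (by simpa [Submodule.span_singleton_eq_bot] using ht)
  obtain ⟨p, hp, f, hf⟩ := InjHull.Prime.exists_prime_embedding (R := Γ(X, D))
    (Submodule.span Γ(X, D) {s₀})
  obtain ⟨r, hr⟩ := Submodule.mem_span_singleton.1 (f (Ideal.Quotient.mk p 1)).2
  let s := r • s₀
  let h := r • h₀
  have hjz : j.app D s = z.app D h :=
    (Scheme.Modules.Hom.app_smul j r s₀).trans ((congrArg (r • ·) hjz₀).trans
      (Scheme.Modules.Hom.app_smul z r h₀).symm)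
  have hann : ∀ a : Γ(X, D), a • s = 0 ↔ a ∈ p := fun a => by
    have e : a • s = (f (a • Ideal.Quotient.mk p 1)).1 := by
      rw [map_smul, Submodule.coe_smul, ← hr]
    rw [e, Submodule.coe_eq_zero, map_eq_zero_iff f hf, InjHull.Prime.smul_eq_zero_of_prime p]
    have : Nontrivial (Γ(X, D) ⧸ p) := Ideal.Quotient.nontrivial_iff.mpr hp.ne_top
    exact or_iff_left one_ne_zero
  clear_value s h
  have hannh : ∀ a : Γ(X, D), a • h = 0 ↔ a ∈ p := fun a => by
    rw [← hann a, ← map_eq_zero_iff (z.app D).hom (QCoh.app_injective_of_mono z D),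
      ← map_eq_zero_iff (j.app D).hom (QCoh.app_injective_of_mono j D)]
    show z.app D (a • h) = 0 ↔ j.app D (a • s) = 0
    rw [Scheme.Modules.Hom.app_smul, Scheme.Modules.Hom.app_smul, hjz]
  let pt : X := hD.fromSpec ⟨p, hp⟩
  have hpt : pt ∈ D := by
    have : pt ∈ Set.range hD.fromSpec := ⟨_, rfl⟩
    rwa [hD.range_fromSpec] at this
  have hprime : hD.primeIdealOf ⟨pt, hpt⟩ = ⟨p, hp⟩ :=
    hD.fromSpec.isOpenEmbedding.injective (hD.fromSpec_primeIdealOf ⟨pt, hpt⟩)
  let O := X.presheaf.stalk pt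
  let eH := germM H D pt hpt h
  have he0 : eH ≠ 0 := by
    intro he
    have h1 : ((DerSch.stalkFunctor X pt).map j).hom (germM J D pt hpt s) = 0 := by
      refine (DerSch.stalkFunctor_map_germ pt j D hpt s).trans ?_
      refine (congrArg (N.presheaf.germ D pt hpt) hjz).trans ?_
      refine (DerSch.stalkFunctor_map_germ pt z D hpt h).symm.trans ?_
      exact (congrArg ((DerSch.stalkFunctor X pt).map z).hom he).trans (map_zero _)
    obtain ⟨g, hg, hgs⟩ := (AssSch.Stalk.germM_eq_zero_iff J hD pt hpt s).1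
      ((injective_iff_map_eq_zero _).1 (stalk_map_injective pt j) _ h1)
    exact hg (by rw [AssSch.Stalk.primeOf, hprime]; exact (hann g).1 hgs)
  let alg : Algebra Γ(X, D) O := X.presheaf.algebra_section_stalk (⟨pt, hpt⟩ : D)
  have : IsLocalization.AtPrime O p := by
    have := hD.isLocalization_stalk ⟨pt, hpt⟩
    simp only [hprime] at this
    exact this
  have hkill : ∀ a ∈ IsLocalRing.maximalIdeal O, a • eH = 0 := by
    intro a ha
    obtain ⟨⟨b, c⟩, hbc⟩ := IsLocalization.surj p.primeCompl a
    have hc : IsUnit (algebraMap Γ(X, D) O c) := IsLocalization.map_units O c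
    have hb : b ∈ p := by
      rw [← IsLocalization.AtPrime.to_map_mem_maximal_iff O p]
      exact hbc ▸ Ideal.mul_mem_right _ _ ha
    refine hc.smul_eq_zero.1 ?_
    rw [smul_smul, mul_comm, hbc]
    refine (germM_smul H D pt hpt b h).symm.trans ?_
    rw [(hannh b).2 hb]
    exact map_zero (H.presheaf.germ D pt hpt).hom
  let ψ : IsLocalRing.ResidueField O →ₗ[O] H.presheaf.stalk pt :=
    Submodule.liftQ (IsLocalRing.maximalIdeal O) (LinearMap.toSpanSingleton O _ eH)
      (fun a ha => hkill a ha)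
  have hψ1 : ψ (Submodule.Quotient.mk (1 : O)) = eH := one_smul O eH
  have hψ : Function.Injective ψ := by
    rw [← LinearMap.ker_eq_bot, Submodule.eq_bot_iff]
    intro v hv
    induction v using Submodule.Quotient.induction_on with
    | _ a =>
      have ha : a • eH = 0 := hv
      refine (Submodule.Quotient.mk_eq_zero _).2 ?_
      by_contra hu
      exact he0 ((IsLocalRing.notMem_maximalIdeal.1 hu).smul_eq_zero.1 ha)
  obtain ⟨E, hess, hE⟩ := InjHull.Basic.exists_hull_in (stalk_injective H hH pt) (LinearMap.range ψ)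
  let i : IsLocalRing.ResidueField O →ₗ[O] E := ψ.codRestrict E fun a => hess.1 ⟨a, rfl⟩
  have hi : _root_.InjHull.IsInjectiveHull i := by
    refine ⟨InjHull.Basic.isEssentialInj_iff.mpr ⟨fun a b e => hψ (congrArg Subtype.val e), fun x hx => ?_⟩, hE⟩
    obtain ⟨c, ⟨m, hm⟩, hc0⟩ := hess.2 x x.2 (by simpa using hx)
    exact ⟨c, ⟨m, Subtype.ext hm⟩, fun e => hc0 (by simpa using congrArg Subtype.val e)⟩
  obtain ⟨π, hπ⟩ := hE.out E.subtype Subtype.val_injective LinearMap.id
  let θ : H ⟶ sky pt E := toSky π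
  have hπe : π eH ≠ 0 := by
    intro e
    have h2 : (⟨eH, hess.1 ⟨_, hψ1⟩⟩ : E) = 0 := (hπ ⟨eH, hess.1 ⟨_, hψ1⟩⟩).symm.trans e
    exact he0 (congrArg Subtype.val h2)
  obtain ⟨g, hg⟩ := exists_gen_hom D (M := H) h
  have hzero : ∀ (y : X) (u : (DerSch.stalkFunctor X y).obj H),
      u ∈ LinearMap.range ((DerSch.stalkFunctor X y).map g).hom →
      ((DerSch.stalkFunctor X y).map θ).hom u = 0 → u = 0 := by
    rintro y _ ⟨v, rfl⟩ hθ
    by_cases hy : y ∈ D
    · obtain ⟨c, rfl⟩ := (smul_genGerm_bijective hy).2 v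
      let alg' : Algebra Γ(X, D) (X.presheaf.stalk y) := X.presheaf.algebra_section_stalk (⟨y, hy⟩ : D)
      have := hD.isLocalization_stalk ⟨y, hy⟩
      obtain ⟨⟨a, b⟩, hab⟩ := IsLocalization.surj (hD.primeIdealOf ⟨y, hy⟩).asIdeal.primeCompl c
      have hb : IsUnit (algebraMap Γ(X, D) (X.presheaf.stalk y) b) := IsLocalization.map_units _ b
      have hv : algebraMap Γ(X, D) (X.presheaf.stalk y) b •
          ((DerSch.stalkFunctor X y).map g).hom (c • genGerm hy) = germM H D y hy (a • h) := by
        refine (congrArg (algebraMap Γ(X, D) (X.presheaf.stalk y) b • ·)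
          (map_smul ((DerSch.stalkFunctor X y).map g).hom c (genGerm hy))).trans ?_
        rw [smul_smul, mul_comm, hab]
        refine (congrArg (algebraMap Γ(X, D) (X.presheaf.stalk y) a • ·)
          ((stalk_gen_hom g hy).trans (congrArg (germM H D y hy) hg))).trans ?_
        exact (germM_smul H D y hy a h).symm
      refine hb.smul_eq_zero.1 (hv.trans ?_)
      by_cases ha : a ∈ p
      · rw [(hannh a).2 ha]
        exact map_zero (H.presheaf.germ D y hy).hom
      by_cases hle : p ≤ (hD.primeIdealOf ⟨y, hy⟩).asIdeal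
      · exfalso
        have hspec : pt ⤳ y := by
          have h3 : (⟨p, hp⟩ : PrimeSpectrum Γ(X, D)) ⤳ hD.primeIdealOf ⟨y, hy⟩ :=
            (PrimeSpectrum.le_iff_specializes _ _).1 hle
          have := Specializes.map h3 hD.fromSpec.continuous
          rwa [hD.fromSpec_primeIdealOf ⟨y, hy⟩] at this
        have h4 : ((DerSch.stalkFunctor X y).map θ).hom (germM H D y hy (a • h)) = 0 := by
          rw [← hv, map_smul, hθ, smul_zero]
        have h5 := ((DerSch.stalkFunctor_map_germ y θ D hy (a • h)).symm.trans h4).trans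
          (map_zero ((sky pt E).presheaf.germ D y hy).hom).symm
        obtain ⟨U, hyU, i₁, i₂, e⟩ := (sky pt E).presheaf.germ_eq y hy hy _ _ h5
        rw [map_zero] at e
        have h6 : π (germM H D pt (i₁.le (hspec.mem_open U.2 hyU)) (a • h)) = 0 :=
          congrFun e ⟨hspec.mem_open U.2 hyU⟩
        rw [germM_smul, map_smul] at h6
        have hu : IsUnit (algebraMap Γ(X, D) O a) := IsLocalization.map_units O (⟨a, ha⟩ : p.primeCompl)
        exact hπe (hu.smul_eq_zero.1 h6)
      · obtain ⟨q, hqp, hqy⟩ := Set.not_subset.1 hle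
        have hq : IsUnit (algebraMap Γ(X, D) (X.presheaf.stalk y) q) :=
          IsLocalization.map_units _ (⟨q, hqy⟩ : (hD.primeIdealOf ⟨y, hy⟩).asIdeal.primeCompl)
        refine hq.smul_eq_zero.1 ((germM_smul H D y hy q (a • h)).symm.trans ?_)
        rw [smul_comm, (hannh q).2 hqp, smul_zero]
        exact map_zero (H.presheaf.germ D y hy).hom
    · have := subsingleton_stalk_gen (U := D) hy
      rw [show v = 0 from Subsingleton.elim (α := (genMod D).presheaf.stalk y) _ _, map_zero]
  have hA : IsZero (kernel θ) := by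
    by_contra hA
    have hne : ¬ IsZero (Abelian.image g) := by
      intro hz
      have hg0 : g = 0 := by rw [← Abelian.image.fac g, hz.eq_of_src (Abelian.image.ι g) 0, comp_zero]
      rw [hg0] at hg
      refine he0 ?_
      show germM H D pt hpt h = 0
      rw [← hg]
      exact map_zero (H.presheaf.germ D pt hpt).hom
    have : Injective H := hH
    refine GabLocLib.uniform.{u} hind (kernel.ι θ) (Abelian.image.ι g) hA hne ?_
    rw [IsZero.iff_id_eq_zero]
    refine (cancel_mono (pullback.fst (kernel.ι θ) (Abelian.image.ι g) ≫ kernel.ι θ)).1 ?_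
    rw [Category.id_comp, zero_comp]
    refine eq_zero_of_stalk _ fun y u => ?_
    let F := DerSch.stalkFunctor X y
    refine hzero y _ ?_ ?_
    · have : Function.Surjective (F.map (Abelian.factorThruImage g)).hom :=
        (ModuleCat.epi_iff_surjective _).1 inferInstance
      obtain ⟨v, hv⟩ := this ((F.map (pullback.snd (kernel.ι θ) (Abelian.image.ι g))).hom u)
      refine ⟨v, ?_⟩
      conv_lhs => rw [← Abelian.image.fac g]
      rw [pullback.condition, F.map_comp, F.map_comp, ModuleCat.hom_comp, LinearMap.comp_apply, hv]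
      rfl
    · refine (congrArg (fun f => ModuleCat.Hom.hom f u) (F.map_comp _ θ).symm).trans ?_
      rw [Category.assoc, kernel.condition, comp_zero, F.map_zero]
      rfl
  have : Mono θ := Preadditive.mono_of_kernel_zero (hA.eq_of_src _ _)
  exact isQCoh_of_retract θ (@Injective.factorThru _ _ _ _ _ hH (𝟙 H) θ this)
    (@Injective.comp_factorThru _ _ _ _ _ hH _ θ this) (isQCoh_sky pt E i hi)

/-- Injective objects of quasi-coherent modules are injective modules. -/
theorem injective_of_injective_qcoh [IsLocallyNoetherian X]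
    (J : ObjectProperty.FullSubcategory (fun M : X.Modules => Coh.IsQCoh M)) (hJ : Injective J) :
    Injective J.obj := by
  have : J.obj.IsQuasicoherent := J.property
  obtain ⟨H, l, hl, hH, j, hjl, hess⟩ := exists_hull.{u} (Injective.ι J.obj)
  have : Mono j := mono_of_mono_fac hjl
  obtain ⟨ι, K, hK, hK0, hKind, ⟨e⟩⟩ := exists_decomposition H hH
  have hq : ∀ k, Coh.IsQCoh (K k) := by
    intro k
    have : IsSplitMono (Sigma.ι K k) := by
      classical
      exact IsSplitMono.mk' ⟨Sigma.desc fun l => if hl : l = k then eqToHom (congrArg K hl) else 0, by simp⟩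
    by_contra hn
    refine hK0 k (hess (Sigma.ι K k ≫ e.inv) inferInstance fun W w y hw => ?_)
    by_contra hw0
    exact hn (isQCoh_of_meets (hK k) (hKind k) (Sigma.ι K k ≫ e.inv) j w y hw0 hw)
  have hsum : Coh.IsQCoh H :=
    (SheafOfModules.isQuasicoherent X.ringCatSheaf).prop_of_iso e.symm
      (@QCoh.isQuasicoherent_coproduct _ _ K hq)
  let jq : J ⟶ (⟨H, hsum⟩ : ObjectProperty.FullSubcategory (fun M : X.Modules => Coh.IsQCoh M)) :=
    ObjectProperty.homMk j
  have : Mono jq := (ObjectProperty.ι _).mono_of_mono_map (show Mono j by infer_instance)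
  obtain ⟨r, hr⟩ : ∃ r, jq ≫ r = 𝟙 J := ⟨Injective.factorThru (𝟙 J) jq, Injective.comp_factorThru _ _⟩
  exact Retract.injective ⟨j, r.hom, congrArg InducedCategory.Hom.hom hr⟩

end Groth.Agent.InjMod
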