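import Groth.Agent.InjMod.HomStalk
import Groth.Agent.KFlat.ProjFormula
import Mathlib.RingTheory.Finiteness.Basic

/-!
# The internal Hom out of a finite locally free module
-/

set_option autoImplicit false
set_option maxHeartbeats 1600000

universe u

open CategoryTheory CategoryTheory.Limits AlgebraicGeometry Opposite TopologicalSpace MonoidalCategory
open Groth.Agent.PullStalk.Sky Groth.Agent.KFlat.StalkTensor Groth.Agent.KFlat
open scoped TensorProduct

noncomputable section

namespace Groth.Agent.InjMod

variable {X : Scheme.{u}}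

/-- `E` has a finite frame near every point. -/
def HasFrames (E : X.Modules) : Prop :=
  ∀ x : X, ∃ (W : X.Opens) (n : ℕ) (e : Fin n → Γ(E, W)), x ∈ W ∧ LFFrame.IsFrame E W e

theorem hasFrames_of_isFinLocFree {E : X.Modules} (hE : FlatMod.IsFinLocFree E) : HasFrames E :=
  fun x => LFFrame.exists_isFrame_of_isFinLocFree hE x

theorem HasFrames.free {E : X.Modules} (hE : HasFrames E) (x : X) :
    Module.Free (X.presheaf.stalk x) (E.presheaf.stalk x) ∧
      Module.Finite (X.presheaf.stalk x) (E.presheaf.stalk x) := by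
  obtain ⟨W, n, e, hx, he⟩ := hE x
  let l := LinearEquiv.ofBijective (LFFrame.stalkComb E e x hx) (he.stalkComb_bijective x hx)
  exact ⟨Module.Free.of_equiv l, Module.Finite.equiv l⟩

theorem HasFrames.evStalk_bij {E : X.Modules} [ModSite.HasSheafHom (O := X.sheaf) E] (hE : HasFrames E)
    (N : X.Modules) (x : X) : Function.Bijective (evStalk E N x) := by
  obtain ⟨W, n, e, hx, he⟩ := hE x
  exact ⟨evStalk_injective hx e fun y hy => (he.stalkComb_bijective y hy).2, evStalk_surjective hx he⟩

variable {E : X.Modules} [ModSite.HasSheafHom (O := X.sheaf) E]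

/-- `ℋom(E, -)` preserves epimorphisms for `E` finite locally free. -/
theorem epi_homF_map (hE : HasFrames E) {N N' : X.Modules} (g : N ⟶ N') [Epi g] :
    Epi ((homF E).map g) := by
  refine Preadditive.epi_of_cancel_zero _ fun {Z} k hk => eq_zero_of_stalk k fun y t => ?_
  have := (hE.free y).1
  obtain ⟨l, hl⟩ := Module.projective_lifting_property (stL g y) (evStalk E N' y t)
    (PullStalk.Exact.stalk_surjective g y)
  obtain ⟨s, rfl⟩ := (hE.evStalk_bij N y).2 l
  have ht : stL ((homF E).map g) y s = t :=
    (hE.evStalk_bij N' y).1 ((evStalk_natural g s).trans hl)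
  show stL k y t = 0
  rw [← ht]
  refine (LinearMap.congr_fun (stL_comp _ k y) s).symm.trans ?_
  rw [hk]
  exact congrArg (fun f => ModuleCat.Hom.hom f s) ((DerSch.stalkFunctor X y).map_zero _ _)

/-- `ℋom(E, -)` is exact for `E` finite locally free. -/
theorem preservesFiniteColimits_homF (hE : HasFrames E) :
    (homF E).Additive ∧ PreservesFiniteLimits (homF E) ∧ PreservesFiniteColimits (homF E) := by
  have hl : PreservesFiniteLimits (homF E) :=
    ⟨fun K _ _ => ((homAdj E).rightAdjoint_preservesLimits.preservesLimitsOfShape : PreservesLimitsOfShape K _)⟩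
  have hb : PreservesBinaryBiproducts (homF E) := preservesBinaryBiproducts_of_preservesBinaryProducts _
  have ha : (homF E).Additive := Functor.additive_of_preservesBinaryBiproducts _
  have he : (homF E).PreservesEpimorphisms := ⟨fun g _ => epi_homF_map hE g⟩
  exact ⟨ha, hl, by
    have := Functor.preservesHomology_of_preservesEpis_and_kernels (homF E)
    exact Functor.preservesFiniteColimits_of_preservesHomology _⟩

omit [ModSite.HasSheafHom (O := X.sheaf) E] in
theorem isFlat_of_hasFrames (hE : HasFrames E) : FlatMod.IsFlat E := fun x => by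
  have := (hE.free x).1
  exact Module.Flat.of_free

/-- `ℋom(E, -)` preserves injectives for `E` finite locally free. -/
theorem injective_homF (hE : HasFrames E) (Q : X.Modules) [Injective Q] :
    Injective ((homF E).obj Q) := by
  have : (ChgRings.tensR E).PreservesMonomorphisms :=
    KFlat.StalkTensor.tensorMono_of_flat (isFlat_of_hasFrames hE)
  exact Injective.injective_of_adjoint (homAdj E) Q

/-! ### Pairings -/

theorem sh_map_unit {P Q : ModSite.preMod X.sheaf} (k : P ⟶ Q) (U : X.Opens)
    (z : P.obj (op U)) :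
    Scheme.Modules.Hom.app (show (ModSite.shPre X.sheaf).obj P ⟶ (ModSite.shPre X.sheaf).obj Q from
        (ModSite.shPre X.sheaf).map k) U (((preAdj X.sheaf).unit.app P).app (op U) z) =
      ((preAdj X.sheaf).unit.app Q).app (op U) (k.app (op U) z) :=
  (congrArg (fun χ => PresheafOfModules.Hom.app χ (op U) z) ((preAdj X.sheaf).unit.naturality k)).symm

/-- `(A ⊗ B) ⊗ D ≅ A ⊗ (B ⊗ D)` on sections. -/
theorem assocApp_tmulSec (A B D : X.Modules) (U : X.Opens) (a : Γ(A, U)) (b : Γ(B, U)) (d : Γ(D, U)) :
    Scheme.Modules.Hom.app (show tensM (tensM A B) D ⟶ tensM A (tensM B D) from (ModFlat.assocApp A B D).hom) U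
      (tmulSec U (tmulSec U a b) d) = tmulSec U a (tmulSec U b d) := by
  let F := ModSite.toPre X.sheaf
  let R := X.sheaf.obj.obj (op U)
  let η := (preAdj X.sheaf).unit
  let u := η.app (F.obj A ⊗ F.obj B) ▷ F.obj D
  let z : ((F.obj A ⊗ F.obj B) ⊗ F.obj D).obj (op U) :=
    ((show (F.obj A).obj (op U) from a) ⊗ₜ[R] (show (F.obj B).obj (op U) from b)) ⊗ₜ[R]
      (show (F.obj D).obj (op U) from d)
  have h1 : Scheme.Modules.Hom.app (show (ModSite.shPre X.sheaf).obj _ ⟶ tensM (tensM A B) D from
      (ModSite.shPre X.sheaf).map u) U ((η.app _).app (op U) z) = tmulSec U (tmulSec U a b) d :=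
    sh_map_unit u U z
  rw [← h1]
  have h2 : (ModSite.shPre X.sheaf).map u ≫ (ModFlat.assocApp A B D).hom =
      (ModSite.shPre X.sheaf).map (α_ (F.obj A) (F.obj B) (F.obj D)).hom ≫
        (ModSite.shPre X.sheaf).map (F.obj A ◁ η.app (F.obj B ⊗ F.obj D)) := by
    simp [ModFlat.assocApp, u, η, F]
    rfl
  refine (congrArg (fun χ : (show X.Modules from (ModSite.shPre X.sheaf).obj ((F.obj A ⊗ F.obj B) ⊗ F.obj D)) ⟶
    tensM A (tensM B D) => Scheme.Modules.Hom.app χ U ((η.app _).app (op U) z)) h2).trans ?_
  refine (congrArg (fun w => Scheme.Modules.Hom.app (show (ModSite.shPre X.sheaf).obj _ ⟶ tensM A (tensM B D) from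
    (ModSite.shPre X.sheaf).map (F.obj A ◁ η.app (F.obj B ⊗ F.obj D))) U w)
    (sh_map_unit (α_ (F.obj A) (F.obj B) (F.obj D)).hom U z)).trans ?_
  exact sh_map_unit _ U _

/-- `A ⊗ O ≅ A` on sections. -/
theorem unitRight_tmulSec (A : X.Modules) (U : X.Opens) (a : Γ(A, U)) (r : Γ(X, U)) :
    Scheme.Modules.Hom.app (show tensM A (Coh.structureModule X) ⟶ A from
      (KFlat.ProjFormula.unitRight X).hom.app A) U (tmulSec U a (show Γ(Coh.structureModule X, U) from r)) =
      r • a := by
  let F := ModSite.toPre X.sheaf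
  refine (congrArg (fun w => Scheme.Modules.Hom.app (show (ModSite.shPre X.sheaf).obj (F.obj A) ⟶ A from
    (preAdj X.sheaf).counit.app A) U w) (sh_map_unit (ρ_ (F.obj A)).hom U _)).trans ?_
  exact congrArg (fun χ => PresheafOfModules.Hom.app χ (op U)
    ((ρ_ (F.obj A)).hom.app (op U) _)) ((preAdj X.sheaf).right_triangle_components A)

variable (P D : X.Modules) [ModSite.HasSheafHom (O := X.sheaf) D] (β : tensM P D ⟶ Coh.structureModule X)

/-- The contraction `(N ⊗ P) ⊗ D ⟶ N` of a pairing. -/
def contr : ChgRings.tensR P ⋙ ChgRings.tensR D ⟶ 𝟭 X.Modules :=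
  (ChgRings.tensRComp D P).hom ≫ (ModSite.tensorBi X.sheaf).flip.map β ≫
    (KFlat.ProjFormula.unitRight X).hom

/-- The map `N ⊗ P ⟶ ℋom(D, N)` of a pairing. -/
def pairMap : ChgRings.tensR P ⟶ homF D where
  app N := (homAdj D).homEquiv _ _ ((contr P D β).app N)
  naturality {N N'} g := by
    refine ((homAdj D).homEquiv_naturality_left _ _).symm.trans
      (Eq.trans (congrArg _ ((contr P D β).naturality g)) ((homAdj D).homEquiv_naturality_right _ _))

variable {P D}

/-- The pairing on stalks. -/
def pairStalk (x : X) : P.presheaf.stalk x →ₗ[X.presheaf.stalk x]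
    (D.presheaf.stalk x →ₗ[X.presheaf.stalk x] (Coh.structureModule X).presheaf.stalk x) :=
  TensorProduct.curry ((stL β x).comp (stalkTensorEquiv P D x).symm.toLinearMap)

theorem evStalk_transpose {A N : X.Modules} (φ : tensM A D ⟶ N) (x : X) (a : A.presheaf.stalk x)
    (t : D.presheaf.stalk x) :
    evStalk D N x (stL ((homAdj D).homEquiv A N φ) x a) t =
      stL φ x ((stalkTensorEquiv A D x).symm (a ⊗ₜ t)) := by
  let g := (homAdj D).homEquiv A N φ
  have h1 : (show tensM A D ⟶ _ from ((ModSite.tensorBi X.sheaf).map g).app D) ≫ homEv D N = φ :=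
    ((homAdj D).homEquiv_counit _ _ g).symm.trans (Equiv.symm_apply_apply _ φ)
  refine (congrArg (stL (homEv D N) x) (stalk_tensR_map g a t).symm).trans ?_
  exact LinearMap.congr_fun ((stL_comp _ _ x).symm.trans (congrArg (stL · x) h1)) _

theorem evStalk_pairMap (N : X.Modules) (x : X) (U : X.Opens) (hx : x ∈ U) (n : Γ(N, U)) (p : Γ(P, U))
    (d : Γ(D, U)) :
    evStalk D N x (stL ((pairMap P D β).app N) x (tgerm N P x U hx n p)) (germM D U x hx d) =
      germM N U x hx ((show Γ(X, U) from β.app U (tmulSec U p d)) • n) := by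
  refine (evStalk_transpose (A := tensM N P) _ x _ _).trans ?_
  refine (congrArg (stL _ x) (fromTensor_germ U hx (tmulSec U n p) d)).trans ?_
  refine (stL_germ _ x U hx _).trans (congrArg (germM N U x hx) ?_)
  refine (congrArg (fun w => Scheme.Modules.Hom.app (show tensM N (Coh.structureModule X) ⟶ N from
    (KFlat.ProjFormula.unitRight X).hom.app N) U (Scheme.Modules.Hom.app
      (show tensM N (tensM P D) ⟶ tensM N (Coh.structureModule X) from
        ((ModSite.tensorBi X.sheaf).obj N).map β) U w)) (assocApp_tmulSec N P D U n p d)).trans ?_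
  refine (congrArg (fun w => Scheme.Modules.Hom.app (show tensM N (Coh.structureModule X) ⟶ N from
    (KFlat.ProjFormula.unitRight X).hom.app N) U w) ?_).trans (unitRight_tmulSec N U n _)
  exact sh_map_unit ((ModSite.toPre X.sheaf).obj N ◁ (ModSite.toPre X.sheaf).map β) U _

/-! ### The stalk of the structure sheaf -/

theorem isFrame_one (X : Scheme.{u}) :
    LFFrame.IsFrame (Coh.structureModule X) ⊤ (fun _ : Fin 1 => (1 : Γ(X, ⊤))) := by
  intro V h
  have e : LFFrame.comb (Coh.structureModule X) (fun _ : Fin 1 => (1 : Γ(X, ⊤))) h = fun a => a 0 := by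
    funext a
    simp only [LFFrame.comb, Fin.sum_univ_one]
    show a 0 * X.presheaf.map (homOfLE h).op 1 = a 0
    rw [map_one, mul_one]
  rw [e]
  exact ⟨fun a b hab => funext fun i => by rwa [Subsingleton.elim i 0], fun r => ⟨fun _ => r, rfl⟩⟩

/-- The germ of `1` in the stalk of the structure module. -/
def oneGerm (x : X) : (Coh.structureModule X).presheaf.stalk x :=
  germM (Coh.structureModule X) ⊤ x trivial (1 : Γ(X, ⊤))

/-- The stalk of the structure module is the local ring. -/
def unitStalkEquiv (x : X) :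
    X.presheaf.stalk x ≃ₗ[X.presheaf.stalk x] (Coh.structureModule X).presheaf.stalk x :=
  LinearEquiv.ofBijective (LinearMap.toSpanSingleton _ _ (oneGerm x)) (by
    have h := ((isFrame_one X).stalkComb_bijective x trivial).comp
      (show Function.Bijective (fun r : X.presheaf.stalk x => (fun _ => r : Fin 1 → X.presheaf.stalk x)) from
        ⟨fun a b h => congrFun h 0, fun a => ⟨a 0, funext fun i => by rw [Subsingleton.elim i 0]⟩⟩)
    convert h using 1
    funext r
    simp [LFFrame.stalkComb, Fintype.linearCombination_apply, oneGerm])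

theorem unitStalkEquiv_symm_germ {U : X.Opens} {x : X} (hx : x ∈ U) (r : Γ(X, U)) :
    (unitStalkEquiv x).symm (germM (Coh.structureModule X) U x hx r) = X.presheaf.germ U x hx r := by
  rw [LinearEquiv.symm_apply_eq]
  have h1 : oneGerm x = germM (Coh.structureModule X) U x hx (1 : Γ(X, U)) := by
    refine ((Coh.structureModule X).presheaf.germ_res_apply (homOfLE le_top) x hx _).symm.trans ?_
    exact congrArg (germM (Coh.structureModule X) U x hx)
      (map_one (X.presheaf.map (homOfLE (le_top : U ≤ ⊤)).op).hom)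
  show germM (Coh.structureModule X) U x hx (show Γ(Coh.structureModule X, U) from r) =
    X.presheaf.germ U x hx r • oneGerm x
  rw [h1]
  refine Eq.trans ?_ (germM_smul (Coh.structureModule X) U x hx r
    (show Γ(Coh.structureModule X, U) from (1 : Γ(X, U))))
  exact congrArg (germM _ U x hx) (mul_one r).symm

/-- A pairing which is perfect on stalks gives `N ⊗ P ≅ ℋom(D, N)`. -/
theorem isIso_pairMap (hD : HasFrames D) (hβ : ∀ x, Function.Bijective (pairStalk β x)) :
    IsIso (pairMap P D β) := by
  suffices ∀ N, IsIso ((pairMap P D β).app N) from NatIso.isIso_of_isIso_app _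
  intro N
  refine PullTensor.isIso_of_stalk_bijective _ fun x => ?_
  have := (hD.free x).1
  have := (hD.free x).2
  let q : P.presheaf.stalk x ≃ₗ[(X.presheaf.stalk x)] Module.Dual (X.presheaf.stalk x) (D.presheaf.stalk x) :=
    (LinearEquiv.ofBijective (pairStalk β x) (hβ x)).trans
      (LinearEquiv.congrRight (unitStalkEquiv x).symm)
  let Θ : (tensM N P).presheaf.stalk x ≃ₗ[(X.presheaf.stalk x)] (D.presheaf.stalk x →ₗ[(X.presheaf.stalk x)] N.presheaf.stalk x) :=
    (stalkTensorEquiv N P x).trans ((TensorProduct.comm (X.presheaf.stalk x) _ _).trans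
      ((TensorProduct.congr q (LinearEquiv.refl (X.presheaf.stalk x) _)).trans (dualTensorHomEquiv (X.presheaf.stalk x) _ _)))
  have key : (evStalk D N x).comp (stL ((pairMap P D β).app N) x) = Θ.toLinearMap := by
    refine hom_ext_tgerm _ _ fun U hx n p => LinearMap.ext fun t => ?_
    obtain ⟨V, hV, d, rfl⟩ := exists_germM_eq D x t
    have hW : x ∈ U ⊓ V := ⟨hx, hV⟩
    rw [← tgerm_res (homOfLE inf_le_left) hW n p,
      show germM D V x hV d = germM D (U ⊓ V) x hW (D.presheaf.map (homOfLE inf_le_right).op d) from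
        (D.presheaf.germ_res_apply _ x hW d).symm]
    generalize N.presheaf.map (homOfLE inf_le_left).op n = n'
    generalize P.presheaf.map (homOfLE inf_le_left).op p = p'
    generalize D.presheaf.map (homOfLE inf_le_right).op d = d'
    rw [LinearMap.comp_apply, evStalk_pairMap]
    have h1 : stalkTensorEquiv N P x (tgerm N P x (U ⊓ V) hW n' p') =
        germM N _ x hW n' ⊗ₜ germM P _ x hW p' := toTensor_tgerm _ hW n' p'
    have h2 : pairStalk β x (germM P _ x hW p') (germM D _ x hW d') =
        germM _ (U ⊓ V) x hW (β.app (U ⊓ V) (tmulSec (U ⊓ V) p' d')) :=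
      (congrArg (stL β x) (fromTensor_germ _ hW p' d')).trans (stL_germ β x _ hW _)
    have hq : q (germM P _ x hW p') (germM D _ x hW d') =
        (unitStalkEquiv x).symm (pairStalk β x (germM P _ x hW p') (germM D _ x hW d')) := rfl
    have hΘ : Θ (tgerm N P x (U ⊓ V) hW n' p') (germM D _ x hW d') =
        q (germM P _ x hW p') (germM D _ x hW d') • germM N _ x hW n' := by
      simp only [Θ, LinearEquiv.trans_apply, h1, TensorProduct.comm_tmul, TensorProduct.congr_tmul,
        LinearEquiv.refl_apply, dualTensorHomEquiv, LinearEquiv.ofBijective_apply, dualTensorHom_apply]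
    refine Eq.trans ?_ hΘ.symm
    rw [hq, h2, germM_smul]
    exact congrArg (· • _) (unitStalkEquiv_symm_germ hW _).symm
  have hb : Function.Bijective (evStalk D N x ∘ stL ((pairMap P D β).app N) x) := by
    rw [← LinearMap.coe_comp, key]
    exact Θ.bijective
  exact ((hD.evStalk_bij N x).of_comp_iff' _).1 hb

/-! ### The dual -/

variable (E)

/-- The dual. -/
abbrev dualMod : X.Modules := (homF E).obj (Coh.structureModule X)

variable {E}

/-- The dual of a module with frames has frames. -/
theorem hasFrames_dual (hE : HasFrames E) : HasFrames (dualMod E) := by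
  classical
  intro x
  obtain ⟨W, n, e, hx, he⟩ := hE x
  choose φ hφ using fun i : Fin n => exists_hom_of_frame (N := Coh.structureModule X) he
    (fun j => (if i = j then 1 else 0 : Γ(X, W)))
  refine ⟨W, n, fun i => genHom E _ W (φ i), hx, LFFrame.isFrame_of_stalkComb_bijective fun y hy => ?_⟩
  let d : Fin n → Γ(dualMod E, W) := fun i => genHom E _ W (φ i)
  let R := X.presheaf.stalk y
  let b : Module.Basis (Fin n) R (E.presheaf.stalk y) := Module.Basis.ofEquivFun
    (LinearEquiv.ofBijective (LFFrame.stalkComb E e y hy) (he.stalkComb_bijective y hy)).symm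
  have hb : ∀ i, b i = germM E W y hy (e i) := fun i => by
    simp [b, LFFrame.stalkComb, Fintype.linearCombination_apply_single]
  have hd : ∀ i j, evStalk E (Coh.structureModule X) y (germM _ W y hy (d i)) (b j) =
      unitStalkEquiv y (if i = j then 1 else 0) := by
    intro i j
    rw [hb]
    refine (evStalk_genHom hy (φ i) _).trans ?_
    refine (congrArg (stL (φ i) y) (fromTensor_germ W hy _ _)).trans ?_
    refine (stL_germ (φ i) y W hy _).trans ?_
    rw [hφ i j, ← LinearEquiv.symm_apply_eq]
    refine (unitStalkEquiv_symm_germ hy _).trans ?_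
    split <;> simp
  let L : (Fin n → R) ≃ₗ[R] (E.presheaf.stalk y →ₗ[R] (Coh.structureModule X).presheaf.stalk y) :=
    (LinearEquiv.piCongrRight fun _ => unitStalkEquiv y).trans (b.constr R)
  have key : (evStalk E (Coh.structureModule X) y).comp (LFFrame.stalkComb (dualMod E) d y hy) =
      L.toLinearMap := by
    refine LinearMap.ext fun c => b.ext fun j => ?_
    simp only [LFFrame.stalkComb, LinearMap.comp_apply, Fintype.linearCombination_apply, map_sum, map_smul,
      LinearMap.sum_apply, LinearMap.smul_apply, hd, LinearEquiv.coe_coe, L, LinearEquiv.trans_apply,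
      Module.Basis.constr_basis, LinearEquiv.piCongrRight_apply]
    refine (Finset.sum_eq_single j (fun i _ hi => by rw [if_neg hi, map_zero, smul_zero]) (by simp)).trans ?_
    rw [if_pos rfl, ← map_smul, smul_eq_mul, mul_one]
  have hb' : Function.Bijective (evStalk E (Coh.structureModule X) y ∘ LFFrame.stalkComb (dualMod E) d y hy) := by
    rw [← LinearMap.coe_comp, key]
    exact L.bijective
  exact ((hE.evStalk_bij _ y).of_comp_iff' _).1 hb'

/-- `N ⊗ E^∨ ≅ ℋom(E, N)`, naturally in `N`. -/
def dualIso (hE : HasFrames E) : ChgRings.tensR (dualMod E) ≅ homF E :=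
  @asIso _ _ _ _ (pairMap (dualMod E) E (homEv E (Coh.structureModule X)))
    (isIso_pairMap _ hE fun x => hE.evStalk_bij (Coh.structureModule X) x)

/-- `N ⊗ E ≅ ℋom(E^∨, N)`, naturally in `N`. -/
theorem nonempty_doubleDualIso (hE : HasFrames E) [ModSite.HasSheafHom (O := X.sheaf) (dualMod E)] :
    Nonempty (ChgRings.tensR E ≅ homF (dualMod E)) := by
  let β : tensM E (dualMod E) ⟶ Coh.structureModule X :=
    (ChgRings.commIso E (dualMod E)).hom ≫ homEv E (Coh.structureModule X)
  refine ⟨@asIso _ _ _ _ (pairMap E (dualMod E) β) (isIso_pairMap β (hasFrames_dual hE) fun x => ?_)⟩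
  have := (hE.free x).1
  have := (hE.free x).2
  let R := X.presheaf.stalk x
  let ev := LinearEquiv.ofBijective (evStalk E (Coh.structureModule X) x) (hE.evStalk_bij _ x)
  let L : E.presheaf.stalk x ≃ₗ[R]
      ((dualMod E).presheaf.stalk x →ₗ[R] (Coh.structureModule X).presheaf.stalk x) :=
    (Module.evalEquiv R _).trans (LinearEquiv.arrowCongr
      ((ev.trans (LinearEquiv.congrRight (unitStalkEquiv x).symm)).symm) (unitStalkEquiv x))
  have key : pairStalk β x = L.toLinearMap := by
    refine LinearMap.ext fun p => LinearMap.ext fun d => ?_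
    obtain ⟨U, hx, p, d, rfl, rfl⟩ := exists_rep (M := E) (N := dualMod E) p d
    refine (congrArg (stL β x) (fromTensor_germ U hx p d)).trans ?_
    refine (stL_germ β x U hx _).trans ?_
    have h1 : β.app U (tmulSec U p d) = (homEv E (Coh.structureModule X)).app U (tmulSec U d p) :=
      congrArg ((homEv E (Coh.structureModule X)).app U)
        (sh_map_unit (β_ ((ModSite.toPre X.sheaf).obj E) ((ModSite.toPre X.sheaf).obj (dualMod E))).hom U _)
    rw [h1, ← evStalk_germ]
    simp [L, ev, LinearEquiv.arrowCongr_apply]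
    exact ((unitStalkEquiv x).apply_symm_apply _).symm
  rw [key]
  exact L.bijective

end Groth.Agent.InjMod
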