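import Groth.Agent.InjMod.Gen
import Groth.Agent.Props.GenLocus
import Groth.Prelude.Def_CxOX

/-!
# Extension by zero of the structure sheaf is the generator of the image
-/

set_option autoImplicit false

universe u

open CategoryTheory CategoryTheory.Limits AlgebraicGeometry Opposite TopologicalSpace
open Groth.Agent.Props.GenLocus

namespace Groth.Agent.InjMod

variable {X : Scheme.{u}}

/-- Maps out of the structure module are global sections. -/
noncomputable def unitEquiv (N : X.Modules) : (Coh.structureModule X ⟶ N) ≃ Γ(N, ⊤) where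
  toFun s := sec s ⊤
  invFun σ := homOfSec σ
  left_inv s := by
    ext V a
    refine (app_eq (homOfSec (sec s ⊤)) V a).trans (Eq.trans ?_ (app_eq s V a).symm)
    rw [sec_homOfSec, sec_res]
  right_inv σ := by
    show sec (homOfSec σ) ⊤ = σ
    rw [sec_homOfSec]
    show N.presheaf.map (𝟙 _) σ = σ
    rw [N.presheaf.map_id]
    rfl

theorem unitEquiv_comp {N N' : X.Modules} (g : Coh.structureModule X ⟶ N) (f : N ⟶ N') :
    unitEquiv N' (g ≫ f) = f.app ⊤ (unitEquiv N g) :=
  rfl

variable {U : Scheme.{u}} (j : U ⟶ X) [IsOpenImmersion j]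

/-- Maps out of `j_! O_U` are sections over the image of `j`. -/
noncomputable def extZeroUnitEquiv (M : X.Modules) :
    (CxOX.extZeroUnit j ⟶ M) ≃ Γ(M, j ''ᵁ ⊤) :=
  ((CxOX.extZeroAdj j).homEquiv _ M).trans (unitEquiv (M.restrict j))

theorem extZeroUnitEquiv_comp {M N : X.Modules} (g : CxOX.extZeroUnit j ⟶ M) (f : M ⟶ N) :
    extZeroUnitEquiv j N (g ≫ f) = f.app (j ''ᵁ ⊤) (extZeroUnitEquiv j M g) := by
  show unitEquiv _ ((CxOX.extZeroAdj j).homEquiv _ N (g ≫ f)) = _
  rw [Adjunction.homEquiv_naturality_right, unitEquiv_comp]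
  rfl

/-- The generator of the image of an open immersion is `j_! O_U`. -/
noncomputable def genExtZeroIso : genMod (j ''ᵁ ⊤) ≅ CxOX.extZeroUnit j :=
  Coyoneda.ext _ _ (fun {M} g => (extZeroUnitEquiv j M).symm (genEquiv (j ''ᵁ ⊤) M g))
    (fun {M} g => (genEquiv (j ''ᵁ ⊤) M).symm (extZeroUnitEquiv j M g))
    (fun g => by simp) (fun g => by simp)
    (fun {M N} f g => by
      apply (genEquiv (j ''ᵁ ⊤) N).injective
      rw [genEquiv_comp, Equiv.apply_symm_apply, Equiv.apply_symm_apply, extZeroUnitEquiv_comp])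

end Groth.Agent.InjMod
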