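import Groth.Agent.GabLocLib
import Mathlib.CategoryTheory.Limits.Shapes.Pullback.IsPullback.Basic

/-!
# A Baer criterion for injective objects of a Grothendieck abelian category
-/

set_option autoImplicit false

universe w v u

open CategoryTheory CategoryTheory.Limits

namespace Groth.Agent.InjMod

variable {A : Type u} [Category.{v} A] [Abelian A] [IsGrothendieckAbelian.{w} A]

/-- `I` is injective if every non-surjective monomorphism is detected by some `φ : E ⟶ Y` such that
morphisms from subobjects of `E` into `I` extend to `E`. -/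
theorem injective_of_detect (I : A)
    (h : ∀ {X Y : A} (p : X ⟶ Y), Mono p → ¬ IsIso p → ∃ (E : A) (φ : E ⟶ Y),
      (¬ ∃ l : E ⟶ X, l ≫ p = φ) ∧
      ∀ {S : A} (s : S ⟶ E), Mono s → ∀ g : S ⟶ I, ∃ k : E ⟶ I, s ≫ k = g) :
    Injective I := by
  refine ⟨fun {X Y} g f hf => ?_⟩
  let q : Y ⊞ I ⟶ Y := biprod.fst
  have h₀ : GabLocLib.Avoids q (Subobject.mk (biprod.lift f g)) := by
    show Mono ((Subobject.mk (biprod.lift f g)).arrow ≫ q)
    rw [← Subobject.underlyingIso_hom_comp_eq_mk, Category.assoc, biprod.lift_fst]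
    infer_instance
  obtain ⟨L, hA, hL, hmax⟩ := GabLocLib.exists_maximal q _ h₀
  have : Mono (L.arrow ≫ q) := hL
  have hiso : IsIso (L.arrow ≫ q) := by
    by_contra hn
    obtain ⟨E, φ, hφ, hext⟩ := h (L.arrow ≫ q) hL hn
    let s := pullback.snd (L.arrow ≫ q) φ
    obtain ⟨k, hk⟩ := hext s inferInstance (pullback.fst (L.arrow ≫ q) φ ≫ L.arrow ≫ biprod.snd)
    let P := pushout (pullback.fst (L.arrow ≫ q) φ) s
    let a : P ⟶ Y := pushout.desc (L.arrow ≫ q) φ pullback.condition
    let b : P ⟶ I := pushout.desc (L.arrow ≫ biprod.snd) k hk.symm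
    have ha : Mono a :=
      (IsPushout.of_hasPushout _ _).mono_of_isPullback_of_mono
        (IsPullback.of_hasPullback (L.arrow ≫ q) φ) _ (pushout.inl_desc _ _ _) (pushout.inr_desc _ _ _)
    have : Mono (biprod.lift a b ≫ q) := by
      rw [biprod.lift_fst]
      exact ha
    have : Mono (biprod.lift a b) := mono_of_mono _ q
    have hle : L ≤ Subobject.mk (biprod.lift a b) :=
      Subobject.le_mk_of_comm (pushout.inl _ _) (by
        apply biprod.hom_ext
        · rw [Category.assoc, biprod.lift_fst]; exact pushout.inl_desc _ _ _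
        · rw [Category.assoc, biprod.lift_snd]; exact pushout.inl_desc _ _ _)
    have hav : GabLocLib.Avoids q (Subobject.mk (biprod.lift a b)) := by
      show Mono ((Subobject.mk (biprod.lift a b)).arrow ≫ q)
      rw [← Subobject.underlyingIso_hom_comp_eq_mk, Category.assoc, biprod.lift_fst]
      infer_instance
    have hge : Subobject.mk (biprod.lift a b) ≤ L := hmax hav hle
    refine hφ ⟨pushout.inr _ _ ≫ (Subobject.underlyingIso (biprod.lift a b)).inv ≫
      Subobject.ofLE _ _ hge, ?_⟩
    rw [Category.assoc, Category.assoc, ← Category.assoc (Subobject.ofLE _ _ hge), Subobject.ofLE_arrow,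
      ← Subobject.underlyingIso_hom_comp_eq_mk, Category.assoc, Iso.inv_hom_id_assoc, biprod.lift_fst]
    exact pushout.inr_desc _ _ _
  refine ⟨inv (L.arrow ≫ q) ≫ L.arrow ≫ biprod.snd, ?_⟩
  have hfac : f ≫ inv (L.arrow ≫ q) = (Subobject.underlyingIso (biprod.lift f g)).inv ≫
      Subobject.ofLE _ _ hA := by
    rw [← cancel_mono (L.arrow ≫ q), Category.assoc, IsIso.inv_hom_id]
    simp [q]
  rw [reassoc_of% hfac]
  simp

end Groth.Agent.InjMod
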