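import Groth.Agent.InjMod.Gen
import Groth.Agent.InjMod.Extend

/-!
# Coproducts of modules: finite supports, maps from noetherian objects, coproducts of injectives
-/

set_option autoImplicit false

universe u

open CategoryTheory CategoryTheory.Limits AlgebraicGeometry Opposite TopologicalSpace
open Groth.Agent.PullStalk.Sky Groth.Agent.KFlat.StalkTensor

namespace Groth.Agent.InjMod

variable {X : Scheme.{u}} {ι : Type u} (I : ι → X.Modules)

/-- The inclusion of a finite partial coproduct. -/
noncomputable def subSum (T : Finset ι) : (∐ fun i : T => I i) ⟶ ∐ I :=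
  Sigma.desc fun i => Sigma.ι I i.1

@[reassoc (attr := simp)]
theorem ι_subSum (T : Finset ι) (i : T) : Sigma.ι (fun i : T => I i) i ≫ subSum I T = Sigma.ι I i.1 :=
  Sigma.ι_desc _ _

instance (T : Finset ι) : IsSplitMono (subSum I T) := by
  classical
  refine IsSplitMono.mk' ⟨Sigma.desc fun i => if h : i ∈ T then Sigma.ι (fun i : T => I i) ⟨i, h⟩ else 0,
    Sigma.hom_ext _ _ fun i => ?_⟩
  rw [ι_subSum_assoc, Sigma.ι_desc, dif_pos i.2]
  simp

theorem subSum_mono {T T' : Finset ι} (h : T ⊆ T') :
    ∃ e : (∐ fun i : T => I i) ⟶ ∐ fun i : T' => I i, e ≫ subSum I T' = subSum I T :=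
  ⟨Sigma.desc fun i => Sigma.ι (fun i : T' => I i) ⟨i.1, h i.2⟩, Sigma.hom_ext _ _ fun i => by simp⟩

/-- Every stalk element of a coproduct comes from a finite partial coproduct. -/
theorem exists_finset_stalk (x : X) (t : (DerSch.stalkFunctor X x).obj (∐ I)) :
    ∃ T : Finset ι, t ∈ LinearMap.range ((DerSch.stalkFunctor X x).map (subSum I T)).hom := by
  classical
  let F := DerSch.stalkFunctor X x
  let p : Finset ι → Submodule (X.presheaf.stalk x) (F.obj (∐ I)) :=
    fun T => LinearMap.range (F.map (subSum I T)).hom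
  have hdir : Directed (· ≤ ·) p := by
    refine Monotone.directed_le fun T T' h => ?_
    obtain ⟨e, he⟩ := subSum_mono I h
    show LinearMap.range (F.map (subSum I T)).hom ≤ _
    rw [← he, F.map_comp, ModuleCat.hom_comp]
    exact LinearMap.range_comp_le_range _ _
  have htop : (⨆ T, p T) = ⊤ := by
    let q : F.obj (∐ I) ⟶ ModuleCat.of _ (F.obj (∐ I) ⧸ ⨆ T, p T) := ModuleCat.ofHom (⨆ T, p T).mkQ
    have hq : q = 0 := by
      refine (isColimitOfHasCoproductOfPreservesColimit F I).hom_ext fun ⟨i⟩ => ?_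
      rw [comp_zero]
      ext v
      refine (Submodule.Quotient.mk_eq_zero _).2 (Submodule.mem_iSup_of_mem ({i} : Finset ι) ?_)
      refine ⟨(F.map (Sigma.ι (fun j : ({i} : Finset ι) => I j) ⟨i, Finset.mem_singleton_self i⟩)).hom v, ?_⟩
      exact congrArg (fun f => ModuleCat.Hom.hom f v) ((F.map_comp _ _).symm.trans (congrArg F.map (ι_subSum I _ _)))
    refine eq_top_iff.2 fun v _ => ?_
    exact (Submodule.Quotient.mk_eq_zero _).1 (congrArg (fun f => ModuleCat.Hom.hom f v) hq)
  exact (Submodule.mem_iSup_of_directed p hdir).1 (htop ▸ Submodule.mem_top)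

/-- A morphism vanishes if it vanishes on stalks. -/
theorem eq_zero_of_stalk {M N : X.Modules} (f : M ⟶ N)
    (h : ∀ (y : X) t, ((DerSch.stalkFunctor X y).map f).hom t = 0) : f = 0 :=
  Scheme.Modules.hom_ext _ _ fun U => by
    ext m
    refine TopCat.Presheaf.section_ext (F := ⟨N.presheaf, N.isSheaf⟩) U _ _ fun y hy => ?_
    refine (DerSch.stalkFunctor_map_germ y f U hy m).symm.trans ((h y _).trans ?_)
    exact (map_zero (N.presheaf.germ U y hy).hom).symm

/-- A morphism from a noetherian object into a coproduct factors through a finite partial one. -/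
theorem exists_finset_factor (S : X.Modules) [IsNoetherianObject S] (g : S ⟶ ∐ I) :
    ∃ (T : Finset ι) (g' : S ⟶ ∐ fun i : T => I i), g' ≫ subSum I T = g := by
  classical
  let K : Finset ι → Subobject S := fun T => kernelSubobject (g ≫ cokernel.π (subSum I T))
  have hK : Monotone K := fun T T' h => by
    obtain ⟨e, he⟩ := subSum_mono I h
    obtain ⟨c, hc⟩ : ∃ c, cokernel.π (subSum I T) ≫ c = cokernel.π (subSum I T') :=
      ⟨cokernel.desc _ _ (by rw [← he, Category.assoc, cokernel.condition, comp_zero]),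
        cokernel.π_desc _ _ _⟩
    refine Limits.le_kernelSubobject _ _ ?_
    rw [← hc, ← Category.assoc g, ← Category.assoc, kernelSubobject_arrow_comp, zero_comp]
  obtain ⟨-, ⟨T₀, rfl⟩, hmax⟩ := (wellFounded_gt (α := Subobject S)).has_min (Set.range K) ⟨_, ∅, rfl⟩
  have h0 : g ≫ cokernel.π (subSum I T₀) = 0 := by
    refine eq_zero_of_stalk _ fun y t => ?_
    let F := DerSch.stalkFunctor X y
    obtain ⟨T, u, hu⟩ := exists_finset_stalk I y ((F.map g).hom t)
    have hle : K (T₀ ∪ T) ≤ K T₀ := by
      refine (lt_or_eq_of_le (hK Finset.subset_union_left)).elim (fun h => ?_) ge_of_eq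
      exact absurd h (hmax _ ⟨_, rfl⟩)
    obtain ⟨e, he⟩ := subSum_mono I (Finset.subset_union_right : T ⊆ T₀ ∪ T)
    let f := g ≫ cokernel.π (subSum I (T₀ ∪ T))
    have ht : (F.map f).hom t = 0 := by
      rw [F.map_comp, ModuleCat.hom_comp, LinearMap.comp_apply, ← hu, ← he]
      have : F.map (e ≫ subSum I (T₀ ∪ T)) ≫ F.map (cokernel.π (subSum I (T₀ ∪ T))) = 0 := by
        rw [← F.map_comp, Category.assoc, cokernel.condition, comp_zero, F.map_zero]
      exact congrArg (fun φ => ModuleCat.Hom.hom φ u) this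
    obtain ⟨k, hk⟩ := (ShortComplex.moduleCat_exact_iff _).1
      ((ShortComplex.exact_kernel f).map F) t ht
    obtain ⟨l, hl⟩ : ∃ l : kernel f ⟶ (K T₀ : X.Modules), l ≫ (K T₀).arrow = kernel.ι f :=
      ⟨(kernelSubobjectIso f).inv ≫ Subobject.ofLE _ _ hle, by
        rw [Category.assoc, Subobject.ofLE_arrow, kernelSubobject_arrow' f]⟩
    have hz : kernel.ι f ≫ g ≫ cokernel.π (subSum I T₀) = 0 := by
      rw [← hl, Category.assoc, kernelSubobject_arrow_comp, comp_zero]
    rw [← hk]
    exact congrArg (fun φ => ModuleCat.Hom.hom φ k)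
      ((F.map_comp _ _).symm.trans ((congrArg F.map hz).trans (F.map_zero _ _)))
  exact ⟨T₀, Abelian.monoLift _ g h0, Abelian.monoLift_comp _ _ _⟩

/-- The generators are noetherian objects. -/
theorem isNoetherianObject_gen [IsLocallyNoetherian X] {U : X.Opens} (hU : IsAffineOpen U) :
    IsNoetherianObject (genMod U) :=
  (isNoetherianObject_iff_monotone_chain_condition _).2 (exists_stable_gen hU)

/-- A monomorphism which is not an isomorphism misses a generator of an affine open. -/
theorem exists_gen_not_lift {M N : X.Modules} (p : M ⟶ N) [Mono p] (hp : ¬ IsIso p) :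
    ∃ (U : X.Opens) (_ : IsAffineOpen U) (φ : genMod U ⟶ N), ¬ ∃ l : genMod U ⟶ M, l ≫ p = φ := by
  by_contra h
  push Not at h
  refine hp (KFlat.PullTensor.isIso_of_stalk_bijective p fun x => ⟨stalk_map_injective x p, fun t => ?_⟩)
  obtain ⟨V, hV, s, rfl⟩ := exists_germM_eq N x t
  obtain ⟨U, hU, hxU, hUV⟩ := exists_isAffineOpen_mem_and_subset (X := X) hV
  obtain ⟨φ, hφ⟩ := exists_gen_hom U (N.presheaf.map (homOfLE hUV).op s)
  obtain ⟨l, hl⟩ := h U hU φ
  refine ⟨germM M U x hxU (l.app U (genSec U)), ?_⟩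
  refine (DerSch.stalkFunctor_map_germ x p U hxU _).trans ?_
  refine (congrArg (fun z => N.presheaf.germ U x hxU z) (show p.app U (l.app U (genSec U)) = _ from
    (congrArg (fun f : genMod U ⟶ N => f.app U (genSec U)) hl).trans hφ)).trans ?_
  exact N.presheaf.germ_res_apply _ x hxU s

/-- Injectivity is tested on morphisms from subobjects of the generators of affine opens. -/
theorem injective_of_gen (M : X.Modules)
    (h : ∀ (U : X.Opens), IsAffineOpen U → ∀ {S : X.Modules} (s : S ⟶ genMod U), Mono s →
      ∀ g : S ⟶ M, ∃ k : genMod U ⟶ M, s ≫ k = g) : Injective M := by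
  refine injective_of_detect.{u} M fun {Y Z} p hp hn => ?_
  obtain ⟨U, hU, φ, hφ⟩ := exists_gen_not_lift p hn
  exact ⟨genMod U, φ, hφ, h U hU⟩

theorem injective_finite_coproduct {C : Type*} [Category C] [Abelian C] {κ : Type*} [Finite κ]
    (J : κ → C) (hJ : ∀ i, Injective (J i)) : Injective (∐ J) :=
  have : HasFiniteBiproducts C := Abelian.hasFiniteBiproducts
  have := hJ
  Injective.of_iso (biproduct.isoCoproduct J) inferInstance

/-- Coproducts of injectives are injective on a locally noetherian scheme. -/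
theorem injective_coproduct [IsLocallyNoetherian X] (hI : ∀ i, Injective (I i)) : Injective (∐ I) := by
  refine injective_of_gen _ fun U hU S s hs g => ?_
  have := isNoetherianObject_gen hU
  have : IsNoetherianObject S :=
    ⟨ObjectProperty.prop_of_mono isNoetherianObject s (ObjectProperty.prop_of_is _ _)⟩
  obtain ⟨T, g', rfl⟩ := exists_finset_factor I S g
  have hT : Injective (∐ fun i : T => I i) := injective_finite_coproduct _ fun i => hI i.1
  exact ⟨Injective.factorThru g' s ≫ subSum I T, by rw [Injective.comp_factorThru_assoc]⟩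

end Groth.Agent.InjMod
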