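import Groth.Agent.InjMod.Supp
import Groth.Prelude.Def_CxOX

/-!
# Injective modules on schemes: restriction to opens, locality
-/

set_option autoImplicit false

universe u

open CategoryTheory CategoryTheory.Limits AlgebraicGeometry

namespace Groth.Agent.InjMod

variable {X : Scheme.{u}}

/-- Injectivity of the restriction to an open, in the two models. -/
theorem injective_restr_iff (U : X.Opens) (F : X.Modules) :
    Injective ((ModSite.restr X.sheaf U).obj F) ↔
      Injective ((Scheme.Modules.restrictFunctor U.ι).obj F) := by
  let e := (Scheme.Modules.overFunctorEquiv U).app F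
  let E := Scheme.Modules.overEquiv U
  let R := (SheafOfModules.overFunctor X.ringCatSheaf U).obj F
  constructor
  · intro h
    have : Injective R := h
    have : Injective (E.functor.obj R) := Injective.injective_of_adjoint E.symm.toAdjunction R
    exact Injective.of_iso e this
  · intro h
    have : Injective (E.functor.obj R) := Injective.of_iso e.symm h
    have : Injective (E.inverse.obj (E.functor.obj R)) :=
      Injective.injective_of_adjoint E.toAdjunction (E.functor.obj R)
    exact Injective.of_iso (E.unitIso.app R).symm this

/-- The restriction of an injective module to an open subscheme is injective. -/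
theorem injective_restrict (U : X.Opens) (F : X.Modules) [Injective F] :
    Injective ((Scheme.Modules.restrictFunctor U.ι).obj F) :=
  (injective_restr_iff U F).1 ((ExtSuppLib.restr_preservesInjectiveObjects X.sheaf U).injective_obj (X := F) ‹Injective F›)

instance preservesInjectiveObjects_restrictFunctor (U : X.Opens) :
    (Scheme.Modules.restrictFunctor U.ι).PreservesInjectiveObjects :=
  ⟨fun {F} h => @injective_restrict _ U F h⟩

theorem coversTop_of_forall_exists {ι : Type u} (U : ι → X.Opens) (h : ∀ x : X, ∃ i, x ∈ U i) :
    (Opens.grothendieckTopology X).CoversTop U := by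
  intro W y hy
  obtain ⟨i, hi⟩ := h y
  exact ⟨W ⊓ U i, homOfLE inf_le_left, ⟨i, ⟨homOfLE inf_le_right⟩⟩, hy, hi⟩

/-- A module which is injective locally is injective. -/
theorem injective_of_locally (F : X.Modules)
    (h : ∀ x : X, ∃ U : X.Opens, x ∈ U ∧ Injective ((Scheme.Modules.restrictFunctor U.ι).obj F)) :
    Injective F := by
  choose U hU hF using h
  exact injective_of_local X.sheaf (fun _ _ => inferInstance) U
    (coversTop_of_forall_exists U fun x => ⟨x, hU x⟩) F fun x => (injective_restr_iff _ F).2 (hF x)

end Groth.Agent.InjMod
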