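import Groth.Agent.InjMod.SkyCofree
import Groth.Agent.InjMod.Coprod
import Groth.Agent.InjMod.Scheme
import Groth.Agent.InjMod.StalkInj
import Groth.Agent.AssSch.Stalk
import Groth.Agent.QCoh.Basic
import Mathlib.RingTheory.LocalProperties.Injective
import Mathlib.Algebra.Category.ModuleCat.Products

/-!
# Quasi-coherent injectives: tilde of injective modules, stalkwise criterion
-/

set_option autoImplicit false

universe u

open CategoryTheory CategoryTheory.Limits AlgebraicGeometry Opposite TopologicalSpace
open Groth.Agent.PullStalk.Sky Groth.Agent.KFlat.StalkTensor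

namespace Groth.Agent.InjMod

/-- An `S⁻¹R`-module which is injective over `R` is injective over `S⁻¹R`. -/
theorem injective_of_restrictScalars {R A : Type u} [CommRing R] [CommRing A] [Algebra R A]
    (S : Submonoid R) [IsLocalization S A] {N : Type u} [AddCommGroup N] [Module R N] [Module A N]
    [IsScalarTower R A N] (hN : Module.Injective R N) : Module.Injective A N := by
  refine Module.Baer.injective fun I g => ?_
  obtain ⟨h, hh⟩ := hN.out ((Submodule.subtype I).restrictScalars R) Subtype.val_injective
    (g.restrictScalars R)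
  exact ⟨LinearMap.extendScalarsOfIsLocalization S A h, fun x hx => hh ⟨x, hx⟩⟩

section tilde

variable {R : CommRingCat.{u}} (M : ModuleCat.{u} R)

theorem stalk_smul_germ (p : PrimeSpectrum R) (r : R) (e : M) :
    (tilde.toStalk M p).hom (r • e) =
      (show (Spec R).presheaf.stalk p from
        (Spec R).presheaf.germ ⊤ p trivial ((Scheme.ΓSpecIso R).inv r)) •
          (show (tilde M).presheaf.stalk p from (tilde.toStalk M p).hom e) := by
  have h1 := toStalk_eq M p ⊤ trivial
  rw [← h1, ← h1]
  refine (congrArg (fun z => germM (X := Spec R) (tilde M) ⊤ p trivial z)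
    (map_smul (tilde.toOpen M ⊤).hom r e)).trans ?_
  refine Eq.trans ?_ (germM_smul (X := Spec R) (tilde M) ⊤ p trivial ((Scheme.ΓSpecIso R).inv r) _)
  refine congrArg (fun z => germM (X := Spec R) (tilde M) ⊤ p trivial z) ?_
  refine (Scheme.Modules.smul_Spec_def r _).trans ?_
  congr 1

/-- The tilde of the hull of a prime is injective. -/
theorem injective_tilde_hull [IsNoetherianRing R] (p : PrimeSpectrum R)
    (g : (R ⧸ p.asIdeal) →ₗ[R] M) (hg : _root_.InjHull.IsInjectiveHull g) :
    Injective (tilde M : (Spec R).Modules) := by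
  let N := (tilde M).presheaf.stalk p
  let A := (Spec R).presheaf.stalk p
  let _ : Module R N := Module.compHom N
    (((Spec R).presheaf.germ ⊤ p trivial).hom.comp (Scheme.ΓSpecIso R).inv.hom)
  let _ : Algebra R A :=
    (((Spec R).presheaf.germ ⊤ p trivial).hom.comp (Scheme.ΓSpecIso R).inv.hom).toAlgebra
  have : IsScalarTower R A N := IsScalarTower.of_algebraMap_smul fun _ _ => rfl
  have : IsLocalization p.asIdeal.primeCompl A := by
    exact StructureSheaf.IsLocalization.to_stalk R p
  have hu : ∀ f : R, f ∉ p.asIdeal → Function.Bijective fun e : M => f • e :=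
    fun f hf => hull_smul_bijective p.asIdeal g hg hf
  have hn : ∀ f : R, f ∈ p.asIdeal → ∀ e : M, ∃ n : ℕ, f ^ n • e = 0 :=
    fun f hf e => hull_torsion p.asIdeal g hg hf e
  let β : M →ₗ[R] N :=
    { toFun := fun e => (tilde.toStalk M p).hom e
      map_add' := fun a b => map_add (tilde.toStalk M p).hom a b
      map_smul' := fun r e => stalk_smul_germ M p r e }
  have hβ : Function.Bijective β :=
    localized_bijective p.asIdeal.primeCompl (tilde.toStalk M p).hom fun s hs => hu s hs
  have hN : Module.Injective A N := injective_of_restrictScalars p.asIdeal.primeCompl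
    (InjHull.Basic.injective_of_equiv hg.isInjective (LinearEquiv.ofBijective β hβ))
  have := isIso_skyUnit_tilde M p hu hn
  exact Injective.of_iso (asIso (skyUnit (X := Spec R) (tilde M) p)).symm
    (injective_sky (X := Spec R) p _ hN)

/-- The tilde of an injective module over a noetherian ring is injective. -/
theorem injective_tilde [IsNoetherianRing R] (hM : Module.Injective R M) :
    Injective (tilde M : (Spec R).Modules) := by
  classical
  obtain ⟨ι, E, hE, hind⟩ := InjHull.Prime.exists_isInternal_indecomposable hM
  let e₁ : (∐ fun i => ModuleCat.of R (E i)) ≅ M :=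
    ModuleCat.coprodIsoDirectSum (fun i => ModuleCat.of R (E i)) ≪≫
      (LinearEquiv.ofBijective (DirectSum.coeLinearMap E) hE).toModuleIso
  have h : Injective (∐ fun i => (tilde.functor R).obj (ModuleCat.of R (E i))) := by
    refine injective_coproduct (X := Spec R) _ fun i => ?_
    obtain ⟨p, hp, f, hf⟩ := InjHull.Prime.exists_prime_hull_of_indecomposable (hind i).1 (hind i).2
    exact injective_tilde_hull (ModuleCat.of R (E i)) ⟨p, hp⟩ f hf
  exact Injective.of_iso ((PreservesCoproduct.iso (tilde.functor R) _).symm ≪≫
    (tilde.functor R).mapIso e₁) h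

end tilde

section transport

/-- Restriction along an isomorphism preserves injectives. -/
theorem injective_restrict_iso {X Y : Scheme.{u}} (h : Y ⟶ X) [IsIso h] (G : X.Modules)
    (hG : Injective G) : Injective (G.restrict h) := by
  let e₁ : 𝟭 X.Modules ≅ Scheme.Modules.restrictFunctor h ⋙ Scheme.Modules.restrictFunctor (inv h) :=
    Scheme.Modules.restrictFunctorId.symm ≪≫
      Scheme.Modules.restrictFunctorCongr (IsIso.inv_hom_id h).symm ≪≫
      Scheme.Modules.restrictFunctorComp _ _
  let e₂ : Scheme.Modules.restrictFunctor (inv h) ⋙ Scheme.Modules.restrictFunctor h ≅ 𝟭 Y.Modules :=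
    (Scheme.Modules.restrictFunctorComp _ _).symm ≪≫
      Scheme.Modules.restrictFunctorCongr (IsIso.hom_inv_id h) ≪≫ Scheme.Modules.restrictFunctorId
  let E : X.Modules ≌ Y.Modules :=
    CategoryTheory.Equivalence.mk (Scheme.Modules.restrictFunctor h)
      (Scheme.Modules.restrictFunctor (inv h)) e₁ e₂
  exact Injective.injective_of_adjoint E.symm.toAdjunction G

end transport

section criterion

variable {X : Scheme.{u}} [IsLocallyNoetherian X] (F : X.Modules) [F.IsQuasicoherent]

/-- Sections over an affine open of a quasi-coherent module with injective stalks form an injective module. -/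
theorem injective_sections {V : X.Opens} (hV : IsAffineOpen V)
    (h : ∀ x : X, Module.Injective (X.presheaf.stalk x) (F.presheaf.stalk x)) :
    Module.Injective Γ(X, V) Γ(F, V) := by
  have : IsNoetherianRing Γ(X, V) := IsLocallyNoetherian.component_noetherian ⟨V, hV⟩
  let pt : ∀ (P : Ideal Γ(X, V)) [P.IsMaximal], V := fun P _ =>
    ⟨hV.fromSpec ⟨P, inferInstance⟩, by
      have : hV.fromSpec ⟨P, inferInstance⟩ ∈ Set.range hV.fromSpec := ⟨_, rfl⟩
      rwa [hV.range_fromSpec] at this⟩
  have hpt : ∀ (P : Ideal Γ(X, V)) [P.IsMaximal], (hV.primeIdealOf (pt P)).asIdeal = P := fun P _ => by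
    have : hV.primeIdealOf (pt P) = ⟨P, inferInstance⟩ :=
      hV.fromSpec.isOpenEmbedding.injective (hV.fromSpec_primeIdealOf (pt P))
    rw [this]
  let algI : ∀ (P : Ideal Γ(X, V)) [P.IsMaximal], Algebra Γ(X, V) (X.presheaf.stalk (pt P).1) :=
    fun P _ => (X.presheaf.germ V (pt P).1 (pt P).2).hom.toAlgebra
  let modI : ∀ (P : Ideal Γ(X, V)) [P.IsMaximal], Module Γ(X, V) (F.presheaf.stalk (pt P).1) :=
    fun P _ => Module.compHom _ (X.presheaf.germ V (pt P).1 (pt P).2).hom
  have locI : ∀ (P : Ideal Γ(X, V)) [P.IsMaximal], IsLocalization.AtPrime (X.presheaf.stalk (pt P).1) P :=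
    fun P _ => by
      have := hV.isLocalization_stalk (pt P)
      simp only [hpt P] at this
      exact this
  have towI : ∀ (P : Ideal Γ(X, V)) [P.IsMaximal],
      IsScalarTower Γ(X, V) (X.presheaf.stalk (pt P).1) (F.presheaf.stalk (pt P).1) :=
    fun P _ => IsScalarTower.of_algebraMap_smul fun _ _ => rfl
  have lmI : ∀ (P : Ideal Γ(X, V)) [P.IsMaximal],
      IsLocalizedModule P.primeCompl (AssSch.Stalk.germLinear F (pt P).1 (pt P).2) := fun P _ => by
    have := AssSch.Stalk.isLocalizedModule_germLinear F hV (pt P).1 (pt P).2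
    simp only [AssSch.Stalk.primeOf, hpt P] at this
    exact this
  exact @Module.injective_of_localization_maximal' Γ(X, V) _ Γ(F, V) _ _
    (fun P _ => X.presheaf.stalk (pt P).1) (fun P _ => inferInstance) (fun P _ => inferInstance)
    (fun P _ => algI P) (fun P _ => locI P) (fun P _ => F.presheaf.stalk (pt P).1)
    (fun P _ => inferInstance) (fun P _ => modI P) (fun P _ => inferInstance) (fun P _ => towI P)
    (fun P _ => AssSch.Stalk.germLinear F (pt P).1 (pt P).2) (fun P _ => lmI P) _ _ fun P hP => h _

/-- A quasi-coherent module with injective stalks is injective. -/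
theorem injective_of_stalks (h : ∀ x : X, Module.Injective (X.presheaf.stalk x) (F.presheaf.stalk x)) :
    Injective F := by
  refine injective_of_locally F fun x => ?_
  obtain ⟨V, hV, hxV, -⟩ := exists_isAffineOpen_mem_and_subset (X := X) (x := x) (U := ⊤) trivial
  refine ⟨V, hxV, ?_⟩
  have : IsNoetherianRing Γ(X, V) := IsLocallyNoetherian.component_noetherian ⟨V, hV⟩
  let G : (Spec Γ(X, V)).Modules := F.restrict hV.fromSpec
  have : G.IsQuasicoherent := Scheme.Modules.isQuasicoherent_restrictFunctor hV.fromSpec F
  have := Scheme.Modules.isIso_fromTildeΓ_of_isQuasicoherent G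
  let α : Γ(F, V) →ₗ[Γ(X, V)] Γ(G, ⊤) :=
    { toFun := fun m => (F.restrictAppIso hV.fromSpec ⊤).inv
        (F.presheaf.map (homOfLE (Groth.Agent.QCoh.fromSpec_image_top hV).le).op m)
      map_add' := fun a b => by rw [map_add, map_add]
      map_smul' := fun r m => by
        apply (ConcreteCategory.bijective_of_isIso (F.restrictAppIso hV.fromSpec ⊤).hom).1
        show (F.restrictAppIso hV.fromSpec ⊤).hom _ =
          (F.restrictAppIso hV.fromSpec ⊤).hom
            (r • (F.restrictAppIso hV.fromSpec ⊤).inv
              (F.presheaf.map (homOfLE (Groth.Agent.QCoh.fromSpec_image_top hV).le).op m))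
        rw [Scheme.Modules.smul_Spec_def, Groth.Agent.QCoh.restrict_smul, Iso.inv_hom_id_apply,
          Iso.inv_hom_id_apply, Scheme.Modules.map_smul]
        congr 1
        refine (Groth.Agent.QCoh.appIso_inv_ΓSpecIso_inv hV r).symm.trans ?_
        congr 1 }
  have hα : Function.Bijective α := by
    have : IsIso (homOfLE (Groth.Agent.QCoh.fromSpec_image_top hV).le) :=
      ⟨homOfLE (Groth.Agent.QCoh.fromSpec_image_top hV).ge, rfl, rfl⟩
    exact (ConcreteCategory.bijective_of_isIso (F.restrictAppIso hV.fromSpec ⊤).inv).comp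
      (ConcreteCategory.bijective_of_isIso
        (F.presheaf.map (homOfLE (Groth.Agent.QCoh.fromSpec_image_top hV).le).op))
  have hM : Module.Injective Γ(X, V) ((modulesSpecToSheaf.obj G).presheaf.obj (op ⊤)) :=
    InjHull.Basic.injective_of_equiv (injective_sections F hV h) (LinearEquiv.ofBijective α hα)
  have hG : Injective G := Injective.of_iso (asIso G.fromTildeΓ) (injective_tilde _ hM)
  have hj : Injective ((F.restrict hV.fromSpec).restrict hV.isoSpec.hom) :=
    injective_restrict_iso hV.isoSpec.hom G hG
  exact Injective.of_iso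
    (((Scheme.Modules.restrictFunctorComp _ _).symm ≪≫
      Scheme.Modules.restrictFunctorCongr hV.isoSpec_hom_fromSpec).app F) hj

end criterion

end Groth.Agent.InjMod
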