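import Mathlib.CategoryTheory.Abelian.Injective.Ext
import Mathlib.CategoryTheory.Abelian.RightDerived
import Mathlib.CategoryTheory.Linear.Yoneda
import Mathlib.Algebra.Category.ModuleCat.Abelian
import Mathlib.Algebra.Homology.DerivedCategory.Ext.Linear
import Mathlib.Algebra.Homology.ShortComplex.ModuleCat

/-!
# Right derived functors of the linear `Hom(X, -)` are `Ext`, linearly
-/

set_option autoImplicit false

universe v u w

open CategoryTheory CategoryTheory.Limits CategoryTheory.Abelian

noncomputable section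

namespace Groth.Agent.InjMod.ExtLinear

variable (R : Type w) [CommRing R] {A : Type u} [Category.{v} A] [Abelian A] [Linear R A] [HasExt.{v} A]
  {Y : A} (I : InjectiveResolution Y) (X : A)

theorem smul_extMk {n : ℕ} (f : X ⟶ I.cocomplex.X n) (m : ℕ) (hm : n + 1 = m)
    (hf : f ≫ I.cocomplex.d n m = 0) (r : R) :
    r • I.extMk f m hm hf = I.extMk (r • f) m hm (by rw [Linear.smul_comp, hf, smul_zero]) := by
  have h := I.mk₀_comp_extMk f m hm hf (r • 𝟙 X)
  rw [Ext.mk₀_smul, Ext.smul_comp, Ext.mk₀_id_comp] at h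
  simpa using h

/-- `Hom(X, I •)`. -/
abbrev cx : CochainComplex (ModuleCat.{v} R) ℕ :=
  (((linearCoyoneda R A).obj (Opposite.op X)).mapHomologicalComplex _).obj I.cocomplex

omit [HasExt.{v} A] in
theorem iCycles_comp_d (n : ℕ) (z : (cx R I X).cycles n) :
    (show X ⟶ I.cocomplex.X n from (cx R I X).iCycles n z) ≫ I.cocomplex.d n (n + 1) = 0 :=
  ConcreteCategory.congr_hom ((cx R I X).iCycles_d n (n + 1)) z

/-- The class of a cocycle. -/
def cls (n : ℕ) : (cx R I X).cycles n →ₗ[R] Ext X Y n where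
  toFun z := I.extMk (show X ⟶ I.cocomplex.X n from (cx R I X).iCycles n z) (n + 1) rfl (iCycles_comp_d R I X n z)
  map_add' z w := by
    rw [InjectiveResolution.add_extMk]
    congr 1
    exact map_add ((cx R I X).iCycles n).hom z w
  map_smul' r z := by
    rw [RingHom.id_apply, smul_extMk R I X]
    congr 1
    exact map_smul ((cx R I X).iCycles n).hom r z

theorem cls_surjective (n : ℕ) : Function.Surjective (cls R I X n) := fun x => by
  obtain ⟨f, hf, rfl⟩ := I.extMk_surjective x (n + 1) rfl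
  have h : (ShortComplex.mk ((cx R I X).iCycles n) ((cx R I X).d n (n + 1))
      ((cx R I X).iCycles_d n (n + 1))).Exact :=
    ShortComplex.exact_of_f_is_kernel _ ((cx R I X).cyclesIsKernel n (n + 1) (by simp))
  rw [ShortComplex.moduleCat_exact_iff] at h
  obtain ⟨z, hz⟩ := h f hf
  refine ⟨z, ?_⟩
  show I.extMk (show X ⟶ I.cocomplex.X n from (cx R I X).iCycles n z) (n + 1) rfl
    (iCycles_comp_d R I X n z) = _
  congr 1

theorem cls_succ_eq_zero_iff (p : ℕ) (z : (cx R I X).cycles (p + 1)) :
    cls R I X (p + 1) z = 0 ↔ ∃ g, (cx R I X).toCycles p (p + 1) g = z := by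
  change I.extMk _ (p + 1 + 1) rfl (iCycles_comp_d R I X (p + 1) z) = 0 ↔ _
  rw [I.extMk_eq_zero_iff _ _ _ _ p rfl]
  constructor
  · rintro ⟨g, hg⟩
    refine ⟨g, (ModuleCat.mono_iff_injective ((cx R I X).iCycles (p + 1))).1 inferInstance ?_⟩
    exact (ConcreteCategory.congr_hom ((cx R I X).toCycles_i p (p + 1)) g).trans hg
  · rintro ⟨g, rfl⟩
    exact ⟨g, (ConcreteCategory.congr_hom ((cx R I X).toCycles_i p (p + 1)) g).symm⟩

theorem cls_zero_injective : Function.Injective (cls R I X 0) := by
  rw [injective_iff_map_eq_zero]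
  intro z hz
  have h : (show X ⟶ I.cocomplex.X 0 from (cx R I X).iCycles 0 z) = 0 := by
    have hz' : I.extMk (show X ⟶ I.cocomplex.X 0 from (cx R I X).iCycles 0 z) 1 rfl
        (iCycles_comp_d R I X 0 z) = 0 := hz
    rw [← I.extEquivCohomologyClass.apply_eq_iff_eq, InjectiveResolution.extEquivCohomologyClass_extMk,
      InjectiveResolution.extEquivCohomologyClass_zero,
      CochainComplex.HomComplex.CohomologyClass.mk_eq_zero_iff,
      CochainComplex.HomComplex.Cocycle.fromSingleMk_mem_coboundaries_iff _ _ _ _ _ (-1) (by simp)] at hz'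
    obtain ⟨g, hg⟩ := hz'
    have : g = 0 := (I.cochainComplex.isZero_of_isStrictlyGE 0 (-1) (by lia)).eq_of_tgt _ _
    rw [this, zero_comp] at hg
    exact (cancel_mono (I.cochainComplexXIso 0 0 rfl).inv).1 (hg.symm.trans zero_comp.symm)
  exact (ModuleCat.mono_iff_injective ((cx R I X).iCycles 0)).1 inferInstance
    (h.trans (map_zero ((cx R I X).iCycles 0).hom).symm)

theorem nonempty_homology_linearEquiv (n : ℕ) :
    Nonempty ((cx R I X).homology n ≃ₗ[R] Ext X Y n) := by
  rcases n with _ | p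
  · exact ⟨(CochainComplex.isoHomologyπ₀ (cx R I X)).toLinearEquiv.symm ≪≫ₗ
      LinearEquiv.ofBijective (cls R I X 0) ⟨cls_zero_injective R I X, cls_surjective R I X 0⟩⟩
  · let π := ((cx R I X).homologyπ (p + 1)).hom
    have hπ : Function.Surjective π := (ModuleCat.epi_iff_surjective _).1 inferInstance
    have h : LinearMap.ker π = LinearMap.ker (cls R I X (p + 1)) := by
      ext z
      rw [LinearMap.mem_ker, LinearMap.mem_ker, cls_succ_eq_zero_iff]
      have hex : (ShortComplex.mk ((cx R I X).toCycles p (p + 1)) ((cx R I X).homologyπ (p + 1))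
          (by simp)).Exact :=
        ShortComplex.exact_of_g_is_cokernel _
          ((cx R I X).homologyIsCokernel p (p + 1) (by simp))
      rw [ShortComplex.moduleCat_exact_iff] at hex
      refine ⟨fun hz => hex z hz, ?_⟩
      rintro ⟨g, rfl⟩
      exact ConcreteCategory.congr_hom ((cx R I X).toCycles_comp_homologyπ p (p + 1)) g
    exact ⟨(π.quotKerEquivOfSurjective hπ).symm ≪≫ₗ (Submodule.quotEquivOfEq _ _ h) ≪≫ₗ
      (cls R I X (p + 1)).quotKerEquivOfSurjective (cls_surjective R I X _)⟩

/-- `Rⁿ Hom(X, -) = Extⁿ(X, -)` linearly. -/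
theorem nonempty_rightDerived_linearEquiv [HasInjectiveResolutions A] (Z : A) (n : ℕ) :
    Nonempty ((((linearCoyoneda R A).obj (Opposite.op X)).rightDerived n).obj Z ≃ₗ[R] Ext X Z n) := by
  obtain ⟨e⟩ := nonempty_homology_linearEquiv R (injectiveResolution Z) X n
  exact ⟨((injectiveResolution Z).isoRightDerivedObj _ n).toLinearEquiv ≪≫ₗ e⟩

end Groth.Agent.InjMod.ExtLinear
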