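import Groth.Agent.PullStalk.Sky
import Groth.Prelude.Def_ModSite2
import Mathlib.Topology.Sheaves.Points
import Mathlib.Algebra.Category.ModuleCat.ChangeOfRings

/-!
# Stalks at points of the site of opens and stalks of presheaves
-/

set_option autoImplicit false

universe u v

open CategoryTheory CategoryTheory.Limits AlgebraicGeometry Opposite TopologicalSpace
open Groth.Agent.PullStalk.Sky

noncomputable section

namespace Groth.Agent.InjMod.PointStalk

variable {T : TopCat.{u}} (x : T)

/-- The fibre at a point is the stalk. -/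
def fiberIso {A : Type v} [Category.{u} A] [HasColimitsOfSize.{u, u} A] (P : (Opens T)ᵒᵖ ⥤ A) :
    (Opens.pointGrothendieckTopology x).presheafFiber.obj P ≅ TopCat.Presheaf.stalk P x where
  hom := (Opens.pointGrothendieckTopology x).presheafFiberDesc
    (fun U h => TopCat.Presheaf.germ P U x h.down.down)
    (fun {U V} f h => TopCat.Presheaf.germ_res P f x h.down.down)
  inv := colimit.desc _ (Cocone.mk _
    { app := fun U => (Opens.pointGrothendieckTopology x).toPresheafFiber U.unop.1 ⟨⟨U.unop.2⟩⟩ P
      naturality := fun U V f => by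
        exact ((Opens.pointGrothendieckTopology x).toPresheafFiber_w _ _ P).trans (Category.comp_id _).symm })
  hom_inv_id := by
    refine (Opens.pointGrothendieckTopology x).presheafFiber_hom_ext fun U h => ?_
    rw [Category.comp_id, ← Category.assoc]
    refine (congrArg (· ≫ colimit.desc _ _) ((Opens.pointGrothendieckTopology x).toPresheafFiber_presheafFiberDesc
      (fun U h => TopCat.Presheaf.germ P U x h.down.down)
      (fun {U V} f h => TopCat.Presheaf.germ_res P f x h.down.down) U h)).trans ?_
    exact colimit.ι_desc _ _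
  inv_hom_id := by
    refine TopCat.Presheaf.stalk_hom_ext P fun U h => ?_
    rw [Category.comp_id]
    refine (colimit.ι_desc_assoc _ _ _).trans ?_
    exact (Opens.pointGrothendieckTopology x).toPresheafFiber_presheafFiberDesc
      (fun U h => TopCat.Presheaf.germ P U x h.down.down)
      (fun {U V} f h => TopCat.Presheaf.germ_res P f x h.down.down) U ⟨⟨h⟩⟩

variable {X : Scheme.{u}} (x : X)

/-- The stalk ring at the point of the site is the local ring. -/
def ringEquiv : ModSite.stalkRing (Opens.pointGrothendieckTopology x) X.sheaf ≃+* X.presheaf.stalk x :=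
  (fiberIso x X.presheaf).commRingCatIsoToRingEquiv

theorem ringEquiv_germ (U : X.Opens) (hx : x ∈ U) (r : Γ(X, U)) :
    ringEquiv x (ModSite.germRing (Opens.pointGrothendieckTopology x) U ⟨⟨hx⟩⟩ r) =
      X.presheaf.germ U x hx r :=
  ConcreteCategory.congr_hom ((Opens.pointGrothendieckTopology x).toPresheafFiber_presheafFiberDesc
    (fun U h => TopCat.Presheaf.germ X.presheaf U x h.down.down)
    (fun {U V} f h => TopCat.Presheaf.germ_res X.presheaf f x h.down.down) U ⟨⟨hx⟩⟩) r

/-- The stalk of a module at the point of the site. -/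
def stalkEquiv (M : X.Modules) :
    ModSite.stalkAb (Opens.pointGrothendieckTopology x) (O := X.sheaf) M ≃+ M.presheaf.stalk x :=
  (fiberIso x M.presheaf).addCommGroupIsoToAddEquiv

theorem stalkEquiv_germ (M : X.Modules) (U : X.Opens) (hx : x ∈ U) (m : Γ(M, U)) :
    stalkEquiv x M (ModSite.germ (Opens.pointGrothendieckTopology x) (O := X.sheaf) M U ⟨⟨hx⟩⟩ m) =
      germM M U x hx m :=
  ConcreteCategory.congr_hom ((Opens.pointGrothendieckTopology x).toPresheafFiber_presheafFiberDesc
    (fun U h => TopCat.Presheaf.germ M.presheaf U x h.down.down)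
    (fun {U V} f h => TopCat.Presheaf.germ_res M.presheaf f x h.down.down) U ⟨⟨hx⟩⟩) m

theorem stalkEquiv_smul (M : X.Modules)
    (r : ModSite.stalkRing (Opens.pointGrothendieckTopology x) X.sheaf)
    (m : ModSite.stalkAb (Opens.pointGrothendieckTopology x) (O := X.sheaf) M) :
    stalkEquiv x M (r • m) = ringEquiv x r • stalkEquiv x M m := by
  obtain ⟨U, hU, m, rfl⟩ := exists_germM_eq M x (stalkEquiv x M m) |>.imp fun U ⟨h, m', e⟩ =>
    (⟨h, m', (stalkEquiv x M).injective ((stalkEquiv_germ x M U h m').trans e)⟩ :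
      ∃ (h : x ∈ U) (m' : Γ(M, U)),
        ModSite.germ (Opens.pointGrothendieckTopology x) (O := X.sheaf) M U ⟨⟨h⟩⟩ m' = m)
  obtain ⟨V, hV, a, ha⟩ := X.presheaf.exists_germ_eq (x := x) (ringEquiv x r)
  obtain rfl : ModSite.germRing (Opens.pointGrothendieckTopology x) V ⟨⟨hV⟩⟩ a = r :=
    (ringEquiv x).injective ((ringEquiv_germ x V hV a).trans ha)
  have hW : x ∈ U ⊓ V := ⟨hU, hV⟩
  let i : U ⊓ V ⟶ U := homOfLE inf_le_left
  let j : U ⊓ V ⟶ V := homOfLE inf_le_right
  have e1 : ModSite.germ (Opens.pointGrothendieckTopology x) (O := X.sheaf) M U ⟨⟨hU⟩⟩ m =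
      ModSite.germ (Opens.pointGrothendieckTopology x) (O := X.sheaf) M (U ⊓ V) ⟨⟨hW⟩⟩ (M.presheaf.map i.op m) :=
    (stalkEquiv x M).injective (((stalkEquiv_germ x M U hU m).trans
      (M.presheaf.germ_res_apply i x hW m).symm).trans (stalkEquiv_germ x M _ hW _).symm)
  have e2 : ModSite.germRing (Opens.pointGrothendieckTopology x) V ⟨⟨hV⟩⟩ a =
      ModSite.germRing (Opens.pointGrothendieckTopology x) (U ⊓ V) ⟨⟨hW⟩⟩ (X.presheaf.map j.op a) :=
    (ringEquiv x).injective (((ringEquiv_germ x V hV a).trans
      (X.presheaf.germ_res_apply j x hW a).symm).trans (ringEquiv_germ x _ hW _).symm)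
  rw [e1, e2, ringEquiv_germ, stalkEquiv_germ]
  refine (congrArg (stalkEquiv x M) (ModSite.germ_smul (Opens.pointGrothendieckTopology x) (O := X.sheaf) M
    (U ⊓ V) ⟨⟨hW⟩⟩ (X.presheaf.map j.op a) (M.presheaf.map i.op m)).symm).trans ?_
  refine (stalkEquiv_germ x M (U ⊓ V) hW _).trans ?_
  exact germM_smul M (U ⊓ V) x hW _ _

/-- Restriction of scalars to the stalk ring of the point. -/
abbrev toPoint :
    ModuleCat.{u} (X.presheaf.stalk x) ⥤
      ModuleCat.{u} (ModSite.stalkRing (Opens.pointGrothendieckTopology x) X.sheaf) :=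
  ModuleCat.restrictScalars (ringEquiv x).toRingHom

/-- The stalk module at the point of the site. -/
def stalkModIso (M : X.Modules) :
    ModSite.stalkMod (Opens.pointGrothendieckTopology x) (O := X.sheaf) M ≅
      (toPoint x).obj (ModuleCat.of (X.presheaf.stalk x) (M.presheaf.stalk x)) :=
  (show ModSite.stalkMod (Opens.pointGrothendieckTopology x) (O := X.sheaf) M ≃ₗ[ModSite.stalkRing
      (Opens.pointGrothendieckTopology x) X.sheaf]
      (toPoint x).obj (ModuleCat.of (X.presheaf.stalk x) (M.presheaf.stalk x)) from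
    { toFun := stalkEquiv x M
      invFun := (stalkEquiv x M).symm
      left_inv := (stalkEquiv x M).symm_apply_apply
      right_inv := (stalkEquiv x M).apply_symm_apply
      map_add' := map_add (stalkEquiv x M)
      map_smul' := fun r m => stalkEquiv_smul x M r m }).toModuleIso

end Groth.Agent.InjMod.PointStalk
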