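import Groth.Agent.InjMod.HomShBridge
import Groth.Agent.InjMod.PointStalk
import Groth.Agent.InjMod.ExtLinear
import Groth.Agent.InjMod.StalkInj
import Groth.Agent.ModShf.Flasque
import Groth.Agent.DerFun.Basic
import Groth.Agent.ExtSuppLib.Compare

/-!
# Stalks of Ext sheaves
-/

set_option autoImplicit false
set_option maxHeartbeats 1600000

universe u v

open CategoryTheory CategoryTheory.Limits AlgebraicGeometry Opposite TopologicalSpace
open Groth.Agent.PullStalk.Sky Groth.Agent.KFlat.StalkTensor

noncomputable section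

namespace Groth.Agent.InjMod

variable {X : Scheme.{u}}

/-- The stalk of `ℋom(F, -)` is `Hom(F_x, (-)_x)`. -/
def evNatIso (F : X.Modules) [ModSite.HasSheafHom (O := X.sheaf) F] (hF : CohB1.IsFP F) (x : X) :
    homF F ⋙ DerSch.stalkFunctor X x ≅
      DerSch.stalkFunctor X x ⋙
        (linearCoyoneda (X.presheaf.stalk x) (ModuleCat.{u} (X.presheaf.stalk x))).obj
          (op ((DerSch.stalkFunctor X x).obj F)) :=
  NatIso.ofComponents
    (fun G => (show ((DerSch.stalkFunctor X x).obj ((homF F).obj G)) ≃ₗ[X.presheaf.stalk x]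
        ((DerSch.stalkFunctor X x).obj F ⟶ (DerSch.stalkFunctor X x).obj G) from
      (LinearEquiv.ofBijective (evStalk F G x) (evStalk_bijective_of_isFP F G hF x)).trans
        (ModuleCat.homLinearEquiv (S := X.presheaf.stalk x)
          (M := (DerSch.stalkFunctor X x).obj F) (N := (DerSch.stalkFunctor X x).obj G)).symm).toModuleIso)
    (fun {G G'} g => ModuleCat.hom_ext (LinearMap.ext fun s => ModuleCat.hom_ext (evStalk_natural g s)))

/-- The stalk of an Ext sheaf is the Ext of the stalks. -/
theorem nonempty_stalk_extSh_equiv [IsLocallyNoetherian X] (F G : X.Modules)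
    [ModSite.HasSheafHom (O := X.sheaf) F] [HasInjectiveResolutions (ModSite.Mod X.sheaf)]
    (hF : CohB1.IsFP F) (x : X) (i : ℕ) :
    Nonempty ((DerSch.stalkFunctor X x).obj ((ModSite.extSh (O := X.sheaf) F i).obj G) ≃ₗ[X.presheaf.stalk x]
      Abelian.Ext ((DerSch.stalkFunctor X x).obj F) ((DerSch.stalkFunctor X x).obj G) i) := by
  have : HasInjectiveResolutions X.Modules := ‹HasInjectiveResolutions (ModSite.Mod X.sheaf)›
  let T := DerSch.stalkFunctor X x
  have : T.PreservesHomology := preservesHomology_stalkFunctor x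
  have : PreservesFiniteLimits T := Functor.preservesFiniteLimits_of_preservesHomology T
  have : PreservesFiniteColimits T := Functor.preservesFiniteColimits_of_preservesHomology T
  have : T.PreservesInjectiveObjects := ⟨fun {Q} hQ => by
    have := stalk_injective Q hQ x
    have : Injective (ModuleCat.of (X.presheaf.stalk x) (Q.presheaf.stalk x)) :=
      Module.injective_object_of_injective_module _ (Q.presheaf.stalk x)
    exact this⟩
  have : (ChgRings.tensR F).Additive := KFlat.additive_tensorBi_flip F
  have : (homF F).Additive := (homAdj F).right_adjoint_additive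
  let R := X.presheaf.stalk x
  obtain ⟨e⟩ := ExtLinear.nonempty_rightDerived_linearEquiv R (T.obj F) (T.obj G) i
  exact ⟨((ModShf.rightDerivedCompIso (homF F) T i).symm.app G ≪≫
    (ExtSuppLib.rightDerivedMapIso (evNatIso F hF x) i).app G ≪≫
    DerFun.rightDerivedCompIso T ((linearCoyoneda R (ModuleCat.{u} R)).obj (op (T.obj F))) i G).toLinearEquiv
      ≪≫ₗ e⟩

/-! ### Change of rings along a ring isomorphism -/

variable {R R' : Type u} [CommRing R] [CommRing R'] (φ : R' ≃+* R)

/-- Restriction of scalars along a ring isomorphism, on homs. -/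
def restrictHomIso (A : ModuleCat.{u} R) :
    (linearCoyoneda R (ModuleCat.{u} R)).obj (op A) ⋙ ModuleCat.restrictScalars φ.toRingHom ≅
      ModuleCat.restrictScalars φ.toRingHom ⋙
        (linearCoyoneda R' (ModuleCat.{u} R')).obj (op ((ModuleCat.restrictScalars φ.toRingHom).obj A)) :=
  NatIso.ofComponents
    (fun G => (show ((ModuleCat.restrictScalars φ.toRingHom).obj (ModuleCat.of R (A ⟶ G))) ≃ₗ[R']
        ((ModuleCat.restrictScalars φ.toRingHom).obj A ⟶ (ModuleCat.restrictScalars φ.toRingHom).obj G) from
      { toFun := fun f => (ModuleCat.restrictScalars φ.toRingHom).map f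
        invFun := fun f => (ModuleCat.restrictScalars φ.toRingHom).preimage f
        left_inv := fun f => (ModuleCat.restrictScalars φ.toRingHom).preimage_map f
        right_inv := fun f => (ModuleCat.restrictScalars φ.toRingHom).map_preimage f
        map_add' := fun f g => rfl
        map_smul' := fun r f => rfl }).toModuleIso)
    (fun {G G'} g => rfl)

theorem nonempty_ext_restrictScalars (A B : ModuleCat.{u} R) (i : ℕ) :
    Nonempty ((ModuleCat.restrictScalars φ.toRingHom).obj (ModuleCat.of R (Abelian.Ext A B i)) ≃ₗ[R']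
      Abelian.Ext ((ModuleCat.restrictScalars φ.toRingHom).obj A)
        ((ModuleCat.restrictScalars φ.toRingHom).obj B) i) := by
  let E := ModuleCat.restrictScalars.{u} φ.toRingHom
  have : E.IsEquivalence := ModuleCat.restrictScalars_isEquivalence_of_ringEquiv φ
  have : PreservesFiniteLimits E := inferInstance
  have : PreservesFiniteColimits E := inferInstance
  have : E.PreservesInjectiveObjects := ⟨fun {Q} _ => Injective.injective_of_adjoint E.asEquivalence.symm.toAdjunction Q⟩
  obtain ⟨e₁⟩ := ExtLinear.nonempty_rightDerived_linearEquiv R A B i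
  obtain ⟨e₂⟩ := ExtLinear.nonempty_rightDerived_linearEquiv R' (E.obj A) (E.obj B) i
  exact ⟨((E.mapIso e₁.toModuleIso.symm : E.obj (ModuleCat.of R (Abelian.Ext A B i)) ≅ _) ≪≫
    (ModShf.rightDerivedCompIso ((linearCoyoneda R (ModuleCat.{u} R)).obj (op A)) E i).symm.app B ≪≫
    (ExtSuppLib.rightDerivedMapIso (restrictHomIso φ A) i).app B ≪≫
    DerFun.rightDerivedCompIso E _ i B).toLinearEquiv ≪≫ₗ e₂⟩

end Groth.Agent.InjMod
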