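import Groth.Agent.InjMod.Affine
import Groth.Agent.QCoh.Qcqs
import Groth.Agent.KFlat.TildeExact
import Groth.Prelude.Def_CxOX

/-!
# Quasi-coherent modules embed into quasi-coherent injectives on noetherian schemes
-/

set_option autoImplicit false
set_option maxHeartbeats 1000000

universe u

open CategoryTheory CategoryTheory.Limits AlgebraicGeometry Opposite TopologicalSpace

noncomputable section

namespace Groth.Agent.InjMod

variable {X : Scheme.{u}}

/-- A quasi-coherent module maps to a quasi-coherent injective, injectively over an affine open. -/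
theorem exists_embed_affine [IsNoetherian X] (G : X.Modules) [G.IsQuasicoherent] {V : X.Opens}
    (hV : IsAffineOpen V) :
    ∃ (J : X.Modules) (φ : G ⟶ J), Injective J ∧ J.IsQuasicoherent ∧
      ∀ W : X.Opens, W ≤ V → Function.Injective (φ.app W) := by
  let f := hV.fromSpec
  have : IsNoetherianRing Γ(X, V) := IsLocallyNoetherian.component_noetherian ⟨V, hV⟩
  let G' := G.restrict f
  have : G'.IsQuasicoherent := inferInstance
  let R : CommRingCat.{u} := Γ(X, V)
  let M : ModuleCat.{u} R := moduleSpecΓFunctor.obj G'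
  let I : ModuleCat.{u} R := Injective.under M
  have hi : IsIso G'.fromTildeΓ := Scheme.Modules.isIso_fromTildeΓ_of_isQuasicoherent G'
  let J₀ : (Spec R).Modules := tilde (R := R) I
  have hI : Module.Injective R I := by
    have h : Injective (Injective.under M) := inferInstance
    exact @Module.injective_module_of_injective_object _ _ _ _ _ h
  have hJ₀ : Injective J₀ := injective_tilde (R := R) (M := I) hI
  have hmap : Mono ((tilde.functor R).map (Injective.ι M)) := KFlat.TildeExact.mono_tilde_map R (Injective.ι M)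
  let h : G' ⟶ J₀ := (asIso G'.fromTildeΓ).inv ≫ (tilde.functor R).map (Injective.ι M)
  have hm : Mono h := @mono_comp _ _ _ _ _ _ inferInstance _ hmap
  let adj := Scheme.Modules.restrictAdjunction f
  let φ := adj.homEquiv G J₀ h
  refine ⟨(Scheme.Modules.pushforward f).obj J₀, φ, ?_, QCoh.isQuasicoherent_pushforward f J₀, ?_⟩
  · have : (Scheme.Modules.restrictFunctor f).IsRightAdjoint := (CxOX.extZeroAdj f).isRightAdjoint
    exact Injective.injective_of_adjoint adj J₀
  · intro W hW
    obtain ⟨O, rfl⟩ : ∃ O : (Spec Γ(X, V)).Opens, f ''ᵁ O = W := by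
      refine ⟨f ⁻¹ᵁ W, ?_⟩
      rw [Scheme.Hom.image_preimage_eq_opensRange_inf, hV.opensRange_fromSpec]
      exact inf_eq_right.2 hW
    have hh : (Scheme.Modules.restrictFunctor f).map φ ≫ adj.counit.app J₀ = h :=
      (adj.homEquiv_counit _ _ φ).symm.trans (Equiv.symm_apply_apply _ h)
    have : Mono ((Scheme.Modules.restrictFunctor f).map φ) := by
      have : Mono ((Scheme.Modules.restrictFunctor f).map φ ≫ adj.counit.app J₀) := by rw [hh]; exact hm
      exact mono_of_mono _ (adj.counit.app J₀)
    exact QCoh.app_injective_of_mono ((Scheme.Modules.restrictFunctor f).map φ) O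

/-- On a noetherian scheme a quasi-coherent module embeds into a quasi-coherent injective. -/
theorem exists_mono_qcoh_injective [IsNoetherian X] (G : X.Modules) [G.IsQuasicoherent] :
    ∃ (J : X.Modules) (φ : G ⟶ J), Mono φ ∧ Injective J ∧ J.IsQuasicoherent := by
  have : HasFiniteBiproducts X.Modules := Abelian.hasFiniteBiproducts
  choose V hV hxV _ using fun x : X =>
    exists_isAffineOpen_mem_and_subset (show x ∈ (⊤ : X.Opens) from trivial)
  obtain ⟨t, ht⟩ := isCompact_univ.elim_finite_subcover (fun x => (V x : Set X)) (fun x => (V x).2)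
    (fun x _ => Set.mem_iUnion.2 ⟨x, hxV x⟩)
  let e := t.equivFin
  choose J φ hJi hJq hφ using fun i : Fin t.card => exists_embed_affine G (hV (e.symm i).1)
  refine ⟨⨁ J, biproduct.lift φ, ?_, ?_, ?_⟩
  · refine ⟨fun {P} a b hab => ?_⟩
    refine Scheme.Modules.hom_ext _ _ fun W => ?_
    ext p
    let FG : TopCat.Sheaf Ab.{u} X := ⟨G.presheaf, G.isSheaf⟩
    refine TopCat.Sheaf.eq_of_locally_eq' FG (fun i : Fin t.card => W ⊓ V (e.symm i).1) W
      (fun i => homOfLE inf_le_left) ?_ _ _ fun i => ?_
    · intro x hx
      obtain ⟨y, hy, hxy⟩ := Set.mem_iUnion₂.1 (ht (Set.mem_univ x))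
      refine Opens.mem_iSup.2 ⟨e ⟨y, hy⟩, hx, ?_⟩
      rw [e.symm_apply_apply]
      exact hxy
    · refine hφ i _ inf_le_right ?_
      have h1 := congrArg (fun k : P ⟶ ⨁ J => k ≫ biproduct.π J i) hab
      simp only [Category.assoc, biproduct.lift_π] at h1
      refine Eq.trans ?_ ((congrArg (fun k : P ⟶ J i => k.app (W ⊓ V (e.symm i).1)
        (P.presheaf.map (homOfLE inf_le_left).op p)) h1).trans ?_)
      · exact congrArg ((φ i).app _)
          (NatTrans.naturality_apply a.mapPresheaf (homOfLE (inf_le_left : W ⊓ V (e.symm i).1 ≤ W)).op p).symm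
      · exact congrArg ((φ i).app _)
          (NatTrans.naturality_apply b.mapPresheaf (homOfLE (inf_le_left : W ⊓ V (e.symm i).1 ≤ W)).op p)
  · have : ∀ i, Injective (J i) := hJi
    infer_instance
  · have : ∀ j : Discrete (Fin t.card), ((Discrete.functor J).obj j).IsQuasicoherent := fun j => hJq j.as
    exact @QCoh.isQuasicoherent_of_iso _ _ _ (biproduct.isoCoproduct J).symm
      (QCoh.isQuasicoherent_colimit (Discrete.functor J))

end Groth.Agent.InjMod
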