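import Groth.Agent.InjMod.EvSec
import Groth.Agent.InjMod.QCohEmbed
import Groth.Agent.InjMod.StalkInj
import Groth.Agent.RDerLES
import Mathlib.Algebra.Homology.DerivedCategory.Ext.EnoughInjectives
import Mathlib.Algebra.Category.ModuleCat.Ext.Finite

/-!
# Ext sheaves of a finitely presented and a quasi-coherent module on a noetherian scheme

Quasi-coherence and the computation of the sections over affine opens, by dimension shifting along
an embedding into a quasi-coherent injective.
-/

set_option autoImplicit false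
set_option maxHeartbeats 1600000

universe u

open CategoryTheory CategoryTheory.Limits AlgebraicGeometry Opposite TopologicalSpace Abelian

noncomputable section

namespace Groth.Agent.InjMod

variable {X : Scheme.{u}}

/-- The map on sections as a linear map. -/
def secLin {M N : X.Modules} (φ : M ⟶ N) (U : X.Opens) : Γ(M, U) →ₗ[Γ(X, U)] Γ(N, U) where
  toFun := φ.app U
  map_add' := map_add (φ.app U).hom
  map_smul' r x := Scheme.Modules.Hom.app_smul φ r x

theorem secLin_comp_apply {M N P : X.Modules} (φ : M ⟶ N) (ψ : N ⟶ P) (U : X.Opens) (x : Γ(M, U)) :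
    secLin (φ ≫ ψ) U x = secLin ψ U (secLin φ U x) := by
  show (φ ≫ ψ).app U x = ψ.app U (φ.app U x)
  rw [Scheme.Modules.Hom.comp_app]
  rfl

/-- Isomorphic modules have isomorphic sections. -/
def secEquiv {M N : X.Modules} (e : M ≅ N) (U : X.Opens) : Γ(M, U) ≃ₗ[Γ(X, U)] Γ(N, U) :=
  LinearEquiv.ofLinear (secLin e.hom U) (secLin e.inv U)
    (LinearMap.ext fun x => (secLin_comp_apply e.inv e.hom U x).symm.trans (by rw [e.inv_hom_id]; rfl))
    (LinearMap.ext fun x => (secLin_comp_apply e.hom e.inv U x).symm.trans (by rw [e.hom_inv_id]; rfl))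

/-- Sections over an affine open are exact on quasi-coherent modules. -/
theorem exists_secLin_eq_of_exact {S : ShortComplex X.Modules} (hS : S.Exact) [S.X₁.IsQuasicoherent]
    [S.X₂.IsQuasicoherent] [S.X₃.IsQuasicoherent] {U : X.Opens} (hU : IsAffineOpen U)
    (y : Γ(S.X₂, U)) (hy : secLin S.g U y = 0) : ∃ x, secLin S.f U x = y := by
  have : Epi (kernel.lift S.g S.f S.zero) := hS.epi_kernelLift
  have : (kernel S.g).IsQuasicoherent := QCoh.isQuasicoherent_kernel S.g
  let T := ShortComplex.mk (kernel.ι S.g) S.g (kernel.condition S.g)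
  have hT : T.Exact := ShortComplex.exact_of_f_is_kernel _ (kernelIsKernel S.g)
  obtain ⟨z, hz⟩ := QCoh.exists_app_eq_of_app_eq_zero T hT U y hy
  obtain ⟨x, rfl⟩ := QCoh.app_surjective_of_epi (kernel.lift S.g S.f S.zero) hU z
  refine ⟨x, ?_⟩
  rw [← hz]
  exact (LinearMap.congr_fun (congrArg (fun k => secLin k U) (kernel.lift_ι S.g S.f S.zero)) x).symm.trans
    (secLin_comp_apply _ (kernel.ι S.g) U x)

/-- The short complex of sections. -/
abbrev secCx (S : ShortComplex X.Modules) (U : X.Opens) : ShortComplex (ModuleCat.{u} Γ(X, U)) :=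
  ShortComplex.mk (ModuleCat.ofHom (secLin S.f U)) (ModuleCat.ofHom (secLin S.g U))
    (ModuleCat.hom_ext (LinearMap.ext fun x =>
      (secLin_comp_apply S.f S.g U x).symm.trans (by rw [S.zero]; rfl)))

theorem secCx_shortExact {S : ShortComplex X.Modules} (hS : S.ShortExact) [S.X₁.IsQuasicoherent]
    [S.X₂.IsQuasicoherent] [S.X₃.IsQuasicoherent] {U : X.Opens} (hU : IsAffineOpen U) :
    (secCx S U).ShortExact := by
  have := hS.mono_f
  have := hS.epi_g
  refine { exact := ?_, mono_f := ?_, epi_g := ?_ }
  · exact (ShortComplex.moduleCat_exact_iff _).2 fun y hy => exists_secLin_eq_of_exact hS.exact hU y hy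
  · exact (ModuleCat.mono_iff_injective _).2 (QCoh.app_injective_of_mono S.f U)
  · exact (ModuleCat.epi_iff_surjective _).2 (QCoh.app_surjective_of_epi S.g hU)

/-- Sections over an affine open of a quasi-coherent injective are injective. -/
theorem injective_secObj [IsLocallyNoetherian X] (J : X.Modules) [J.IsQuasicoherent] (hJ : Injective J)
    {U : X.Opens} (hU : IsAffineOpen U) : Injective (ModuleCat.of Γ(X, U) Γ(J, U)) :=
  have := injective_sections J hU fun x => stalk_injective J hJ x
  Module.injective_object_of_injective_module _ Γ(J, U)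

/-- Sections over `U` as an object of the category of modules. -/
abbrev secObj (M : X.Modules) (U : X.Opens) : ModuleCat.{u} Γ(X, U) := ModuleCat.of Γ(X, U) Γ(M, U)

variable (F : X.Modules) [ModSite.HasSheafHom (O := X.sheaf) F] [HasInjectiveResolutions X.Modules]

instance additive_homF : (homF F).Additive :=
  have : (ChgRings.tensR F).Additive := KFlat.additive_tensorBi_flip F
  (homAdj F).right_adjoint_additive

/-- The zeroth derived functor of `ℋom(F, -)`. -/
def homFZero : (homF F).rightDerived 0 ≅ homF F :=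
  have : (homF F).IsRightAdjoint := (homAdj F).isRightAdjoint
  have : PreservesFiniteLimits (homF F) := inferInstance
  (homF F).rightDerivedZeroIsoSelf

variable {F}

theorem isQuasicoherent_derived_zero (hF : CohB1.IsFP F) (G : X.Modules) [G.IsQuasicoherent] :
    (((homF F).rightDerived 0).obj G).IsQuasicoherent :=
  @QCoh.isQuasicoherent_of_iso _ _ _ ((homFZero F).app G).symm (isQuasicoherent_homF (G := G) hF)

/-- Sections of `R⁰ℋom(F, G)` over an affine open. -/
def ext0Equiv (hF : CohB1.IsFP F) (G : X.Modules) [G.IsQuasicoherent] {U : X.Opens} (hU : IsAffineOpen U) :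
    Γ(((homF F).rightDerived 0).obj G, U) ≃ₗ[Γ(X, U)] Ext (secObj F U) (secObj G U) 0 :=
  secEquiv ((homFZero F).app G) U ≪≫ₗ LinearEquiv.ofBijective (evSec F G U) (evSec_bijective hF hU) ≪≫ₗ
    (ModuleCat.homLinearEquiv (S := Γ(X, U)) (M := secObj F U) (N := secObj G U)).symm ≪≫ₗ
      (Ext.linearEquiv₀ (R := Γ(X, U))).symm

theorem ext0Equiv_apply (hF : CohB1.IsFP F) (G : X.Modules) [G.IsQuasicoherent] {U : X.Opens}
    (hU : IsAffineOpen U) (s : Γ(((homF F).rightDerived 0).obj G, U)) :
    ext0Equiv hF G hU s =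
      Ext.mk₀ (X := secObj F U) (Y := secObj G U)
        (ModuleCat.ofHom (evSec F G U (secLin ((homFZero F).hom.app G) U s))) :=
  rfl

theorem ext0Equiv_natural (hF : CohB1.IsFP F) {G G' : X.Modules} [G.IsQuasicoherent] [G'.IsQuasicoherent]
    (g : G ⟶ G') {U : X.Opens} (hU : IsAffineOpen U) (s : Γ(((homF F).rightDerived 0).obj G, U)) :
    ext0Equiv hF G' hU (secLin (((homF F).rightDerived 0).map g) U s) =
      (ext0Equiv hF G hU s).comp (Ext.mk₀ (ModuleCat.ofHom (secLin g U))) (add_zero 0) := by
  rw [ext0Equiv_apply, ext0Equiv_apply, Ext.mk₀_comp_mk₀]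
  refine congrArg Ext.mk₀ (ModuleCat.hom_ext (LinearMap.ext fun m => ?_))
  have h := LinearMap.congr_fun (congrArg (fun k => secLin k U) ((homFZero F).hom.naturality g)) s
  refine Eq.trans ?_ (evSec_natural F G U g (secLin ((homFZero F).hom.app G) U s) m)
  exact congrArg (fun t => evSec F G' U t m)
    ((secLin_comp_apply _ _ U s).symm.trans (h.trans (secLin_comp_apply _ _ U s)))

/-- `R^i ℋom(F, G)` is quasi-coherent and has sections `Ext^i(F(U), G(U))` over affine opens. -/
theorem extSh_qcoh_aux [IsNoetherian X] (hF : CohB1.IsFP F) : ∀ (i : ℕ) (G : X.Modules), G.IsQuasicoherent →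
    (((homF F).rightDerived i).obj G).IsQuasicoherent ∧
      ∀ U : X.Opens, IsAffineOpen U → Nonempty (Γ(((homF F).rightDerived i).obj G, U) ≃ₗ[Γ(X, U)]
        Ext (secObj F U) (secObj G U) i) := by
  intro i
  induction i with
  | zero => exact fun G hG => ⟨isQuasicoherent_derived_zero hF G, fun U hU => ⟨ext0Equiv hF G hU⟩⟩
  | succ n ih =>
    intro G hG
    obtain ⟨J, φ, hφ, hJ, hJq⟩ := exists_mono_qcoh_injective G
    have : (cokernel φ).IsQuasicoherent := QCoh.isQuasicoherent_cokernel φ
    let S := ShortComplex.mk φ (cokernel.π φ) (cokernel.condition φ)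
    have hS : S.ShortExact := { exact := ShortComplex.exact_cokernel φ }
    have hGq : S.X₁.IsQuasicoherent := hG
    have hJq' : S.X₂.IsQuasicoherent := hJq
    have hQq : S.X₃.IsQuasicoherent := this
    let L := RDerLES.derivedLES (homF F)
    let δ := L.δ S hS n (n + 1) rfl
    have hJ0 : ∀ k, IsZero (((homF F).rightDerived (k + 1)).obj S.X₂) := fun k =>
      have : Injective S.X₂ := hJ
      (homF F).isZero_rightDerived_obj_injective_succ k S.X₂
    have hδ : Epi δ := (L.exact₁ S hS n (n + 1) rfl).epi_f ((hJ0 n).eq_of_tgt _ _)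
    obtain ⟨hq₃, he₃⟩ := ih S.X₃ hQq
    have hinj : ∀ U : X.Opens, IsAffineOpen U → Injective (secCx S U).X₂ := fun U hU =>
      injective_secObj J hJ hU
    have hqs : ∀ (U : X.Opens) (hU : IsAffineOpen U), Function.Surjective
        ((secCx_shortExact hS hU).extClass.postcompOfLinear Γ(X, U) (secObj F U) (rfl : n + 1 = n + 1)) := by
      intro U hU x₁
      have := hinj U hU
      obtain ⟨x₃, hx₃⟩ := Ext.covariant_sequence_exact₁ (secObj F U) (secCx_shortExact hS hU) x₁
        (Ext.eq_zero_of_injective _) (rfl : n + 1 = n + 1)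
      exact ⟨x₃, hx₃⟩
    rcases n with - | n
    · -- degree one: a cokernel
      have : (((homF F).rightDerived 0).obj S.X₂).IsQuasicoherent := isQuasicoherent_derived_zero hF _
      have hE := L.exact₃ S hS 0 1 rfl
      have hq : (((homF F).rightDerived 1).obj G).IsQuasicoherent :=
        @QCoh.isQuasicoherent_of_iso _ _ _
          ((cokernelIsCokernel (((homF F).rightDerived 0).map S.g)).coconePointUniqueUpToIso hE.gIsCokernel)
          (QCoh.isQuasicoherent_cokernel _)
      refine ⟨hq, fun U hU => ?_⟩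
      have : (((homF F).rightDerived 1).obj S.X₁).IsQuasicoherent := hq
      let T := secCx S U
      let q := (secCx_shortExact hS hU).extClass.postcompOfLinear Γ(X, U) (secObj F U) (rfl : 0 + 1 = 0 + 1)
      let d := secLin δ U
      have hd : Function.Surjective d := QCoh.app_surjective_of_epi δ hU
      let e : Γ(((homF F).rightDerived 0).obj S.X₃, U) ≃ₗ[Γ(X, U)] Ext (secObj F U) (secObj S.X₃ U) 0 :=
        ext0Equiv hF S.X₃ hU
      have hker : (LinearMap.ker d).map e.toLinearMap = LinearMap.ker q := by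
        ext y
        simp only [Submodule.mem_map, LinearMap.mem_ker]
        constructor
        · rintro ⟨z, hz, rfl⟩
          obtain ⟨x, rfl⟩ := exists_secLin_eq_of_exact hE hU z hz
          show (ext0Equiv hF S.X₃ hU (secLin (((homF F).rightDerived 0).map S.g) U x)).comp
            (secCx_shortExact hS hU).extClass (rfl : 0 + 1 = 0 + 1) = 0
          rw [ext0Equiv_natural hF S.g hU x]
          exact (Ext.comp_assoc_of_second_deg_zero _ _ _ _).trans
            ((congrArg (Ext.comp _ · _) (secCx_shortExact hS hU).comp_extClass).trans (Ext.comp_zero _ _ _ _ _))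
        · intro hy
          obtain ⟨x₂, rfl⟩ := Ext.covariant_sequence_exact₃ (secObj F U) (secCx_shortExact hS hU) y rfl hy
          obtain ⟨x, rfl⟩ := (ext0Equiv hF S.X₂ hU).surjective x₂
          refine ⟨secLin (((homF F).rightDerived 0).map S.g) U x, ?_, ext0Equiv_natural hF S.g hU x⟩
          exact (secLin_comp_apply _ δ U x).symm.trans
            ((LinearMap.congr_fun (congrArg (fun k => secLin k U) (L.comp_δ S hS 0 1 rfl)) x).trans rfl)
      exact ⟨(LinearMap.quotKerEquivOfSurjective d hd).symm ≪≫ₗ Submodule.Quotient.equiv _ _ e hker ≪≫ₗ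
        LinearMap.quotKerEquivOfSurjective q (hqs U hU)⟩
    · -- higher degrees: a shift
      have hm : Mono δ := (L.exact₃ S hS (n + 1) (n + 1 + 1) rfl).mono_g ((hJ0 n).eq_of_src _ _)
      have : IsIso δ := isIso_of_mono_of_epi δ
      refine ⟨@QCoh.isQuasicoherent_of_iso _ _ _ (asIso δ) hq₃, fun U hU => ?_⟩
      obtain ⟨e⟩ := he₃ U hU
      have hbij : Function.Bijective
          ((secCx_shortExact hS hU).extClass.postcompOfLinear Γ(X, U) (secObj F U)
            (rfl : (n + 1) + 1 = n + 1 + 1)) := by
        refine ⟨(injective_iff_map_eq_zero _).2 fun y hy => ?_, hqs U hU⟩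
        obtain ⟨x₂, rfl⟩ := Ext.covariant_sequence_exact₃ (secObj F U) (secCx_shortExact hS hU) y rfl hy
        have := hinj U hU
        rw [Ext.eq_zero_of_injective x₂, Ext.zero_comp]
      exact ⟨(secEquiv (asIso δ) U).symm ≪≫ₗ e ≪≫ₗ LinearEquiv.ofBijective _ hbij⟩

end Groth.Agent.InjMod
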