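import Groth.Agent.InjMod.Dual
import Groth.Agent.HomShEval.Reflexive

/-!
# The internal Hom and the sheaf of stalkwise maps
-/

set_option autoImplicit false
set_option maxHeartbeats 1600000

universe u

open CategoryTheory CategoryTheory.Limits AlgebraicGeometry Opposite TopologicalSpace MonoidalCategory
open Groth.Agent.PullStalk.Sky Groth.Agent.KFlat.StalkTensor Groth.Agent.KFlat
open scoped TensorProduct

noncomputable section

namespace Groth.Agent.InjMod

variable {X : Scheme.{u}} (F G : X.Modules)

/-- Evaluation, on sections. -/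
def homShEvSec (U : X.Opensᵒᵖ) :
    (tensP (RefHull.homSh F G) F).obj U ⟶ ((ModSite.toPre X.sheaf).obj G).obj U :=
  ModuleCat.ofHom (TensorProduct.lift (LinearMap.mk₂ (X.sheaf.obj.obj U)
    (fun (g : ((ModSite.toPre X.sheaf).obj (RefHull.homSh F G)).obj U)
        (m : ((ModSite.toPre X.sheaf).obj F).obj U) =>
      show ((ModSite.toPre X.sheaf).obj G).obj U from
        HomShEval.QCoh.app F G (show Γ(RefHull.homSh F G, U.unop) from g) le_rfl (show Γ(F, U.unop) from m))
    (fun g g' m => HomShEval.QCoh.ext_germ G _ _ fun y hy => by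
      refine (HomShEval.QCoh.germ_app F G _ le_rfl _ y hy).trans ?_
      refine Eq.trans ?_ (HomShEval.QCoh.germM_add G U.unop y hy _ _).symm
      refine Eq.trans ?_ (congrArg₂ (· + ·) (HomShEval.QCoh.germ_app F G _ le_rfl _ y hy)
        (HomShEval.QCoh.germ_app F G _ le_rfl _ y hy)).symm
      rfl)
    (fun r g m => HomShEval.QCoh.ext_germ G _ _ fun y hy => by
      refine (HomShEval.QCoh.germ_app F G _ le_rfl _ y hy).trans ?_
      refine Eq.trans ?_ (germM_smul G U.unop y hy (show Γ(X, U.unop) from r) _).symm
      refine Eq.trans ?_ (congrArg (X.presheaf.germ U.unop y hy (show Γ(X, U.unop) from r) • ·)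
        (HomShEval.QCoh.germ_app F G _ le_rfl _ y hy)).symm
      rfl)
    (fun g m m' => HomShEval.QCoh.ext_germ G _ _ fun y hy => by
      refine (HomShEval.QCoh.germ_app F G _ le_rfl _ y hy).trans ?_
      refine Eq.trans ?_ (HomShEval.QCoh.germM_add G U.unop y hy _ _).symm
      refine Eq.trans ?_ (congrArg₂ (· + ·) (HomShEval.QCoh.germ_app F G _ le_rfl _ y hy)
        (HomShEval.QCoh.germ_app F G _ le_rfl _ y hy)).symm
      refine (congrArg _ (HomShEval.QCoh.germM_add F U.unop y hy
        (show Γ(F, U.unop) from m) (show Γ(F, U.unop) from m'))).trans (map_add _ _ _))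
    (fun r g m => HomShEval.QCoh.ext_germ G _ _ fun y hy => by
      refine (HomShEval.QCoh.germ_app F G _ le_rfl _ y hy).trans ?_
      refine Eq.trans ?_ (germM_smul G U.unop y hy (show Γ(X, U.unop) from r) _).symm
      refine Eq.trans ?_ (congrArg (X.presheaf.germ U.unop y hy (show Γ(X, U.unop) from r) • ·)
        (HomShEval.QCoh.germ_app F G _ le_rfl _ y hy)).symm
      refine (congrArg _ (germM_smul F U.unop y hy (show Γ(X, U.unop) from r)
        (show Γ(F, U.unop) from m))).trans (map_smul _ _ _))))

/-- Evaluation, as a map of presheaves. -/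
def homShEvPre : tensP (RefHull.homSh F G) F ⟶ (ModSite.toPre X.sheaf).obj G where
  app U := homShEvSec F G U
  naturality {U V} i := by
    refine ModuleCat.hom_ext (LinearMap.ext fun z => ?_)
    induction z using TensorProduct.induction_on with
    | zero => exact (map_zero _).trans (map_zero _).symm
    | tmul g m =>
      refine HomShEval.QCoh.ext_germ G _ _ fun y hy => ?_
      refine (HomShEval.QCoh.germ_app F G _ le_rfl _ y hy).trans ?_
      refine Eq.trans ?_ (G.presheaf.germ_res_apply i.unop y hy _).symm
      refine Eq.trans ?_ (HomShEval.QCoh.germ_app F G _ le_rfl _ y (leOfHom i.unop hy)).symm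
      exact congrArg _ (F.presheaf.germ_res_apply i.unop y hy _)
    | add a b ha hb => exact (map_add _ a b).trans ((congrArg₂ (· + ·) ha hb).trans (map_add _ a b).symm)

/-- Evaluation `homSh F G ⊗ F ⟶ G`. -/
def homShEv : tensM (RefHull.homSh F G) F ⟶ G :=
  ((preAdj X.sheaf).homEquiv (tensP (RefHull.homSh F G) F) G).symm (homShEvPre F G)

theorem germ_homShEv {x : X} (U : X.Opens) (hx : x ∈ U) (g : Γ(RefHull.homSh F G, U)) (m : Γ(F, U)) :
    germM G U x hx ((homShEv F G).app U (tmulSec U g m)) =
      RefHull.evalStalk F G x (germM (RefHull.homSh F G) U x hx g) (germM F U x hx m) := by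
  have h := ((preAdj X.sheaf).homEquiv (tensP (RefHull.homSh F G) F) G).apply_symm_apply (homShEvPre F G)
  rw [Adjunction.homEquiv_unit] at h
  have h1 : (homShEv F G).app U (tmulSec U g m) = HomShEval.QCoh.app F G g le_rfl m :=
    congrArg (fun χ => PresheafOfModules.Hom.app χ (op U)
      ((show ((ModSite.toPre X.sheaf).obj (RefHull.homSh F G)).obj (op U) from g) ⊗ₜ[X.sheaf.obj.obj (op U)]
        (show ((ModSite.toPre X.sheaf).obj F).obj (op U) from m))) h
  rw [h1, HomShEval.QCoh.germ_app]
  exact (congrArg (· (germM F U x hx m)) (RefHull.evalStalk_germ F G x hx g)).symm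

variable [ModSite.HasSheafHom (O := X.sheaf) F]

/-- The comparison `homSh F G ⟶ ℋom(F, G)`. -/
def homShTo : RefHull.homSh F G ⟶ (homF F).obj G := (homAdj F).homEquiv _ _ (homShEv F G)

theorem evStalk_homShTo (x : X) (θ : (RefHull.homSh F G).presheaf.stalk x) :
    evStalk F G x (stL (homShTo F G) x θ) = RefHull.evalStalk F G x θ := by
  refine LinearMap.ext fun t => ?_
  obtain ⟨U, hx, g, m, rfl, rfl⟩ := exists_rep (M := RefHull.homSh F G) (N := F) θ t
  refine (evStalk_transpose (A := RefHull.homSh F G) (homShEv F G) x _ _).trans ?_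
  refine (congrArg (stL (homShEv F G) x) (fromTensor_germ U hx g m)).trans ?_
  exact (stL_germ (homShEv F G) x U hx _).trans (germ_homShEv F G U hx g m)

theorem evStalk_injective_of_isFT (hF : CohB1.IsFT F) (x : X) : Function.Injective (evStalk F G x) := by
  obtain ⟨U, hx, n, s, hs⟩ := HomShEval.exists_span_germ F hF x
  refine evStalk_injective hx s fun y hy t => ?_
  obtain ⟨c, hc⟩ := (Submodule.mem_span_range_iff_exists_fun _).1 ((hs y hy) ▸ Submodule.mem_top (x := t))
  exact ⟨c, (Fintype.linearCombination_apply _ _ _).trans hc⟩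

/-- For a finitely presented `F` the stalk of `ℋom(F, G)` is the Hom of the stalks. -/
theorem evStalk_bijective_of_isFP (hF : CohB1.IsFP F) (x : X) : Function.Bijective (evStalk F G x) := by
  refine ⟨evStalk_injective_of_isFT F G (HomShEval.Reflexive.isFT_of_isFP F hF) x, fun l => ?_⟩
  obtain ⟨θ, rfl⟩ := HomShEval.evalStalk_surjective F G hF x l
  exact ⟨_, evStalk_homShTo F G x θ⟩

/-- For a finitely presented `F`, the two internal Homs agree. -/
theorem isIso_homShTo (hF : CohB1.IsFP F) : IsIso (homShTo F G) := by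
  refine PullTensor.isIso_of_stalk_bijective _ fun x => ?_
  have hb : Function.Bijective (evStalk F G x ∘ stL (homShTo F G) x) := by
    rw [show evStalk F G x ∘ stL (homShTo F G) x = RefHull.evalStalk F G x from
      funext (evStalk_homShTo F G x)]
    exact ⟨HomShEval.evalStalk_injective F G (HomShEval.Reflexive.isFT_of_isFP F hF) x,
      HomShEval.evalStalk_surjective F G hF x⟩
  exact ((evStalk_bijective_of_isFP F G hF x).of_comp_iff' _).1 hb

end Groth.Agent.InjMod
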