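import Groth.Agent.InjMod.HomRestr
import Groth.Agent.ExtSuppLib.Main
import Groth.Agent.ModShf.GrothAb

/-!
# Restriction of (relative) Ext sheaves to opens
-/

set_option autoImplicit false

universe u

open CategoryTheory CategoryTheory.Limits AlgebraicGeometry

noncomputable section

namespace Groth.Agent.InjMod

variable {X : Scheme.{u}}

instance additive_restrictFunctor (U : X.Opens) : (Scheme.Modules.restrictFunctor U.ι).Additive :=
  (Scheme.Modules.restrictAdjunction U.ι).left_adjoint_additive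

theorem hasInjectiveResolutions_modules (X : Scheme.{u}) [h : HasInjectiveResolutions (ModSite.Mod X.sheaf)] :
    HasInjectiveResolutions X.Modules := h

theorem nonempty_extSh_restrict (U : X.Opens) (F G : X.Modules) (i : ℕ)
    [ModSite.HasSheafHom (O := X.sheaf) F] [HasInjectiveResolutions (ModSite.Mod X.sheaf)]
    [ModSite.HasSheafHom (O := (↑U : Scheme.{u}).sheaf) (F.restrict U.ι)]
    [HasInjectiveResolutions (ModSite.Mod (↑U : Scheme.{u}).sheaf)] :
    Nonempty ((Scheme.Modules.restrictFunctor U.ι).obj ((ModSite.extSh (O := X.sheaf) F i).obj G) ≅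
      (ModSite.extSh (O := (↑U : Scheme.{u}).sheaf) (F.restrict U.ι) i).obj (G.restrict U.ι)) := by
  have := hasInjectiveResolutions_modules X
  have := hasInjectiveResolutions_modules (↑U : Scheme.{u})
  let H : X.Modules ⥤ X.Modules := ModSite.sheafHom (O := X.sheaf) F
  let HU : (U : Scheme.{u}).Modules ⥤ (U : Scheme.{u}).Modules :=
    ModSite.sheafHom (O := (↑U : Scheme.{u}).sheaf) (F.restrict U.ι)
  let R := Scheme.Modules.restrictFunctor U.ι
  have : H.Additive := ChgRings.sheafHom_additive' F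
  have : HU.Additive := ChgRings.sheafHom_additive' (P := (U : Scheme.{u})) (F.restrict U.ι)
  have : R.PreservesInjectiveObjects := preservesInjectiveObjects_restrictFunctor U
  exact ⟨((ModShf.rightDerivedCompIso H R i).app G).symm ≪≫
    (ExtSuppLib.rightDerivedMapIso (show H ⋙ R ≅ R ⋙ HU from sheafHomRestrIso U F) i).app G ≪≫
    DerFun.rightDerivedCompIso R HU i G⟩

theorem nonempty_relExtSh_restrict {Y : Scheme.{u}} (f : X ⟶ Y) (W : Y.Opens) (F G : X.Modules) (p : ℕ)
    [ModSite.HasSheafHom (O := X.sheaf) F] [HasInjectiveResolutions (ModSite.Mod X.sheaf)]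
    [(ModSite.sheafHom (O := X.sheaf) F ⋙ Scheme.Modules.pushforward f).Additive]
    [ModSite.HasSheafHom (O := (↑(f ⁻¹ᵁ W) : Scheme.{u}).sheaf) (F.restrict (f ⁻¹ᵁ W).ι)]
    [HasInjectiveResolutions (ModSite.Mod (↑(f ⁻¹ᵁ W) : Scheme.{u}).sheaf)]
    [(ModSite.sheafHom (O := (↑(f ⁻¹ᵁ W) : Scheme.{u}).sheaf) (F.restrict (f ⁻¹ᵁ W).ι) ⋙ Scheme.Modules.pushforward (f ∣_ W)).Additive] :
    Nonempty ((Scheme.Modules.restrictFunctor W.ι).obj (((ModSite.sheafHom (O := X.sheaf) F ⋙ Scheme.Modules.pushforward f).rightDerived p).obj G) ≅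
      ((ModSite.sheafHom (O := (↑(f ⁻¹ᵁ W) : Scheme.{u}).sheaf) (F.restrict (f ⁻¹ᵁ W).ι) ⋙ Scheme.Modules.pushforward (f ∣_ W)).rightDerived p).obj
        (G.restrict (f ⁻¹ᵁ W).ι)) := by
  let V := f ⁻¹ᵁ W
  have := hasInjectiveResolutions_modules X
  have := hasInjectiveResolutions_modules (↑V : Scheme.{u})
  let H : X.Modules ⥤ X.Modules := ModSite.sheafHom (O := X.sheaf) F
  let HV : (V : Scheme.{u}).Modules ⥤ (V : Scheme.{u}).Modules :=
    ModSite.sheafHom (O := (↑V : Scheme.{u}).sheaf) (F.restrict V.ι)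
  let T := H ⋙ Scheme.Modules.pushforward f
  let TV := HV ⋙ Scheme.Modules.pushforward (f ∣_ W)
  let R := Scheme.Modules.restrictFunctor V.ι
  let RW := Scheme.Modules.restrictFunctor W.ι
  have : H.Additive := ChgRings.sheafHom_additive' F
  have : HV.Additive := ChgRings.sheafHom_additive' (P := (V : Scheme.{u})) (F.restrict V.ι)
  have : R.PreservesInjectiveObjects := preservesInjectiveObjects_restrictFunctor V
  let e : T ⋙ RW ≅ R ⋙ TV :=
    Functor.isoWhiskerLeft H (KFlat.PushRestrict.pushRestrictIso f W) ≪≫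
      Functor.isoWhiskerRight (show H ⋙ R ≅ R ⋙ HV from sheafHomRestrIso V F) (Scheme.Modules.pushforward (f ∣_ W))
  exact ⟨((ModShf.rightDerivedCompIso T RW p).app G).symm ≪≫
    (ExtSuppLib.rightDerivedMapIso e p).app G ≪≫ DerFun.rightDerivedCompIso R TV p G⟩

end Groth.Agent.InjMod
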