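import Groth.Agent.InjMod.Scheme
import Groth.Agent.KFlat.Hom
import Groth.Agent.ExtSuppLib.Flasque
import Groth.Prelude.Def_DCoh4

/-!
# The two internal homs of modules on a scheme; sheaf Hom into an injective is flasque
-/

set_option autoImplicit false

universe u

open CategoryTheory CategoryTheory.Limits AlgebraicGeometry

namespace Groth.Agent.InjMod

variable {X : Scheme.{u}}

/-- The two conventions for the internal hom agree. -/
noncomputable def dcohHomIso (M : X.Modules) [DCoh.HasSheafHom M] [ModSite.HasSheafHom (O := X.sheaf) M] :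
    DCoh.sheafHom M ≅ ModSite.sheafHom (O := X.sheaf) M :=
  (DCoh.sheafHomAdj M).rightAdjointUniq
    ((ModSite.sheafHomAdj (O := X.sheaf) M).ofNatIsoLeft ((KFlat.tensorBiFlipIso X.sheaf).app M))

theorem surjective_map_of_iso {F G : X.Modules} (e : F ≅ G) {U V : X.Opens} (hUV : U ≤ V)
    (h : Function.Surjective (F.val.map (homOfLE hUV).op).hom) :
    Function.Surjective (G.val.map (homOfLE hUV).op).hom := by
  intro y
  obtain ⟨x, hx⟩ := h (e.inv.val.app (Opposite.op U) y)
  refine ⟨e.hom.val.app (Opposite.op V) x, ?_⟩
  refine (PresheafOfModules.naturality_apply e.hom.val (homOfLE hUV).op x).symm.trans ?_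
  refine (congrArg (fun t => e.hom.val.app (Opposite.op U) t) hx).trans ?_
  exact congrArg (fun φ : G ⟶ G => φ.val.app (Opposite.op U) y) e.inv_hom_id

/-- The sheaf Hom into an injective module is flasque. -/
theorem surjective_sheafHom_map (F I : X.Modules) [ModSite.HasSheafHom (O := X.sheaf) F] [hI : Injective I]
    {U V : X.Opens} (hUV : U ≤ V) :
    Function.Surjective (((ModSite.sheafHom (O := X.sheaf) F).obj I).val.map (homOfLE hUV).op).hom :=
  ExtSuppLib.surjective_map_of_extP (@ExtSuppLib.extP_sheafHom _ _ _ X.sheaf F I _ hI) (homOfLE hUV)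

end Groth.Agent.InjMod
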