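import Groth.Agent.LocCohZW.FunSeq

/-!
# The long exact sequence of derived functors of a short exact sequence of functors
-/

set_option autoImplicit false

universe v v' u u'

open CategoryTheory CategoryTheory.Limits
open Groth.Agent.LocCohZW

namespace Groth.Agent.InjMod

variable {A : Type u} [Category.{v} A] [Abelian A] [HasInjectiveResolutions A]
  {B : Type u'} [Category.{v'} B] [Abelian B]
  {Φ₁ Φ₂ Φ₃ : A ⥤ B} [Φ₁.Additive] [Φ₂.Additive] [Φ₃.Additive]
  (i : Φ₁ ⟶ Φ₂) (p : Φ₂ ⟶ Φ₃) (w : i ≫ p = 0)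
  (h : ∀ Q : A, Injective Q → (ShortComplex.mk (i.app Q) (p.app Q) (NatTrans.congr_app w Q)).ShortExact)

lemma glue_mid {R₁ R₂ R₃ H₁ H₂ H₃ : B} {f : H₁ ⟶ H₂} {g : H₂ ⟶ H₃} {hfg : f ≫ g = 0}
    (e₁ : R₁ ≅ H₁) (e₂ : R₂ ≅ H₂) (e₃ : R₃ ≅ H₃) (hex : (ShortComplex.mk f g hfg).Exact) :
    ∃ w' : (e₁.hom ≫ f ≫ e₂.inv) ≫ e₂.hom ≫ g ≫ e₃.inv = 0, (ShortComplex.mk _ _ w').Exact :=
  ⟨by simp [reassoc_of% hfg],
    ShortComplex.exact_of_iso (ShortComplex.isoMk e₁.symm e₂.symm e₃.symm (by simp) (by simp)) hex⟩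

include h in
theorem mono_rightDerived_zero_app (X : A) : Mono ((NatTrans.rightDerived i 0).app X) := by
  let I := injectiveResolution X
  have hI := FunSeq.shortExact_cxSeq i p w h I
  rw [InjectiveResolution.rightDerived_app_eq i I 0]
  have : Mono (((NatTrans.mapHomologicalComplex i (ComplexShape.up ℕ)).app I.cocomplex).f 0) :=
    (h (I.cocomplex.X 0) inferInstance).mono_f
  have : Mono (HomologicalComplex.homologyMap
      ((NatTrans.mapHomologicalComplex i (ComplexShape.up ℕ)).app I.cocomplex) 0) :=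
    HomologicalComplex.mono_homologyMap_of_mono_of_not_rel _ _ (by simp)
  exact @mono_comp _ _ _ _ _ _ inferInstance _ (@mono_comp _ _ _ _ _ _ this _ inferInstance)

include h in
theorem exact_middle (n : ℕ) (X : A) :
    ∃ w' : (NatTrans.rightDerived i n).app X ≫ (NatTrans.rightDerived p n).app X = 0,
      (ShortComplex.mk _ _ w').Exact := by
  let I := injectiveResolution X
  have hI := FunSeq.shortExact_cxSeq i p w h I
  simp only [InjectiveResolution.rightDerived_app_eq i I n, InjectiveResolution.rightDerived_app_eq p I n]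
  exact glue_mid (I.isoRightDerivedObj Φ₁ n) (I.isoRightDerivedObj Φ₂ n) (I.isoRightDerivedObj Φ₃ n)
    (hI.homology_exact₂ n)

include h in
theorem exact_after_δ (n : ℕ) (X : A) :
    ∃ w' : (FunSeq.δ i p w h n).app X ≫ (NatTrans.rightDerived i (n + 1)).app X = 0,
      (ShortComplex.mk _ _ w').Exact := by
  let I := injectiveResolution X
  have hI := FunSeq.shortExact_cxSeq i p w h I
  simp only [InjectiveResolution.rightDerived_app_eq i I (n + 1)]
  exact glue_mid (I.isoRightDerivedObj Φ₃ n) (I.isoRightDerivedObj Φ₁ (n + 1)) (I.isoRightDerivedObj Φ₂ (n + 1))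
    (hI.homology_exact₁ n (n + 1) rfl)

end Groth.Agent.InjMod
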