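import Groth.Agent.InjMod.HomExact
import Groth.Agent.InjMod.StalkInj
import Groth.Agent.LFFrame.Basic

/-!
# Stalks of the internal Hom
-/

set_option autoImplicit false
set_option maxHeartbeats 2000000

universe u

open CategoryTheory CategoryTheory.Limits AlgebraicGeometry Opposite TopologicalSpace MonoidalCategory
open Groth.Agent.PullStalk.Sky Groth.Agent.KFlat.StalkTensor
open scoped TensorProduct

noncomputable section

namespace Groth.Agent.InjMod

variable {X : Scheme.{u}}

/-- The map on stalks. -/
def stL {A B : X.Modules} (φ : A ⟶ B) (y : X) :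
    A.presheaf.stalk y →ₗ[X.presheaf.stalk y] B.presheaf.stalk y :=
  ((DerSch.stalkFunctor X y).map φ).hom

theorem stL_germ {A B : X.Modules} (φ : A ⟶ B) (y : X) (U : X.Opens) (hy : y ∈ U) (a : Γ(A, U)) :
    stL φ y (germM A U y hy a) = germM B U y hy (φ.app U a) :=
  DerSch.stalkFunctor_map_germ y φ U hy a

theorem stL_comp {A B C : X.Modules} (φ : A ⟶ B) (ψ : B ⟶ C) (y : X) :
    stL (φ ≫ ψ) y = (stL ψ y).comp (stL φ y) :=
  congrArg ModuleCat.Hom.hom ((DerSch.stalkFunctor X y).map_comp φ ψ)

theorem stL_id (A : X.Modules) (y : X) : stL (𝟙 A) y = LinearMap.id :=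
  congrArg ModuleCat.Hom.hom ((DerSch.stalkFunctor X y).map_id A)

theorem stL_sub {A B : X.Modules} (φ ψ : A ⟶ B) (y : X) : stL (φ - ψ) y = stL φ y - stL ψ y :=
  congrArg ModuleCat.Hom.hom ((DerSch.stalkFunctor X y).map_sub (f := φ) (g := ψ))

theorem stL_sum {A B : X.Modules} {ι : Type} [Fintype ι] (φ : ι → (A ⟶ B)) (y : X) :
    stL (∑ i, φ i) y = ∑ i, stL (φ i) y :=
  (congrArg ModuleCat.Hom.hom ((DerSch.stalkFunctor X y).map_sum φ Finset.univ)).trans
    (ModuleCat.hom_sum _ _)

variable (E : X.Modules) [ModSite.HasSheafHom (O := X.sheaf) E] (N : X.Modules) (x : X)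

/-- The evaluation `ℋom(E, N) ⊗ E ⟶ N`. -/
abbrev homEv : tensM ((homF E).obj N) E ⟶ N :=
  (homAdj E).counit.app N

/-- `genHomEquiv`, with the tensor product written as `tensM`. -/
abbrev genHom (V : X.Opens) : (tensM (genMod V) E ⟶ N) ≃ Γ((homF E).obj N, V) :=
  genHomEquiv E V N

/-- The stalk of the internal Hom maps to the linear maps between the stalks. -/
def evStalk : ((homF E).obj N).presheaf.stalk x →ₗ[X.presheaf.stalk x]
    (E.presheaf.stalk x →ₗ[X.presheaf.stalk x] N.presheaf.stalk x) :=
  TensorProduct.curry ((stL (homEv E N) x).comp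
    (stalkTensorEquiv ((homF E).obj N) E x).symm.toLinearMap)

variable {E N x}

theorem evStalk_germ {W : X.Opens} (hx : x ∈ W) (s : Γ((homF E).obj N, W)) (e : Γ(E, W)) :
    evStalk E N x (germM ((homF E).obj N) W x hx s) (germM E W x hx e) =
      germM N W x hx ((homEv E N).app W (tmulSec W s e)) :=
  (congrArg (stL (homEv E N) x) (fromTensor_germ W hx s e)).trans (stL_germ (homEv E N) x W hx _)

omit [ModSite.HasSheafHom (O := X.sheaf) E] in
theorem stalk_tensR_map {A B : X.Modules} (g : A ⟶ B) (a : A.presheaf.stalk x) (t : E.presheaf.stalk x) :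
    stL (show tensM A E ⟶ tensM B E from ((ModSite.tensorBi X.sheaf).map g).app E) x ((stalkTensorEquiv A E x).symm (a ⊗ₜ t)) =
      (stalkTensorEquiv B E x).symm (stL g x a ⊗ₜ t) := by
  apply (stalkTensorEquiv B E x).injective
  rw [LinearEquiv.apply_symm_apply]
  refine (stalkTensor_natural_left x g E _).trans ?_
  rw [LinearEquiv.apply_symm_apply]
  rfl

/-- The stalk of a section of the internal Hom, through the corresponding map out of a generator. -/
theorem evStalk_genHom {V : X.Opens} (hx : x ∈ V) (φ : tensM (genMod V) E ⟶ N)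
    (t : E.presheaf.stalk x) :
    evStalk E N x (germM _ V x hx (genHom E N V φ)) t =
      stL φ x ((stalkTensorEquiv (genMod V) E x).symm (genGerm hx ⊗ₜ t)) := by
  let g := (homAdj E).homEquiv (genMod V) N φ
  have h1 : (show tensM (genMod V) E ⟶ _ from ((ModSite.tensorBi X.sheaf).map g).app E) ≫ homEv E N = φ :=
    ((homAdj E).homEquiv_counit _ _ g).symm.trans (Equiv.symm_apply_apply _ φ)
  have h2 : stL g x (genGerm hx) = germM _ V x hx (genHom E N V φ) :=
    (stL_germ g x V hx (genSec V)).trans
      (congrArg (germM _ V x hx) (genEquiv_eq V g).symm)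
  rw [← h2]
  refine (congrArg (stL (homEv E N) x) (stalk_tensR_map g _ t).symm).trans ?_
  exact LinearMap.congr_fun ((stL_comp _ _ x).symm.trans (congrArg (stL · x) h1)) _

/-- Sections of the internal Hom are determined by the maps they induce on stalks. -/
theorem homSection_ext {V : X.Opens} {s s' : Γ((homF E).obj N, V)}
    (h : ∀ (y : X) (hy : y ∈ V), evStalk E N y (germM _ V y hy s) = evStalk E N y (germM _ V y hy s')) :
    s = s' := by
  obtain ⟨φ, rfl⟩ := (genHom E N V).surjective s
  obtain ⟨φ', rfl⟩ := (genHom E N V).surjective s'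
  refine congrArg _ (sub_eq_zero.1 (eq_zero_of_stalk _ fun y z => ?_))
  suffices hs : stL φ y = stL φ' y from
    LinearMap.congr_fun ((stL_sub φ φ' y).trans (sub_eq_zero.2 hs)) z
  suffices hs : (stL φ y).comp (stalkTensorEquiv (genMod V) E y).symm.toLinearMap =
      (stL φ' y).comp (stalkTensorEquiv (genMod V) E y).symm.toLinearMap from
    (LinearMap.cancel_right (stalkTensorEquiv (genMod V) E y).symm.surjective).1 hs
  refine TensorProduct.ext' fun a t => ?_
  by_cases hy : y ∈ V
  · obtain ⟨r, rfl⟩ := (smul_genGerm_bijective hy).2 a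
    have := LinearMap.congr_fun (h y hy) t
    rw [evStalk_genHom, evStalk_genHom] at this
    simp only [← TensorProduct.smul_tmul', map_smul, LinearMap.comp_apply, LinearEquiv.coe_coe, this]
  · have := subsingleton_stalk_gen hy
    simp [Subsingleton.elim a 0]

/-- If `E` is generated by finitely many sections near `x`, the stalk map is injective. -/
theorem evStalk_injective {W : X.Opens} (hx : x ∈ W) {n : ℕ} (e : Fin n → Γ(E, W))
    (he : ∀ (y : X) (hy : y ∈ W), Function.Surjective (LFFrame.stalkComb E e y hy)) :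
    Function.Injective (evStalk E N x) := by
  rw [injective_iff_map_eq_zero]
  intro a ha
  obtain ⟨V, hxV, s, rfl⟩ := exists_germM_eq _ x a
  let H := (homF E).obj N
  let W' : X.Opens := V ⊓ W
  have hx' : x ∈ W' := ⟨hxV, hx⟩
  let σ : Fin n → Γ(N, W') := fun i => (homEv E N).app W'
    (tmulSec W' (H.presheaf.map (homOfLE inf_le_left).op s)
      (E.presheaf.map (homOfLE (inf_le_right : W' ≤ W)).op (e i)))
  have hσ : ∀ (y : X) (hy : y ∈ W') (i : Fin n), germM N W' y hy (σ i) =
      evStalk E N y (germM H V y hy.1 s) (germM E W y hy.2 (e i)) := by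
    intro y hy i
    refine (evStalk_germ hy _ _).symm.trans ?_
    rw [show germM H W' y hy (H.presheaf.map (homOfLE (inf_le_left : W' ≤ V)).op s) = germM H V y hy.1 s from
      H.presheaf.germ_res_apply _ y hy s,
      show germM E W' y hy (E.presheaf.map (homOfLE (inf_le_right : W' ≤ W)).op (e i)) = germM E W y hy.2 (e i) from
      E.presheaf.germ_res_apply _ y hy (e i)]
  have hev : ∀ i, ∃ U : X.Opens, x ∈ U ∧ ∃ hU : U ≤ W', N.presheaf.map (homOfLE hU).op (σ i) = 0 := by
    intro i
    have h0 : N.presheaf.germ W' x hx' (σ i) = N.presheaf.germ W' x hx' 0 := by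
      rw [map_zero]
      refine (hσ x hx' i).trans ?_
      rw [ha, LinearMap.zero_apply]
    obtain ⟨U, hU, i₁, i₂, e⟩ := N.presheaf.germ_eq x hx' hx' _ _ h0
    exact ⟨U, hU, i₁.le, e.trans (map_zero _)⟩
  choose U hxU hU hU0 using hev
  let W₀ : X.Opens := ⟨(W' : Set X) ∩ ⋂ i, (U i : Set X),
    W'.2.inter (isOpen_iInter_of_finite fun i => (U i).2)⟩
  have hx₀ : x ∈ W₀ := ⟨hx', Set.mem_iInter.2 hxU⟩
  have hW₀ : W₀ ≤ V := Set.inter_subset_left.trans (inf_le_left : W' ≤ V)
  have h0 : H.presheaf.map (homOfLE hW₀).op s = 0 := by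
    refine homSection_ext fun y hy => ?_
    rw [show germM H W₀ y hy (H.presheaf.map (homOfLE hW₀).op s) = germM H V y (hW₀ hy) s from
      H.presheaf.germ_res_apply _ y hy s, germM_zero, map_zero]
    have hyW' : y ∈ W' := hy.1
    refine LinearMap.ext fun t => ?_
    obtain ⟨c, rfl⟩ := he y hyW'.2 t
    simp only [LFFrame.stalkComb, Fintype.linearCombination_apply, map_sum, map_smul]
    refine Finset.sum_congr rfl fun i _ => congrArg _ ?_
    rw [← hσ y hyW' i]
    have h2 : germM N W' y hyW' (σ i) = 0 := by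
      refine (N.presheaf.germ_res_apply (homOfLE (hU i)) y (Set.mem_iInter.1 hy.2 i) (σ i)).symm.trans ?_
      rw [hU0 i]
      exact map_zero _
    rw [h2]
    rfl
  refine (H.presheaf.germ_res_apply (homOfLE hW₀) x hx₀ s).symm.trans ?_
  rw [h0]
  exact map_zero _

omit [ModSite.HasSheafHom (O := X.sheaf) E] in
theorem tmul_genGerm_injective {V : X.Opens} (hx : x ∈ V) :
    Function.Injective (fun t : E.presheaf.stalk x => genGerm hx ⊗ₜ[X.presheaf.stalk x] t) := by
  let f := (LinearEquiv.ofBijective (LinearMap.toSpanSingleton (X.presheaf.stalk x)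
    ((genMod V).presheaf.stalk x) (genGerm hx)) (smul_genGerm_bijective hx)).symm
  have hf : f (genGerm hx) = 1 := f.symm.injective ((f.symm_apply_apply _).trans (one_smul (X.presheaf.stalk x) (genGerm hx)).symm)
  intro a b hab
  have := congrArg (TensorProduct.lid (X.presheaf.stalk x) _ ∘ LinearMap.rTensor (E.presheaf.stalk x) f.toLinearMap) hab
  simpa [hf] using this

omit [ModSite.HasSheafHom (O := X.sheaf) E] in
/-- With a frame, maps out of `genMod W ⊗ E` can be prescribed on the frame. -/
theorem exists_hom_of_frame {W : X.Opens} {n : ℕ} {e : Fin n → Γ(E, W)} (he : LFFrame.IsFrame E W e)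
    (m : Fin n → Γ(N, W)) :
    ∃ φ : tensM (genMod W) E ⟶ N, ∀ i, φ.app W (tmulSec W (genSec W) (e i)) = m i := by
  have : HasFiniteBiproducts X.Modules := Abelian.hasFiniteBiproducts
  let T := tensM (genMod W) E
  let P : X.Modules := ⨁ fun _ : Fin n => genMod W
  choose g hg using fun i => exists_gen_hom W (M := T) (tmulSec W (genSec W) (e i))
  let ψ : P ⟶ T := biproduct.desc g
  let ι' := fun i => biproduct.ι (fun _ : Fin n => genMod W) i
  let π' := fun i => biproduct.π (fun _ : Fin n => genMod W) i
  have hψ : ∀ y, Function.Bijective (stL ψ y) := by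
    intro y
    have hdec : ∀ z : P.presheaf.stalk y, ∑ i, stL (ι' i) y (stL (π' i) y z) = z := by
      intro z
      have := LinearMap.congr_fun (((stL_sum (fun i => π' i ≫ ι' i) y).symm.trans
        (congrArg (stL · y) (biproduct.total (f := fun _ : Fin n => genMod W)))).trans (stL_id P y)) z
      rw [LinearMap.sum_apply] at this
      refine (Finset.sum_congr rfl fun i _ => ?_).trans this
      rw [stL_comp]
      rfl
    by_cases hy : y ∈ W
    · have hbij := he.stalkComb_bijective y hy
      have hcomb : ∀ c : Fin n → X.presheaf.stalk y, stL ψ y (∑ i, stL (ι' i) y (c i • genGerm hy)) =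
          (stalkTensorEquiv (genMod W) E y).symm (genGerm hy ⊗ₜ LFFrame.stalkComb E e y hy c) := by
        intro c
        simp only [LFFrame.stalkComb, Fintype.linearCombination_apply, map_sum, TensorProduct.tmul_sum,
          TensorProduct.tmul_smul, map_smul]
        refine Finset.sum_congr rfl fun i _ => congrArg _ ?_
        refine (LinearMap.congr_fun ((stL_comp (ι' i) ψ y).symm.trans
          (congrArg (stL · y) (biproduct.ι_desc g i))) (genGerm hy)).trans ?_
        refine (stL_germ (g i) y W hy (genSec W)).trans ?_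
        rw [hg i]
        exact (fromTensor_germ W hy _ _).symm
      have hco : ∀ z : P.presheaf.stalk y, ∃ c : Fin n → X.presheaf.stalk y,
          z = ∑ i, stL (ι' i) y (c i • genGerm hy) := by
        intro z
        choose c hc using fun i => (smul_genGerm_bijective hy).2 (stL (π' i) y z)
        exact ⟨c, (hdec z).symm.trans (Finset.sum_congr rfl fun i _ => congrArg _ (hc i).symm)⟩
      refine ⟨(injective_iff_map_eq_zero _).2 fun z hz => ?_, fun w => ?_⟩
      · obtain ⟨c, rfl⟩ := hco z
        rw [hcomb] at hz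
        have h1 : LFFrame.stalkComb E e y hy c = 0 :=
          tmul_genGerm_injective hy (((LinearEquiv.map_eq_zero_iff _).1 hz).trans (TensorProduct.tmul_zero _ _).symm)
        have h2 : c = 0 := hbij.1 (h1.trans (map_zero _).symm)
        exact Finset.sum_eq_zero fun i _ => by rw [h2, Pi.zero_apply, zero_smul, map_zero]
      · obtain ⟨v, rfl⟩ := (stalkTensorEquiv (genMod W) E y).symm.surjective w
        induction v using TensorProduct.induction_on with
        | zero => exact ⟨0, (map_zero _).trans (map_zero _).symm⟩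
        | add a b ha hb =>
          obtain ⟨za, hza⟩ := ha
          obtain ⟨zb, hzb⟩ := hb
          exact ⟨za + zb, (map_add _ _ _).trans ((congrArg₂ (· + ·) hza hzb).trans (map_add _ _ _).symm)⟩
        | tmul a t =>
          obtain ⟨r, rfl⟩ := (smul_genGerm_bijective hy).2 a
          obtain ⟨c, rfl⟩ := hbij.2 t
          refine ⟨r • ∑ i, stL (ι' i) y (c i • genGerm hy), (map_smul (stL ψ y) r _).trans ?_⟩
          rw [hcomb, ← TensorProduct.smul_tmul', map_smul]
    · have := subsingleton_stalk_gen hy
      refine ⟨fun a b _ => ?_, fun w => ⟨0, ?_⟩⟩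
      · rw [← hdec a, ← hdec b]
        exact Finset.sum_congr rfl fun i _ => congrArg _ (Subsingleton.elim _ _)
      · obtain ⟨v, rfl⟩ := (stalkTensorEquiv (genMod W) E y).symm.surjective w
        have hv : Subsingleton ((genMod W).presheaf.stalk y ⊗[X.presheaf.stalk y] E.presheaf.stalk y) := inferInstance
        exact (map_zero _).trans ((map_zero _).symm.trans (congrArg _ (hv.elim 0 v)))
  have : IsIso ψ := KFlat.PullTensor.isIso_of_stalk_bijective ψ hψ
  choose h hh using fun i => exists_gen_hom W (M := N) (m i)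
  refine ⟨inv ψ ≫ biproduct.desc h, fun i => ?_⟩
  have e1 : g i ≫ inv ψ = biproduct.ι (fun _ : Fin n => genMod W) i := by
    rw [IsIso.comp_inv_eq]
    exact (biproduct.ι_desc g i).symm
  rw [← hg i]
  refine (congrArg (fun f => Scheme.Modules.Hom.app f W (genSec W))
    (?_ : g i ≫ (inv ψ ≫ biproduct.desc h) = h i)).trans (hh i)
  rw [← Category.assoc, e1, biproduct.ι_desc]

/-- With a frame, the stalk map of the internal Hom is surjective. -/
theorem evStalk_surjective {W : X.Opens} (hx : x ∈ W) {n : ℕ} {e : Fin n → Γ(E, W)}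
    (he : LFFrame.IsFrame E W e) : Function.Surjective (evStalk E N x) := by
  intro l
  choose V hxV m hm using fun i => exists_germM_eq N x (l (germM E W x hx (e i)))
  let W₀ : X.Opens := ⟨(W : Set X) ∩ ⋂ i, (V i : Set X), W.2.inter (isOpen_iInter_of_finite fun i => (V i).2)⟩
  have hx₀ : x ∈ W₀ := ⟨hx, Set.mem_iInter.2 hxV⟩
  have hW₀ : W₀ ≤ W := Set.inter_subset_left
  let e₀ : Fin n → Γ(E, W₀) := fun i => E.presheaf.map (homOfLE hW₀).op (e i)
  have he₀ : LFFrame.IsFrame E W₀ e₀ := fun U hU => by
    have : LFFrame.comb E e₀ hU = LFFrame.comb E e (hU.trans hW₀) := by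
      funext a
      exact Finset.sum_congr rfl fun i _ => congrArg _ (LFFrame.res_res E hW₀ hU (e i))
    rw [this]
    exact he U _
  obtain ⟨φ, hφ⟩ := exists_hom_of_frame he₀ fun i => N.presheaf.map
    (homOfLE (Set.inter_subset_right.trans (Set.iInter_subset _ i) : W₀ ≤ V i)).op (m i)
  refine ⟨germM _ W₀ x hx₀ (genHom E N W₀ φ), LinearMap.ext fun t => ?_⟩
  obtain ⟨c, rfl⟩ := (he.stalkComb_bijective x hx).2 t
  simp only [LFFrame.stalkComb, Fintype.linearCombination_apply, map_sum, map_smul]
  refine Finset.sum_congr rfl fun i _ => congrArg _ ?_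
  rw [evStalk_genHom, ← hm i, show germM E W x hx (e i) = germM E W₀ x hx₀ (e₀ i) from
    (E.presheaf.germ_res_apply (homOfLE hW₀) x hx₀ (e i)).symm]
  refine (congrArg (stL φ x) (fromTensor_germ W₀ hx₀ _ _)).trans ?_
  refine (stL_germ φ x W₀ hx₀ _).trans ?_
  rw [hφ i]
  exact N.presheaf.germ_res_apply _ x hx₀ (m i)

/-- For finite locally free `E` the stalk of `ℋom(E, N)` is the Hom of the stalks. -/
theorem evStalk_bijective (hE : FlatMod.IsFinLocFree E) (N : X.Modules) (x : X) :
    Function.Bijective (evStalk E N x) := by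
  obtain ⟨W, n, e, hx, he⟩ := LFFrame.exists_isFrame_of_isFinLocFree hE x
  exact ⟨evStalk_injective hx e fun y hy => (he.stalkComb_bijective y hy).2, evStalk_surjective hx he⟩

/-- The stalk map is natural in the second variable. -/
theorem evStalk_natural {N' : X.Modules} (g : N ⟶ N') (s : ((homF E).obj N).presheaf.stalk x) :
    evStalk E N' x (stL ((homF E).map g) x s) = (stL g x).comp (evStalk E N x s) := by
  refine LinearMap.ext fun t => ?_
  have h := (homAdj E).counit.naturality g
  refine (congrArg (stL (homEv E N') x) (stalk_tensR_map _ s t).symm).trans ?_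
  exact LinearMap.congr_fun (((stL_comp _ _ x).symm.trans (congrArg (stL · x) h)).trans (stL_comp _ _ x))
    ((stalkTensorEquiv ((homF E).obj N) E x).symm (s ⊗ₜ t))

end Groth.Agent.InjMod
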