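import Groth.Agent.InjMod.ExtSections
import Groth.Agent.InjMod.StalkExt
import Groth.Agent.QCoh.FiniteType

/-!
# Ext sheaves of associated sheaves on a spectrum
-/

set_option autoImplicit false
set_option maxHeartbeats 1600000

universe u

open CategoryTheory CategoryTheory.Limits AlgebraicGeometry Opposite TopologicalSpace Abelian

noncomputable section

namespace Groth.Agent.InjMod

variable {R : CommRingCat.{u}}

/-- Isomorphic modules have isomorphic Ext modules. -/
theorem nonempty_extCongr {S : Type u} [CommRing S] {A A' B B' : ModuleCat.{u} S} (a : A ≅ A') (b : B ≅ B') (i : ℕ) :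
    Nonempty (Ext A B i ≃ₗ[S] Ext A' B' i) := by
  refine ⟨LinearEquiv.ofLinear
    ((Ext.mk₀ b.hom).postcompOfLinear S A' (add_zero i) ∘ₗ (Ext.mk₀ a.inv).precompOfLinear S B (zero_add i))
    ((Ext.mk₀ b.inv).postcompOfLinear S A (add_zero i) ∘ₗ (Ext.mk₀ a.hom).precompOfLinear S B' (zero_add i))
    (LinearMap.ext fun x => ?_) (LinearMap.ext fun x => ?_)⟩
  · show ((Ext.mk₀ a.inv).comp (((Ext.mk₀ a.hom).comp x (zero_add i)).comp (Ext.mk₀ b.inv) (add_zero i))
      (zero_add i)).comp (Ext.mk₀ b.hom) (add_zero i) = x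
    simp
  · show ((Ext.mk₀ a.hom).comp (((Ext.mk₀ a.inv).comp x (zero_add i)).comp (Ext.mk₀ b.hom) (add_zero i))
      (zero_add i)).comp (Ext.mk₀ b.inv) (add_zero i) = x
    simp

/-- `Γ(N, ⊤)` over `R` is the global sections module of `N`. -/
def topEquiv (N : (Spec R).Modules) :
    (ModuleCat.restrictScalars (Scheme.ΓSpecIso R).symm.commRingCatIsoToRingEquiv.toRingHom).obj
      (secObj N ⊤) ≃ₗ[R] moduleSpecΓFunctor.obj N where
  toFun x := x
  invFun x := x
  map_add' _ _ := rfl
  map_smul' r x := by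
    show (Scheme.ΓSpecIso R).inv r • (show Γ(N, ⊤) from x) =
      ((Spec R).presheaf.map (𝟙 (op ⊤))) ((Scheme.ΓSpecIso R).inv r) • (show Γ(N, ⊤) from x)
    exact congrArg (· • (show Γ(N, ⊤) from x))
      (ConcreteCategory.congr_hom ((Spec R).presheaf.map_id (op ⊤)) ((Scheme.ΓSpecIso R).inv r)).symm
  left_inv _ := rfl
  right_inv _ := rfl

theorem isCoh_tilde_of_finite (M : ModuleCat.{u} R) [Module.Finite R M] :
    Coh.IsCoh (tilde M : (Spec R).Modules) := by
  let T : (Spec R).Modules := tilde M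
  have hq : T.IsQuasicoherent := inferInstanceAs (tilde M).IsQuasicoherent
  refine ⟨hq, QCoh.isFiniteType_of_forall_exists T fun x => ⟨⊤, isAffineOpen_top _, trivial, ?_⟩⟩
  let e : M ≃ₗ[R] (ModuleCat.restrictScalars (Scheme.ΓSpecIso R).symm.commRingCatIsoToRingEquiv.toRingHom).obj
      (secObj T ⊤) := (tilde.isoTop M).toLinearEquiv ≪≫ₗ (topEquiv T).symm
  have h : Module.Finite R ((ModuleCat.restrictScalars
      (Scheme.ΓSpecIso R).symm.commRingCatIsoToRingEquiv.toRingHom).obj (secObj T ⊤)) := Module.Finite.equiv e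
  refine ⟨?_⟩
  obtain ⟨s, hs⟩ := h.fg_top
  refine ⟨s, eq_top_iff.2 ?_⟩
  intro x hxt
  clear hxt
  have hx : x ∈ Submodule.span R (s : Set ((ModuleCat.restrictScalars
      (Scheme.ΓSpecIso R).symm.commRingCatIsoToRingEquiv.toRingHom).obj (secObj T ⊤))) := hs ▸ trivial
  induction hx using Submodule.span_induction with
  | mem y hy => exact Submodule.subset_span hy
  | zero => exact zero_mem _
  | add y z _ _ h₁ h₂ => exact add_mem h₁ h₂
  | smul a y _ h₁ => exact Submodule.smul_mem _ ((Scheme.ΓSpecIso R).inv a) h₁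

/-- The Ext sheaf of associated sheaves is associated to the Ext module. -/
theorem nonempty_extSh_tilde_iso [IsNoetherianRing R] (M N : ModuleCat.{u} R)
    [ModSite.HasSheafHom (O := (Spec R).sheaf) (tilde M)] [HasInjectiveResolutions (Spec R).Modules]
    (hM : CohB1.IsFP (tilde M : (Spec R).Modules)) (i : ℕ) :
    Nonempty (((homF (tilde M : (Spec R).Modules)).rightDerived i).obj (tilde N) ≅
      tilde (ModuleCat.of R (Ext M N i))) := by
  let F : (Spec R).Modules := tilde M
  let G : (Spec R).Modules := tilde N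
  have hGq : G.IsQuasicoherent := inferInstanceAs (tilde N).IsQuasicoherent
  obtain ⟨hq, he⟩ := extSh_qcoh_aux hM i G hGq
  obtain ⟨e₁⟩ := he ⊤ (isAffineOpen_top _)
  let E := ((homF F).rightDerived i).obj G
  have : E.IsQuasicoherent := hq
  have : IsIso E.fromTildeΓ := Scheme.Modules.isIso_fromTildeΓ_of_isQuasicoherent E
  let φ := (Scheme.ΓSpecIso R).symm.commRingCatIsoToRingEquiv
  obtain ⟨e₂⟩ := nonempty_ext_restrictScalars φ (secObj F ⊤) (secObj G ⊤) i
  obtain ⟨e₃⟩ := nonempty_extCongr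
    ((topEquiv F).toModuleIso ≪≫ (tilde.isoTop M).symm)
    ((topEquiv G).toModuleIso ≪≫ (tilde.isoTop N).symm) i
  let e : moduleSpecΓFunctor.obj E ≅ ModuleCat.of R (Ext M N i) :=
    (topEquiv E).symm.toModuleIso ≪≫
      (ModuleCat.restrictScalars φ.toRingHom).mapIso e₁.toModuleIso ≪≫ (e₂ ≪≫ₗ e₃).toModuleIso
  exact ⟨(asIso E.fromTildeΓ).symm ≪≫ (tilde.functor R).mapIso e⟩

end Groth.Agent.InjMod
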