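import Groth.Agent.InjMod.HomShBridge

/-!
# Sections of the internal Hom over an affine open
-/

set_option autoImplicit false
set_option maxHeartbeats 1600000

universe u

open CategoryTheory CategoryTheory.Limits AlgebraicGeometry Opposite TopologicalSpace
open Groth.Agent.PullStalk.Sky Groth.Agent.KFlat.StalkTensor Groth.Agent.KFlat

noncomputable section

namespace Groth.Agent.InjMod

variable {X : Scheme.{u}} (F : X.Modules) [ModSite.HasSheafHom (O := X.sheaf) F] (G : X.Modules) (U : X.Opens)

/-- Evaluation of a section of `ℋom(F, G)` on sections. -/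
def evSec : Γ((homF F).obj G, U) →ₗ[Γ(X, U)] (Γ(F, U) →ₗ[Γ(X, U)] Γ(G, U)) :=
  LinearMap.mk₂ Γ(X, U) (fun s m => (homEv F G).app U (tmulSec U s m))
    (fun s s' m => by rw [tmulSec_add_left]; exact map_add ((homEv F G).app U).hom _ _)
    (fun r s m => by
      rw [tmulSec_smul_left]
      exact Scheme.Modules.Hom.app_smul (homEv F G) r _)
    (fun s m m' => by rw [tmulSec_add_right]; exact map_add ((homEv F G).app U).hom _ _)
    (fun r s m => by
      rw [tmulSec_smul_right]
      exact Scheme.Modules.Hom.app_smul (homEv F G) r _)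

theorem germ_evSec (y : X) (hy : y ∈ U) (s : Γ((homF F).obj G, U)) (m : Γ(F, U)) :
    germM G U y hy (evSec F G U s m) =
      evStalk F G y (germM _ U y hy s) (germM F U y hy m) :=
  (evStalk_germ hy s m).symm

theorem evSec_natural {G' : X.Modules} (g : G ⟶ G') (s : Γ((homF F).obj G, U)) (m : Γ(F, U)) :
    evSec F G' U (((homF F).map g).app U s) m = g.app U (evSec F G U s m) := by
  refine HomShEval.QCoh.ext_germ G' _ _ fun y hy => ?_
  rw [germ_evSec]
  refine Eq.trans ?_ (stL_germ g y U hy (evSec F G U s m))
  rw [germ_evSec, ← stL_germ]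
  exact LinearMap.congr_fun (evStalk_natural g _) _

variable {F G U}

/-- Over an affine open, sections of `ℋom(F, G)` are the linear maps of sections. -/
theorem evSec_bijective (hF : CohB1.IsFP F) [G.IsQuasicoherent] (hU : IsAffineOpen U) :
    Function.Bijective (evSec F G U) := by
  have : SheafOfModules.IsFinitePresentation.{u} F := hF
  have hqc : F.IsQuasicoherent := by
    obtain ⟨σ, hσ⟩ := SheafOfModules.IsFinitePresentation.exists_quasicoherentData.{u} F
    exact σ.isQuasicoherent
  refine ⟨fun s s' h => homSection_ext fun y hy => ?_, fun f => ?_⟩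
  · refine LinearMap.ext_on (HomShEval.QCoh.span_germ F hU (s := fun m : Γ(F, U) => m)
      (by rw [Set.range_id', Submodule.span_univ]) hy) ?_
    rintro _ ⟨m, rfl⟩
    exact (germ_evSec F G U y hy s m).symm.trans
      ((congrArg (germM G U y hy) (LinearMap.congr_fun h m)).trans (germ_evSec F G U y hy s' m))
  · obtain ⟨g, hg⟩ := HomShEval.QCoh.exists_ofLinear F G hU f
    refine ⟨(homShTo F G).app U g, LinearMap.ext fun m => HomShEval.QCoh.ext_germ G _ _ fun y hy => ?_⟩
    rw [germ_evSec, ← stL_germ, evStalk_homShTo]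
    exact (congrArg (· (germM F U y hy m)) (RefHull.evalStalk_germ F G y hy g)).trans (hg y hy m)

/-- `ℋom(F, G)` is quasi-coherent for `F` finitely presented and `G` quasi-coherent. -/
theorem isQuasicoherent_homF (hF : CohB1.IsFP F) [G.IsQuasicoherent] :
    ((homF F).obj G).IsQuasicoherent := by
  have h₁ := HomShEval.QCoh.isQuasicoherent_homSh F G hF
  have h₂ := isIso_homShTo F G hF
  exact @QCoh.isQuasicoherent_of_iso _ _ _ (@asIso _ _ _ _ (homShTo F G) h₂) h₁

end Groth.Agent.InjMod
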