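import Groth.Agent.InjMod.HomComp
import Groth.Agent.ExtSuppLib.Restrict
import Groth.Agent.SiteCoh.ExtDerived

/-!
# `Ext` through an adjunction with exact right adjoint preserving injectives
-/

set_option autoImplicit false

universe w w' u

open CategoryTheory CategoryTheory.Limits AlgebraicGeometry Opposite

noncomputable section

namespace Groth.Agent.InjMod

variable {X : Scheme.{u}}

/-- `Ext^i(L A, N) = Ext^i(A, R N)`. -/
theorem nonempty_ext_adj {L R : X.Modules ⥤ X.Modules} (adj : L ⊣ R) [L.Additive] [R.Additive]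
    [PreservesFiniteColimits R] [R.PreservesInjectiveObjects] [HasExt.{w} X.Modules]
    (A N : X.Modules) (i : ℕ) :
    Nonempty (Abelian.Ext.{w} (L.obj A) N i ≃+ Abelian.Ext.{w} A (R.obj N) i) := by
  have : HasExt.{u} X.Modules := inferInstanceAs (HasExt.{u} (ModSite.Mod X.sheaf))
  have : HasInjectiveResolutions X.Modules :=
    inferInstanceAs (HasInjectiveResolutions (ModSite.Mod X.sheaf))
  have : PreservesFiniteLimits R :=
    have : R.IsRightAdjoint := adj.isRightAdjoint
    inferInstance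
  let e : R ⋙ preadditiveCoyoneda.obj (op A) ≅ preadditiveCoyoneda.obj (op (L.obj A)) :=
    NatIso.ofComponents (fun G => ((adj.homAddEquiv A G).symm).toAddCommGrpIso)
      (fun {G G'} g => by
        ext φ
        exact adj.homEquiv_naturality_right_symm φ g)
  obtain ⟨e₁⟩ := SiteCoh.ExtDerived.nonempty_rightDerived_iso (L.obj A) N i
  obtain ⟨e₂⟩ := SiteCoh.ExtDerived.nonempty_rightDerived_iso A (R.obj N) i
  let e₀ := (e₁.symm ≪≫ (ExtSuppLib.rightDerivedMapIso e i).symm.app N ≪≫
    DerFun.rightDerivedCompIso R (preadditiveCoyoneda.obj (op A)) i N ≪≫ e₂)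
  exact ⟨(ExtSuppLib.chgUnivAddEquiv.{w, u} _ _ _).trans
    (e₀.addCommGroupIsoToAddEquiv.trans (ExtSuppLib.chgUnivAddEquiv.{u, w} _ _ _))⟩

/-- `Ext^i(F ⊗ E, G) = Ext^i(F, G ⊗ E^∨)`. -/
theorem nonempty_ext_tensor {E : X.Modules} [ModSite.HasSheafHom (O := X.sheaf) E]
    (hE : FlatMod.IsFinLocFree E) [HasExt.{u} X.Modules] (F G : X.Modules) (i : ℕ) :
    Nonempty (Abelian.Ext (KFlat.StalkTensor.tensM F E) G i ≃+
      Abelian.Ext F (KFlat.StalkTensor.tensM G (dualMod E)) i) := by
  have hf := hasFrames_of_isFinLocFree hE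
  obtain ⟨ha, hl, hr⟩ := preservesFiniteColimits_homF (E := E) hf
  have : (ChgRings.tensR E).Additive := KFlat.additive_tensorBi_flip E
  have : (homF E).PreservesInjectiveObjects := ⟨fun {Q} _ => injective_homF hf Q⟩
  obtain ⟨e⟩ := nonempty_ext_adj (homAdj E) F G i
  exact ⟨e.trans ((Abelian.extFunctorObj F i).mapIso ((dualIso hf).app G).symm).addCommGroupIsoToAddEquiv⟩

end Groth.Agent.InjMod
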