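import Groth.Agent.InjMod.Dual
import Groth.Agent.ModShf.Flasque
import Groth.Agent.DerFun.Basic
import Groth.Agent.ExtSuppLib.Compare

/-!
# Ext sheaves of tensor products with finite locally free modules
-/

set_option autoImplicit false
set_option maxHeartbeats 1600000

universe u

open CategoryTheory CategoryTheory.Limits AlgebraicGeometry Opposite TopologicalSpace
open Groth.Agent.KFlat.StalkTensor

noncomputable section

namespace Groth.Agent.InjMod

variable {X : Scheme.{u}}

/-- Naturality of `homF` in isomorphisms of the argument. -/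
def homIsoOfIso {M M' : X.Modules} [ModSite.HasSheafHom (O := X.sheaf) M]
    [ModSite.HasSheafHom (O := X.sheaf) M'] (e : M ≅ M') : homF M ≅ homF M' :=
  conjugateIsoEquiv (homAdj M) (homAdj M') ((ModSite.tensorBi X.sheaf).flip.mapIso e.symm)

/-- `ℋom(F ⊗ E, -) ≅ ℋom(F, ℋom(E, -))`. -/
def homCompIso (F E : X.Modules) [ModSite.HasSheafHom (O := X.sheaf) E]
    [ModSite.HasSheafHom (O := X.sheaf) F] [ModSite.HasSheafHom (O := X.sheaf) (tensM F E)] :
    homF (tensM F E) ≅ homF E ⋙ homF F :=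
  conjugateIsoEquiv (homAdj (tensM F E)) ((homAdj F).comp (homAdj E)) (ChgRings.tensRComp E F)

/-- `ℋom(F ⊗ E, -) ≅ ℋom(E, ℋom(F, -))`. -/
def homCompIso' (F E : X.Modules) [ModSite.HasSheafHom (O := X.sheaf) E]
    [ModSite.HasSheafHom (O := X.sheaf) F] [ModSite.HasSheafHom (O := X.sheaf) (tensM F E)] :
    homF (tensM F E) ≅ homF F ⋙ homF E :=
  have : ModSite.HasSheafHom (O := X.sheaf) (tensM E F) := KFlat.hasSheafHom X.sheaf _
  homIsoOfIso (ChgRings.commIso F E) ≪≫ homCompIso E F

/-- `ℋom(F, -)` commutes with `ℋom(E, -)`. -/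
def homSwapIso (F E : X.Modules) [ModSite.HasSheafHom (O := X.sheaf) E]
    [ModSite.HasSheafHom (O := X.sheaf) F] : homF E ⋙ homF F ≅ homF F ⋙ homF E :=
  have : ModSite.HasSheafHom (O := X.sheaf) (tensM F E) := KFlat.hasSheafHom X.sheaf _
  (homCompIso F E).symm ≪≫ homCompIso' F E

/-- `ℰxt(F, G) ⊗ E^∨` computes the Ext sheaves of a module with `ℋom(M, -) ≅ ℋom(E, ℋom(F, -))`. -/
theorem nonempty_extSh_iso_tensor_dual {F E M : X.Modules} [ModSite.HasSheafHom (O := X.sheaf) E]
    [ModSite.HasSheafHom (O := X.sheaf) F] [ModSite.HasSheafHom (O := X.sheaf) M]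
    [HasInjectiveResolutions (ModSite.Mod X.sheaf)] (hE : FlatMod.IsFinLocFree E)
    (e : homF M ≅ homF F ⋙ homF E) (G : X.Modules) (q : ℕ) :
    Nonempty ((ModSite.extSh (O := X.sheaf) M q).obj G ≅
      tensM ((ModSite.extSh (O := X.sheaf) F q).obj G) (dualMod E)) := by
  have hf := hasFrames_of_isFinLocFree hE
  obtain ⟨ha, hl, hr⟩ := preservesFiniteColimits_homF (E := E) hf
  have : ∀ A : X.Modules, (ChgRings.tensR A).Additive := fun A => KFlat.additive_tensorBi_flip A
  have hF : (homF F).Additive := (homAdj F).right_adjoint_additive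
  have hM : (homF M).Additive := (homAdj M).right_adjoint_additive
  exact ⟨(ExtSuppLib.rightDerivedMapIso e q).app G ≪≫
    (ModShf.rightDerivedCompIso (homF F) (homF E) q).app G ≪≫ ((dualIso hf).app _).symm⟩

end Groth.Agent.InjMod
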