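import Groth.Agent.InjMod.ExtGlobal
import Groth.Agent.AmpCrit.SerreVan
import Groth.Agent.ProjMorph.Ample
import Groth.Agent.ProjForm.Unit
import Groth.Agent.S10943

/-!
# Ext groups into large twists are global sections of Ext sheaves
-/

set_option autoImplicit false
set_option maxHeartbeats 1600000

universe u

open CategoryTheory CategoryTheory.Limits AlgebraicGeometry

noncomputable section

namespace Groth.Agent.InjMod

theorem exists_ext_twist_bound (A : Type u) [CommRing A] [IsNoetherianRing A] (n : ℕ) {X : Scheme.{u}}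
    [IsNoetherian X] [X.Over (Spec (CommRingCat.of A))] (ι : X ⟶ CohB1.ProjSpace n A) [IsClosedImmersion ι]
    (p : X ⟶ Spec (CommRingCat.of A)) [IsProper p]
    [HasExt.{u} X.Modules] (F G : X.Modules) (hF : Coh.IsCoh F) (hG : Coh.IsCoh G)
    [ModSite.HasSheafHom (O := X.sheaf) F] [HasInjectiveResolutions X.Modules] (i : ℕ) :
    ∃ d₀ : ℕ, ∀ d : ℕ, d₀ ≤ d →
      Nonempty (Abelian.Ext F (CohB1.tensorMod G ((Scheme.Modules.pullback ι).obj (Twist.twistProjSpace n A (d : ℤ)))) i ≃ₗ[A]
        Coh.HH X (((homF F).rightDerived i).obj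
          (CohB1.tensorMod G ((Scheme.Modules.pullback ι).obj (Twist.twistProjSpace n A (d : ℤ))))) 0) := by
  have hfin : IsFinite ι := inferInstance
  have haff : IsAffineHom ι := hfin.toIsAffineHom
  have hamp : CohB1.IsAmple ((Scheme.Modules.pullback ι).obj (Twist.twistProjSpace n A 1)) :=
    Groth.Agent.ProjMorph.isAmple_pullback_twist_of_isAffineHom ι haff
  have : HasInjectiveResolutions (ModSite.Mod X.sheaf) := ‹HasInjectiveResolutions X.Modules›
  choose n₀ hn₀ using fun b : Fin (i + 1) =>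
    AmpCrit.SerreVan.serre_vanishing p hamp _ (S10943.result X F G hF hG b)
  obtain ⟨N, hN⟩ := Finite.exists_le n₀
  refine ⟨N, fun d hd => nonempty_ext_linearEquiv_HH_extSh A F _ i fun a b hab => ?_⟩
  have hP := hasFrames_of_isFinLocFree (Groth.Agent.ProjForm.isFinLocFree_of_isInvertible
    (PicCl.isInvertible_pullback ι (ProjTwist.isInvertible_twistProjSpace n A (d : ℤ))))
  obtain ⟨e⟩ := nonempty_extSh_tensor F hP G b
  obtain ⟨e'⟩ := AmpCrit.SerreVan.nonempty_pullback_twist ι d
  exact @AmpCrit.subsingleton_HH_of_iso _ _ _ (ProjTwist.tensCongr (Iso.refl _) e'.symm ≪≫ e.symm) (a + 1)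
    (hn₀ ⟨b, by omega⟩ d ((hN _).trans hd) (a + 1) a.succ_pos)

end Groth.Agent.InjMod
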