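import Groth.Agent.InjMod.Decomp
import Groth.Agent.InjMod.Scheme
import Groth.Prelude.Def_DCoh2

/-!
# `Γ_Z` of an injective module on a locally noetherian scheme is injective
-/

set_option autoImplicit false

universe u

open CategoryTheory CategoryTheory.Limits AlgebraicGeometry Opposite TopologicalSpace
open Groth.Agent.PullStalk.Sky Groth.Agent.KFlat.StalkTensor

namespace Groth.Agent.InjMod

variable {U X : Scheme.{u}} (j : U ⟶ X) [IsOpenImmersion j]

local notation "R" => Scheme.Modules.restrictFunctor j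
local notation "adj" => Scheme.Modules.restrictAdjunction j

instance additive_restrictFunctor' : (Scheme.Modules.restrictFunctor j).Additive :=
  (Scheme.Modules.restrictAdjunction j).left_adjoint_additive

theorem comp_unit_eq_zero_iff {M N : X.Modules} (f : M ⟶ N) :
    f ≫ (adj).unit.app N = 0 ↔ (R).map f = 0 := by
  have : (Scheme.Modules.pushforward j).Additive := (adj).right_adjoint_additive
  constructor
  · intro h
    apply ((adj).homEquiv _ _).injective
    rw [Adjunction.homEquiv_unit, Adjunction.homEquiv_unit, Functor.map_zero, comp_zero]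
    exact ((adj).unit.naturality f).symm.trans h
  · intro h
    refine ((adj).unit.naturality f).trans ?_
    change _ ≫ (Scheme.Modules.pushforward j).map ((R).map f) = 0
    rw [h, Functor.map_zero, comp_zero]

theorem restrict_map_eq_zero_iff {M N : X.Modules} (f : M ⟶ N) :
    (R).map f = 0 ↔ ∀ V : X.Opens, V ≤ j.opensRange → ∀ m, f.app V m = 0 := by
  constructor
  · intro h V hV m
    obtain ⟨W, rfl⟩ : ∃ W, j ''ᵁ W = V :=
      ⟨j ⁻¹ᵁ V, by rw [Scheme.Hom.image_preimage_eq_opensRange_inf, inf_eq_right.2 hV]⟩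
    exact congrArg (fun φ : (R).obj M ⟶ (R).obj N => φ.app W m) h
  · intro h
    refine Scheme.Modules.hom_ext _ _ fun W => ?_
    ext m
    exact h _ (j.image_le_opensRange W) m

/-- An indecomposable injective is either supported outside `U` or has no sections supported there. -/
theorem restrict_dichotomy (K : X.Modules) [Injective K]
    (hind : ∀ A B : X.Modules, Nonempty (K ≅ A ⊞ B) → IsZero A ∨ IsZero B) :
    (R).map (𝟙 K) = 0 ∨ ∀ (T : X.Modules) (t : T ⟶ K), (R).map t = 0 → t = 0 := by
  refine or_iff_not_imp_left.2 fun hne T t ht => ?_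
  rw [restrict_map_eq_zero_iff] at hne
  push Not at hne
  obtain ⟨V, hV, m, hm⟩ := hne
  obtain ⟨g, hg⟩ := exists_gen_hom V (M := K) m
  by_contra ht0
  have hB : ¬ IsZero (Abelian.image g) := by
    intro hz
    have hg0 : g = 0 := by rw [← Abelian.image.fac g, hz.eq_of_src (Abelian.image.ι g) 0, comp_zero]
    rw [hg0] at hg
    exact hm hg.symm
  have hA : ¬ IsZero (Abelian.image t) := by
    intro hz
    exact ht0 (by rw [← Abelian.image.fac t, hz.eq_of_src (Abelian.image.ι t) 0, comp_zero])
  have hi : (R).map (Abelian.image.ι t) = 0 := by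
    have : (R).IsLeftAdjoint := (adj).isLeftAdjoint
    rw [← cancel_epi ((R).map (Abelian.factorThruImage t)), ← Functor.map_comp, Abelian.image.fac,
      ht, comp_zero]
  rw [restrict_map_eq_zero_iff] at hi
  refine GabLocLib.uniform.{u} hind (Abelian.image.ι t) (Abelian.image.ι g) hA hB ?_
  rw [IsZero.iff_id_eq_zero]
  refine (cancel_mono (pullback.fst (Abelian.image.ι t) (Abelian.image.ι g) ≫ Abelian.image.ι t)).1 ?_
  rw [Category.id_comp, zero_comp]
  refine eq_zero_of_stalk _ fun y u => ?_
  let F := DerSch.stalkFunctor X y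
  by_cases hy : y ∈ V
  · obtain ⟨W, hyW, s, rfl⟩ :=
      exists_germM_eq (pullback (Abelian.image.ι t) (Abelian.image.ι g)) y u
    let P : X.Modules := pullback (Abelian.image.ι t) (Abelian.image.ι g)
    have hy2 : y ∈ W ⊓ V := ⟨hyW, hy⟩
    have hs : germM P W y hyW s =
        germM P (W ⊓ V) y hy2 (P.presheaf.map (homOfLE (inf_le_left : W ⊓ V ≤ W)).op s) :=
      (P.presheaf.germ_res_apply _ y hy2 s).symm
    rw [hs]
    refine (DerSch.stalkFunctor_map_germ y _ (W ⊓ V) hy2 _).trans ?_
    refine (congrArg (K.presheaf.germ (W ⊓ V) y hy2)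
      (hi (W ⊓ V) (inf_le_right.trans hV) _)).trans ?_
    exact map_zero _
  · have : Subsingleton ((genMod V).presheaf.stalk y) := subsingleton_stalk_gen hy
    have hsurj : Function.Surjective (F.map (Abelian.factorThruImage g)).hom :=
      (ModuleCat.epi_iff_surjective _).1 inferInstance
    obtain ⟨v, hv⟩ := hsurj ((F.map (pullback.snd (Abelian.image.ι t) (Abelian.image.ι g))).hom u)
    rw [show v = 0 from Subsingleton.elim (α := (genMod V).presheaf.stalk y) _ _, map_zero] at hv
    rw [pullback.condition, F.map_comp, ModuleCat.hom_comp, LinearMap.comp_apply, ← hv, map_zero]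

/-- A coproduct maps monomorphically to the product. -/
theorem mono_sigma_to_pi {ι : Type u} [DecidableEq ι] (J : ι → X.Modules) :
    Mono (Sigma.desc fun i => Pi.lift fun k =>
      if h : i = k then eqToHom (congrArg J h) else (0 : J i ⟶ J k)) := by
  refine mono_desc_of_finite _ _ fun T => ?_
  let r : (∏ᶜ J) ⟶ ∐ fun i : T => J i :=
    ∑ i : T, Pi.π J i.1 ≫ Sigma.ι (fun i : T => J i) i
  suffices h : (subSum J T ≫ Sigma.desc fun i => Pi.lift fun k =>
      if h : i = k then eqToHom (congrArg J h) else (0 : J i ⟶ J k)) ≫ r = 𝟙 _ from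
    mono_of_mono_fac h
  refine Sigma.hom_ext _ _ fun i => ?_
  rw [Category.comp_id, Category.assoc, ι_subSum_assoc, Sigma.ι_desc_assoc, Preadditive.comp_sum,
    Finset.sum_eq_single i]
  · rw [Pi.lift_π_assoc, dif_pos rfl, eqToHom_refl, Category.id_comp]
  · intro k _ hk
    rw [Pi.lift_π_assoc, dif_neg (fun e => hk (Subtype.ext e.symm)), zero_comp]
  · exact fun h => absurd (Finset.mem_univ i) h

/-- `Γ_Z` of an injective is injective. -/
theorem injective_gammaZ [IsLocallyNoetherian X] (K : X.Modules) [Injective K] :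
    Injective ((DCoh.gammaZ j).obj K) := by
  classical
  obtain ⟨ι, J, hJ, -, hind, ⟨e⟩⟩ := exists_decomposition K ‹Injective K›
  let S := { i : ι // (R).map (𝟙 (J i)) = 0 }
  let π : ∀ k, (∐ J) ⟶ J k := fun k => Sigma.desc fun i =>
    if h : i = k then eqToHom (congrArg J h) else 0
  have hext : ∀ {W : X.Modules} (f g : W ⟶ ∐ J), (∀ k, f ≫ π k = g ≫ π k) → f = g := by
    intro W f g h
    have := mono_sigma_to_pi J
    rw [← cancel_mono (Sigma.desc fun i => Pi.lift fun k =>
      if h : i = k then eqToHom (congrArg J h) else (0 : J i ⟶ J k))]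
    refine Pi.hom_ext _ _ fun k => ?_
    have hk : (Sigma.desc fun i => Pi.lift fun k =>
        if h : i = k then eqToHom (congrArg J h) else (0 : J i ⟶ J k)) ≫ Pi.π J k = π k :=
      Sigma.hom_ext _ _ fun i => by simp [π]
    rw [Category.assoc, Category.assoc, hk]
    exact h k
  let a : (∐ fun i : S => J i.1) ⟶ ∐ J := Sigma.desc fun i => Sigma.ι J i.1
  let r : (∐ J) ⟶ ∐ fun i : S => J i.1 := Sigma.desc fun i =>
    if h : (R).map (𝟙 (J i)) = 0 then Sigma.ι (fun i : S => J i.1) ⟨i, h⟩ else 0
  have har : a ≫ r = 𝟙 _ := Sigma.hom_ext _ _ fun i => by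
    simp only [a, r, Sigma.ι_desc_assoc, Sigma.ι_desc, dif_pos i.2, Category.comp_id]; rfl
  let q : (DCoh.gammaZ j).obj K ⟶ K := kernel.ι _
  have hA : (R).map (a ≫ e.inv) = 0 := by
    rw [← comp_unit_eq_zero_iff]
    refine Sigma.hom_ext _ _ fun i => ?_
    rw [comp_zero, ← Category.assoc, comp_unit_eq_zero_iff,
      ← Category.id_comp (Sigma.ι _ i ≫ a ≫ e.inv), Functor.map_comp]
    rw [show (R).map (𝟙 (J i.1)) = 0 from i.2, zero_comp]
  let l : (∐ fun i : S => J i.1) ⟶ (DCoh.gammaZ j).obj K :=
    kernel.lift _ (a ≫ e.inv) ((comp_unit_eq_zero_iff j _).2 hA)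
  have : Injective (∐ fun i : S => J i.1) :=
    Retract.injective (Y := K) ⟨a ≫ e.inv, e.hom ≫ r, by simp [har]⟩
  have hq : (R).map q = 0 := (comp_unit_eq_zero_iff j q).1 (kernel.condition _)
  have key : (q ≫ e.hom ≫ r) ≫ l = 𝟙 _ := by
    have hmono : Mono q := inferInstanceAs (Mono (kernel.ι _))
    rw [← cancel_mono q, Category.id_comp]
    have hl : l ≫ q = a ≫ e.inv := kernel.lift_ι _ _ _
    rw [Category.assoc, hl, ← cancel_mono e.hom]
    simp only [Category.assoc, e.inv_hom_id, Category.comp_id]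
    refine hext _ _ fun k => ?_
    by_cases hk : (R).map (𝟙 (J k)) = 0
    · have : r ≫ a ≫ π k = π k := Sigma.hom_ext _ _ fun i => by
        by_cases hi : (R).map (𝟙 (J i)) = 0
        · simp only [r, a, π, Sigma.ι_desc_assoc, Sigma.ι_desc, dif_pos hi]
        · have hik : i ≠ k := by rintro rfl; exact hi hk
          simp only [r, π, Sigma.ι_desc_assoc, Sigma.ι_desc, dif_neg hi, dif_neg hik, zero_comp]
      simp only [Category.assoc, this]
    · have h0 : (q ≫ e.hom) ≫ π k = 0 :=
        ((restrict_dichotomy j (J k) (hind k)).resolve_left hk _ _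
          (by rw [Functor.map_comp, Functor.map_comp, hq, zero_comp, zero_comp]))
      have : r ≫ a ≫ π k = 0 := Sigma.hom_ext _ _ fun i => by
        by_cases hi : (R).map (𝟙 (J i)) = 0
        · have hik : i ≠ k := by rintro rfl; exact hk hi
          simp only [r, a, π, Sigma.ι_desc_assoc, Sigma.ι_desc, dif_pos hi, dif_neg hik, comp_zero]
        · simp only [r, Sigma.ι_desc_assoc, dif_neg hi, zero_comp, comp_zero]
      simp only [Category.assoc, this, comp_zero]
      exact ((Category.assoc _ _ _).symm.trans h0).symm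
  exact Retract.injective ⟨q ≫ e.hom ≫ r, l, key⟩

end Groth.Agent.InjMod
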