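import Groth.Agent.InjMod.Stab
import Groth.Agent.ModFlat.Free
import Groth.Agent.KFlat.StalkFlat
import Groth.Agent.KFlat.PullTensor

/-!
# The generators `j_! O_U` of the category of modules on a scheme
-/

set_option autoImplicit false

universe u

open CategoryTheory CategoryTheory.Limits AlgebraicGeometry Opposite TopologicalSpace
open Groth.Agent.PullStalk.Sky Groth.Agent.KFlat.StalkTensor

namespace Groth.Agent.InjMod

variable {X : Scheme.{u}} (U : X.Opens)

/-- The module corepresenting sections over `U`. -/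
noncomputable def genMod : X.Modules := ModSite.freeOn X.sheaf U

/-- Maps out of the generator are sections. -/
noncomputable def genEquiv (M : X.Modules) : (genMod U ⟶ M) ≃ Γ(M, U) :=
  ModFlat.freeOnEquiv X.sheaf U M

theorem genEquiv_comp {M N : X.Modules} (g : genMod U ⟶ M) (f : M ⟶ N) :
    genEquiv U N (g ≫ f) = f.app U (genEquiv U M g) :=
  ModFlat.freeOnEquiv_comp X.sheaf U g f

/-- The generating section. -/
noncomputable def genSec : Γ(genMod U, U) := genEquiv U _ (𝟙 _)

theorem genEquiv_eq {M : X.Modules} (g : genMod U ⟶ M) : genEquiv U M g = g.app U (genSec U) := by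
  rw [genSec, ← genEquiv_comp, Category.id_comp]

/-- Morphisms out of the generator are determined by the generating section. -/
theorem gen_hom_ext {M : X.Modules} {f g : genMod U ⟶ M}
    (h : f.app U (genSec U) = g.app U (genSec U)) : f = g :=
  (genEquiv U M).injective (by rw [genEquiv_eq, genEquiv_eq, h])

theorem exists_gen_hom {M : X.Modules} (m : Γ(M, U)) :
    ∃ g : genMod U ⟶ M, g.app U (genSec U) = m :=
  ⟨(genEquiv U M).symm m, by rw [← genEquiv_eq, Equiv.apply_symm_apply]⟩

variable {U}

/-- The germ of the generating section. -/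
noncomputable def genGerm {x : X} (hx : x ∈ U) : (genMod U).presheaf.stalk x :=
  germM (genMod U) U x hx (genSec U)

theorem stalk_lin_bijective {x : X} (hx : x ∈ U) (N : Type u) [AddCommGroup N]
    [Module (X.presheaf.stalk x) N] :
    Function.Bijective (fun φ : (genMod U).presheaf.stalk x →ₗ[X.presheaf.stalk x] N => φ (genGerm hx)) := by
  constructor
  · intro φ φ' h
    have e : toSky φ = toSky φ' := gen_hom_ext U (funext fun p => by
      refine (toSky_app φ U _ p).trans (Eq.trans ?_ (toSky_app φ' U _ p).symm)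
      exact h)
    simpa [ofSky_toSky] using congrArg ofSky e
  · intro n
    obtain ⟨g, hg⟩ := exists_gen_hom U (M := sky x N) (fun _ : PLift (x ∈ U) => n)
    refine ⟨ofSky g, ?_⟩
    exact (ofSky_germ g U hx (genSec U)).trans (congrFun hg ⟨hx⟩)

/-- The stalk of the generator inside `U` is free on the germ. -/
theorem smul_genGerm_bijective {x : X} (hx : x ∈ U) :
    Function.Bijective (fun r : X.presheaf.stalk x => r • genGerm hx) := by
  obtain ⟨χ, hχ⟩ := (stalk_lin_bijective hx (X.presheaf.stalk x)).2 1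
  have h1 : ∀ r : X.presheaf.stalk x, χ (r • genGerm hx) = r := fun r => by
    rw [map_smul]
    exact (congrArg (r • ·) hχ).trans (mul_one r)
  refine ⟨fun r r' h => by simpa [h1] using congrArg χ h, fun t => ⟨χ t, ?_⟩⟩
  have : (LinearMap.toSpanSingleton _ _ (genGerm hx)).comp χ = LinearMap.id :=
    (stalk_lin_bijective hx _).1 (by
      change χ (genGerm hx) • genGerm hx = genGerm hx
      rw [show χ (genGerm hx) = 1 from hχ, one_smul])
  exact LinearMap.congr_fun this t

/-- The stalk of the generator outside `U` vanishes. -/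
theorem subsingleton_stalk_gen {x : X} (hx : x ∉ U) :
    Subsingleton ((genMod U).presheaf.stalk x) := by
  have e : toSky (M := genMod U) (LinearMap.id : (genMod U).presheaf.stalk x →ₗ[X.presheaf.stalk x] _) =
      toSky 0 := gen_hom_ext U (funext fun p => absurd p.down hx)
  have := congrArg ofSky e
  rw [ofSky_toSky, ofSky_toSky] at this
  exact subsingleton_of_forall_eq 0 fun t => LinearMap.congr_fun this t

/-- The functions `a` such that the germ of `a · e` at `q` lies in a subobject. -/
noncomputable def genIdeal (A : Subobject (genMod U)) (q : U) : Ideal Γ(X, U) :=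
  Ideal.comap (X.presheaf.germ U q.1 q.2).hom
    (Submodule.comap (LinearMap.toSpanSingleton (X.presheaf.stalk q.1) _ (genGerm q.2))
      (LinearMap.range ((DerSch.stalkFunctor X q.1).map A.arrow).hom))

theorem mem_genIdeal {A : Subobject (genMod U)} {q : U} {a : Γ(X, U)} :
    a ∈ genIdeal A q ↔ X.presheaf.germ U q.1 q.2 a • genGerm q.2 ∈
      LinearMap.range ((DerSch.stalkFunctor X q.1).map A.arrow).hom :=
  Iff.rfl

theorem isOpen_genIdeal (A : Subobject (genMod U)) (a : Γ(X, U)) :
    IsOpen {q : U | a ∈ genIdeal A q} := by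
  rw [isOpen_iff_forall_mem_open]
  intro q hq
  obtain ⟨t, ht⟩ := hq
  obtain ⟨W, hW, s, rfl⟩ := exists_germM_eq (A : X.Modules) q.1 t
  have hW' : q.1 ∈ W ⊓ U := ⟨hW, q.2⟩
  have ht := (DerSch.stalkFunctor_map_germ q.1 A.arrow W hW s).symm.trans ht
  have h2 : germM (genMod U) (W ⊓ U) q.1 hW'
      ((genMod U).presheaf.map (homOfLE (inf_le_left : W ⊓ U ≤ W)).op (A.arrow.app W s)) =
      germM (genMod U) (W ⊓ U) q.1 hW'
        ((genMod U).presheaf.map (homOfLE (inf_le_right : W ⊓ U ≤ U)).op (a • genSec U)) := by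
    refine ((genMod U).presheaf.germ_res_apply _ q.1 hW' _).trans (ht.trans ?_)
    exact ((genMod U).presheaf.germ_res_apply _ q.1 hW' _).trans (germM_smul _ U q.1 q.2 a _) |>.symm
  obtain ⟨V, hqV, i₁, i₂, e⟩ := (genMod U).presheaf.germ_eq q.1 hW' hW' _ _ h2
  refine ⟨Subtype.val ⁻¹' (V : Set X), fun r hr => ?_, V.2.preimage continuous_subtype_val, hqV⟩
  have hr' : r.1 ∈ W ⊓ U := i₁.le hr
  refine ⟨germM (A : X.Modules) W r.1 hr'.1 s, ?_⟩
  refine (DerSch.stalkFunctor_map_germ r.1 A.arrow W hr'.1 s).trans ?_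
  refine ((genMod U).presheaf.germ_res_apply (homOfLE (inf_le_left : W ⊓ U ≤ W)) r.1 hr' _).symm.trans ?_
  refine ((genMod U).presheaf.germ_res_apply i₁ r.1 hr _).symm.trans ?_
  refine (congrArg (fun z => (genMod U).presheaf.germ V r.1 hr z) e).trans ?_
  refine ((genMod U).presheaf.germ_res_apply i₂ r.1 hr _).trans ?_
  exact ((genMod U).presheaf.germ_res_apply (homOfLE (inf_le_right : W ⊓ U ≤ U)) r.1 hr' _).trans
    (germM_smul _ U r.1 r.2 a _)

theorem genIdeal_mono {A B : Subobject (genMod U)} (h : A ≤ B) (q : U) :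
    genIdeal A q ≤ genIdeal B q := by
  rintro a ⟨t, ht⟩
  refine ⟨((DerSch.stalkFunctor X q.1).map (Subobject.ofLE A B h)).hom t, ?_⟩
  rw [← ht]
  exact congrArg (fun f => ModuleCat.Hom.hom f t)
    (((DerSch.stalkFunctor X q.1).map_comp _ _).symm.trans
      (congrArg _ (Subobject.ofLE_arrow h)))

theorem stalk_bijective_of_genIdeal_eq (hU : IsAffineOpen U) {A B : Subobject (genMod U)} (h : A ≤ B)
    (e : ∀ q, genIdeal B q = genIdeal A q) (x : X) :
    Function.Bijective ((DerSch.stalkFunctor X x).map (Subobject.ofLE A B h)).hom := by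
  refine ⟨stalk_map_injective x _, fun t => ?_⟩
  let u := ((DerSch.stalkFunctor X x).map B.arrow).hom t
  suffices hu : u ∈ LinearMap.range ((DerSch.stalkFunctor X x).map A.arrow).hom by
    obtain ⟨t', ht'⟩ := hu
    refine ⟨t', stalk_map_injective x B.arrow (Eq.trans ?_ ht')⟩
    exact congrArg (fun f => ModuleCat.Hom.hom f t')
      (((DerSch.stalkFunctor X x).map_comp _ _).symm.trans (congrArg _ (Subobject.ofLE_arrow h)))
  by_cases hx : x ∈ U
  · obtain ⟨f, hf⟩ := (smul_genGerm_bijective hx).2 u
    let := X.presheaf.algebra_section_stalk (⟨x, hx⟩ : U)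
    have := hU.isLocalization_stalk ⟨x, hx⟩
    obtain ⟨⟨a, s⟩, hs⟩ := IsLocalization.surj (hU.primeIdealOf ⟨x, hx⟩).asIdeal.primeCompl f
    have hunit : IsUnit (X.presheaf.germ U x hx s.1) :=
      IsLocalization.map_units (X.presheaf.stalk x) s
    have hs' : f * X.presheaf.germ U x hx s.1 = X.presheaf.germ U x hx a := hs
    have ha : a ∈ genIdeal B ⟨x, hx⟩ := by
      rw [mem_genIdeal, ← hs', mul_comm, mul_smul]
      refine Submodule.smul_mem _ _ ?_
      have hf' : f • genGerm hx = u := hf
      exact ⟨t, hf'.symm⟩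
    rw [e, mem_genIdeal, ← hs', mul_comm, mul_smul] at ha
    rw [← hf]
    exact (Submodule.smul_mem_iff_of_isUnit _ hunit).1 ha
  · exact ⟨0, (subsingleton_stalk_gen hx).elim _ _⟩

/-- The generator of an affine open of a locally noetherian scheme is a noetherian object. -/
theorem exists_stable_gen [IsLocallyNoetherian X] (hU : IsAffineOpen U)
    (c : ℕ →o Subobject (genMod U)) : ∃ n, ∀ m, n ≤ m → c n = c m := by
  have : IsNoetherianRing Γ(X, U) := IsLocallyNoetherian.component_noetherian ⟨U, hU⟩
  obtain ⟨n, hn⟩ := @exists_uniform_stable (↥U) _ (noetherianSpace_of_isAffineOpen U hU)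
    (inferInstanceAs (QuasiSober (U : Scheme.{u}))) Γ(X, U) _ _ (fun m q => genIdeal (c m) q)
    (fun q a b hab => genIdeal_mono (c.monotone hab) q) (fun m a => isOpen_genIdeal (c m) a)
  refine ⟨n, fun m hm => le_antisymm (c.monotone hm) ?_⟩
  have hbij := stalk_bijective_of_genIdeal_eq hU (c.monotone hm) (hn m hm)
  have : IsIso (Subobject.ofLE _ _ (c.monotone hm)) :=
    KFlat.PullTensor.isIso_of_stalk_bijective _ hbij
  exact Subobject.le_of_comm (inv (Subobject.ofLE _ _ (c.monotone hm)))
    ((IsIso.inv_comp_eq _).2 (Subobject.ofLE_arrow _).symm)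

end Groth.Agent.InjMod
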