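import Groth.Agent.InjMod.GenExtZero
import Groth.Agent.InjMod.Coprod
import Mathlib.Algebra.Category.ModuleCat.Products
import Groth.Prelude.Def_FlatMod2

/-!
# Coproducts of generators: flatness and epimorphisms onto a module
-/

set_option autoImplicit false

universe u

open CategoryTheory CategoryTheory.Limits AlgebraicGeometry Opposite TopologicalSpace
open Groth.Agent.PullStalk.Sky Groth.Agent.KFlat.StalkTensor

namespace Groth.Agent.InjMod

variable {X : Scheme.{u}}

/-- Stalks of generators are flat. -/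
theorem flat_stalk_gen (U : X.Opens) (x : X) :
    Module.Flat (X.presheaf.stalk x) ((genMod U).presheaf.stalk x) := by
  by_cases hx : x ∈ U
  · exact Module.Flat.of_linearEquiv
      (LinearEquiv.ofBijective (LinearMap.toSpanSingleton (X.presheaf.stalk x)
        ((genMod U).presheaf.stalk x) (genGerm hx)) (smul_genGerm_bijective hx)).symm
  · have := subsingleton_stalk_gen hx
    infer_instance

/-- A coproduct of modules with flat stalks has flat stalks. -/
theorem isFlat_coproduct {ι : Type u} (I : ι → X.Modules) (h : ∀ i, FlatMod.IsFlat (I i)) :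
    FlatMod.IsFlat (∐ I) := by
  classical
  intro x
  show Module.Flat (X.presheaf.stalk x) ((DerSch.stalkFunctor X x).obj (∐ I))
  have : ∀ i, Module.Flat (X.presheaf.stalk x) ((DerSch.stalkFunctor X x).obj (I i)) := fun i => h i x
  exact Module.Flat.of_linearEquiv
    ((PreservesCoproduct.iso (DerSch.stalkFunctor X x) I ≪≫
      ModuleCat.coprodIsoDirectSum fun i => (DerSch.stalkFunctor X x).obj (I i)).toLinearEquiv)

/-- Every module is a quotient of a coproduct of `j_! O_U`, which is flat. -/
theorem exists_epi_gen (F : X.Modules) :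
    ∃ (ι : Type u) (U : ι → X.Opens) (p : (∐ fun i => CxOX.extZeroUnit (U i).ι) ⟶ F),
      Epi p ∧ FlatMod.IsFlat (∐ fun i => CxOX.extZeroUnit (U i).ι) := by
  let ι : Type u := Σ U : X.Opens, Γ(F, U)
  let I : ι → X.Modules := fun i => CxOX.extZeroUnit i.1.ι
  let e : ∀ i : ι, genMod i.1 ≅ I i := fun i =>
    eqToIso (congrArg genMod (Scheme.Opens.ι_image_top i.1).symm) ≪≫ genExtZeroIso i.1.ι
  let p : ∐ I ⟶ F := Sigma.desc fun i => (e i).inv ≫ (genEquiv i.1 F).symm i.2
  refine ⟨ι, fun i => i.1, p, ?_, isFlat_coproduct I fun i x => ?_⟩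
  · refine Preadditive.epi_of_cancel_zero _ fun {G} g hg => ?_
    refine Scheme.Modules.hom_ext _ _ fun U => ?_
    ext m
    have h := congrArg (fun f => (e ⟨U, m⟩).hom ≫ Sigma.ι I ⟨U, m⟩ ≫ f) hg
    simp only [p, comp_zero, Sigma.ι_desc_assoc, Category.assoc, Iso.hom_inv_id_assoc] at h
    have h' := congrArg (genEquiv U G) h
    rw [genEquiv_comp, Equiv.apply_symm_apply] at h'
    rw [h', genEquiv_eq]
    rfl
  · have h1 : Module.Flat (X.presheaf.stalk x) ((DerSch.stalkFunctor X x).obj (genMod i.1)) :=
      flat_stalk_gen i.1 x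
    have h2 : Module.Flat (X.presheaf.stalk x) ((DerSch.stalkFunctor X x).obj (I i)) :=
      @Module.Flat.of_linearEquiv _ _ _ _ _ _ _ _ h1
        (Iso.toLinearEquiv ((DerSch.stalkFunctor X x).mapIso (e i)).symm)
    exact h2

end Groth.Agent.InjMod
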