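import Groth.Agent.InjMod.GenCover
import Groth.Agent.KFlat.StalkCx
import Groth.Agent.KFlat.TensorLocFree
import Groth.Agent.ChgRings.Derived
import Groth.Agent.QCoh.Exact
import Groth.Prelude.Def_ExtSupp

/-!
# Exactness of the internal Hom into an injective module
-/

set_option autoImplicit false

universe u

open CategoryTheory CategoryTheory.Limits AlgebraicGeometry Opposite TopologicalSpace MonoidalCategory
open Groth.Agent.PullStalk.Sky Groth.Agent.KFlat.StalkTensor

noncomputable section

namespace Groth.Agent.InjMod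

variable {X : Scheme.{u}}

/-- `ℋom(M, -)` as a functor of modules on the scheme. -/
abbrev homF (M : X.Modules) [ModSite.HasSheafHom (O := X.sheaf) M] : X.Modules ⥤ X.Modules :=
  ModSite.sheafHom (O := X.sheaf) M

/-- The defining adjunction of `homF`. -/
abbrev homAdj (M : X.Modules) [ModSite.HasSheafHom (O := X.sheaf) M] : ChgRings.tensR M ⊣ homF M :=
  ModSite.sheafHomAdj (O := X.sheaf) M

/-- Contravariance of `homF`. -/
abbrev homMap {M M' : X.Modules} [ModSite.HasSheafHom (O := X.sheaf) M]
    [ModSite.HasSheafHom (O := X.sheaf) M'] (g : M' ⟶ M) : homF M ⟶ homF M' :=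
  ExtSupp.sheafHomMap (O := X.sheaf) g

/-- `A ⊗ g`. -/
abbrev tensWhisk (A : X.Modules) {M M' : X.Modules} (g : M' ⟶ M) :
    (ChgRings.tensR M').obj A ⟶ (ChgRings.tensR M).obj A :=
  ((ModSite.tensorBi X.sheaf).obj A).map g

theorem homEquiv_homMap {M M' : X.Modules} [ModSite.HasSheafHom (O := X.sheaf) M]
    [ModSite.HasSheafHom (O := X.sheaf) M'] (g : M' ⟶ M) {A Q : X.Modules}
    (φ : (ChgRings.tensR M).obj A ⟶ Q) :
    (homAdj M).homEquiv A Q φ ≫ (homMap g).app Q = (homAdj M').homEquiv A Q (tensWhisk A g ≫ φ) := by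
  have h1 := unit_conjugateEquiv (homAdj M) (homAdj M')
    ((ModSite.tensorBi X.sheaf).flip.map g) A
  rw [Adjunction.homEquiv_unit, Adjunction.homEquiv_unit, Category.assoc]
  refine (congrArg ((homAdj M).unit.app A ≫ ·) ((homMap g).naturality φ)).trans ?_
  rw [← Category.assoc, (homF M').map_comp, ← Category.assoc]
  exact congrArg (· ≫ (homF M').map φ) h1

/-- Tensoring with a generator preserves monomorphisms. -/
theorem mono_tensWhisk_gen (V : X.Opens) {M M' : X.Modules} (g : M' ⟶ M) [Mono g] :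
    Mono (tensWhisk (genMod V) g) := by
  refine KFlat.StalkTensor.mono_of_stalk_injective _ fun y => ?_
  have : Module.Flat (X.presheaf.stalk y) ((DerSch.stalkFunctor X y).obj (genMod V)) := flat_stalk_gen V y
  have h := KFlat.StalkCx.stIso_right y (genMod V) g
  have hinj : Function.Injective
      (((DerSch.stalkFunctor X y).obj (genMod V) ◁ (DerSch.stalkFunctor X y).map g :
        _ ⟶ (DerSch.stalkFunctor X y).obj (genMod V) ⊗ (DerSch.stalkFunctor X y).obj M)).hom :=
    Module.Flat.lTensor_preserves_injective_linearMap (M := ((DerSch.stalkFunctor X y).obj (genMod V))) _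
      (KFlat.StalkTensor.stalk_map_injective y g)
  intro a b hab
  have ha := LinearMap.congr_fun (congrArg ModuleCat.Hom.hom h) a
  have hb := LinearMap.congr_fun (congrArg ModuleCat.Hom.hom h) b
  refine (KFlat.StalkCx.stIso y (genMod V) M').toLinearEquiv.injective (hinj ?_)
  exact ha.symm.trans ((congrArg (KFlat.StalkCx.stIso y (genMod V) M).hom.hom hab).trans hb)

variable (S : ShortComplex X.Modules)
  [ModSite.HasSheafHom (O := X.sheaf) S.X₁] [ModSite.HasSheafHom (O := X.sheaf) S.X₂]
  [ModSite.HasSheafHom (O := X.sheaf) S.X₃]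

theorem homMap_comp_eq_zero : homMap S.g ≫ homMap S.f = 0 := by
  ext Q : 2
  obtain ⟨φ, hφ⟩ := ((homAdj S.X₃).homEquiv ((homF S.X₃).obj Q) Q).surjective (𝟙 _)
  have h2 := congrArg (fun f => f ≫ (homMap S.g ≫ homMap S.f).app Q) hφ
  simp only [Category.id_comp, NatTrans.comp_app] at h2
  rw [NatTrans.comp_app, ← h2, ← Category.assoc, homEquiv_homMap, homEquiv_homMap]
  have h0 : tensWhisk ((homF S.X₃).obj Q) S.f ≫ tensWhisk ((homF S.X₃).obj Q) S.g = 0 := by
    exact (Functor.map_comp _ _ _).symm.trans ((congrArg _ S.zero).trans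
      (((ModSite.tensorBi X.sheaf).obj _).map_zero _ _))
  rw [← Category.assoc, h0, zero_comp, Adjunction.homEquiv_unit, Functor.map_zero, comp_zero]
  rfl

/-- Morphisms from a generator into an internal Hom. -/
def genHomEquiv (M : X.Modules) [ModSite.HasSheafHom (O := X.sheaf) M] (V : X.Opens) (Q : X.Modules) :
    ((ChgRings.tensR M).obj (genMod V) ⟶ Q) ≃ Γ((homF M).obj Q, V) :=
  ((homAdj M).homEquiv (genMod V) Q).trans (genEquiv V _)

theorem genHomEquiv_homMap {M M' : X.Modules} [ModSite.HasSheafHom (O := X.sheaf) M]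
    [ModSite.HasSheafHom (O := X.sheaf) M'] (g : M' ⟶ M) (V : X.Opens) {Q : X.Modules}
    (φ : (ChgRings.tensR M).obj (genMod V) ⟶ Q) :
    ((homMap g).app Q).app V (genHomEquiv M V Q φ) = genHomEquiv M' V Q (tensWhisk (genMod V) g ≫ φ) := by
  show ((homMap g).app Q).app V (genEquiv V _ ((homAdj M).homEquiv _ Q φ)) = _
  rw [← genEquiv_comp, homEquiv_homMap]
  rfl

theorem genHomEquiv_zero (M : X.Modules) [ModSite.HasSheafHom (O := X.sheaf) M] (V : X.Opens)
    (Q : X.Modules) : genHomEquiv M V Q 0 = 0 := by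
  show genEquiv V _ ((homAdj M).homEquiv _ Q 0) = 0
  rw [Adjunction.homEquiv_unit, Functor.map_zero, comp_zero, genEquiv_eq]
  rfl

/-- On sections over any open, `ℋom(-, Q)` of a short exact sequence is short exact for `Q` injective. -/
theorem sections_exact_homMap (hS : S.ShortExact) (Q : X.Modules) [Injective Q] (V : X.Opens) :
    Function.Injective (((homMap S.g).app Q).app V) ∧
    (∀ s, ((homMap S.f).app Q).app V s = 0 → ∃ t, ((homMap S.g).app Q).app V t = s) ∧
    Function.Surjective (((homMap S.f).app Q).app V) := by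
  have := hS.mono_f
  let A := genMod V
  let Te : X.Modules ⥤ X.Modules := (ModSite.tensorBi X.sheaf).obj A
  have : PreservesColimitsOfSize.{0, 0} Te := KFlat.TensorLocFree.preservesColimits_tensorBi_obj A
  have : PreservesFiniteColimits Te := PreservesColimitsOfSize.preservesFiniteColimits Te
  have := preservesBinaryBiproducts_of_preservesBinaryCoproducts Te
  have : Te.Additive := Functor.additive_of_preservesBinaryBiproducts Te
  have hmono : Mono (tensWhisk A S.f) := mono_tensWhisk_gen V S.f
  have hA : (S.map Te).Exact ∧ Epi (tensWhisk A S.g) :=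
    (show PreservesFiniteColimits Te ↔ ∀ (T : ShortComplex X.Modules), T.ShortExact →
        (T.map Te).Exact ∧ Epi (Te.map T.g) from (Functor.preservesFiniteColimits_tfae Te).out 3 0).1
      ‹PreservesFiniteColimits Te› S hS
  refine ⟨fun s t hst => ?_, fun s hs => ?_, fun s => ?_⟩
  · obtain ⟨φ, rfl⟩ := (genHomEquiv S.X₃ V Q).surjective s
    obtain ⟨ψ, rfl⟩ := (genHomEquiv S.X₃ V Q).surjective t
    rw [genHomEquiv_homMap, genHomEquiv_homMap] at hst
    have := hA.2
    rw [(cancel_epi (tensWhisk A S.g)).1 ((genHomEquiv S.X₂ V Q).injective hst)]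
  · obtain ⟨φ, rfl⟩ := (genHomEquiv S.X₂ V Q).surjective s
    rw [genHomEquiv_homMap, ← genHomEquiv_zero S.X₁ V Q] at hs
    have h0 : tensWhisk A S.f ≫ φ = 0 := (genHomEquiv S.X₁ V Q).injective hs
    have := hA.2
    have : Epi (S.map Te).g := hA.2
    refine ⟨genHomEquiv S.X₃ V Q (hA.1.desc φ h0), ?_⟩
    rw [genHomEquiv_homMap]
    exact congrArg _ (hA.1.g_desc φ h0)
  · obtain ⟨φ, rfl⟩ := (genHomEquiv S.X₁ V Q).surjective s
    refine ⟨genHomEquiv S.X₂ V Q (Injective.factorThru φ (tensWhisk A S.f)), ?_⟩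
    rw [genHomEquiv_homMap, Injective.comp_factorThru]

/-- A complex of modules which is exact on all sections is short exact. -/
theorem shortExact_of_sections {Y : Scheme.{u}} (T : ShortComplex Y.Modules)
    (h1 : ∀ V, Function.Injective (T.f.app V))
    (h2 : ∀ V s, T.g.app V s = 0 → ∃ t, T.f.app V t = s)
    (h3 : ∀ V, Function.Surjective (T.g.app V)) : T.ShortExact := by
  have hm : Mono T.f := by
    refine ⟨fun {P} a b e => ?_⟩
    ext V p
    exact h1 V (congrArg (fun χ => Scheme.Modules.Hom.app χ V p) e)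
  have he : Epi T.g := KFlat.StalkTensor.epi_of_app_surjective _ h3
  refine { exact := T.exact_iff_epi_kernel_lift.2 ?_, mono_f := hm, epi_g := he }
  refine KFlat.StalkTensor.epi_of_app_surjective _ fun V s => ?_
  have hk : T.g.app V ((kernel.ι T.g).app V s) = 0 :=
    (congrArg (fun χ => Scheme.Modules.Hom.app χ V s) (kernel.condition T.g)).trans rfl
  obtain ⟨t, ht⟩ := h2 V _ hk
  refine ⟨t, QCoh.app_injective_of_mono (kernel.ι T.g) V ?_⟩
  exact (congrArg (fun χ => Scheme.Modules.Hom.app χ V t) (kernel.lift_ι T.g T.f T.zero)).trans ht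

/-- `f_* ℋom(-, Q)` of a short exact sequence is short exact for `Q` injective. -/
theorem shortExact_push_homMap (hS : S.ShortExact) {Y : Scheme.{u}} (f : X ⟶ Y) (Q : X.Modules) [Injective Q]
    (w : (Scheme.Modules.pushforward f).map ((homMap S.g).app Q) ≫
      (Scheme.Modules.pushforward f).map ((homMap S.f).app Q) = 0) :
    (ShortComplex.mk _ _ w).ShortExact :=
  shortExact_of_sections _ (fun V => (sections_exact_homMap S hS Q (f ⁻¹ᵁ V)).1)
    (fun V => (sections_exact_homMap S hS Q (f ⁻¹ᵁ V)).2.1)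
    (fun V => (sections_exact_homMap S hS Q (f ⁻¹ᵁ V)).2.2)

end Groth.Agent.InjMod
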