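import Groth.Agent.InjMod.StalkExt
import Groth.Agent.InjMod.Affine
import Groth.Agent.InjMod.HomComp
import Groth.Agent.ProperFin.FiniteMap
import Groth.Agent.ProperFin.Supp
import Groth.Agent.HomShEval.QCoh
import Groth.Prelude.Def_DCoh4
import Mathlib.Algebra.Homology.DerivedCategory.Ext.EnoughInjectives

/-!
# A criterion of injectivity: vanishing of the first Ext sheaves of coherent modules
-/

set_option autoImplicit false
set_option maxHeartbeats 1600000

universe u

open CategoryTheory CategoryTheory.Limits AlgebraicGeometry Opposite TopologicalSpace Abelian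
open Groth.Agent.PullStalk.Sky Groth.Agent.KFlat.StalkTensor

noncomputable section

namespace Groth.Agent.InjMod

variable {X : Scheme.{u}}

/-- `G ⊗ - ≅ - ⊗ G`. -/
def braidIso (G : X.Modules) : (DCoh.tensorBi (X := X)).obj G ≅ ChgRings.tensR G :=
  NatIso.ofComponents (fun A => ChgRings.commIso G A)
    (fun {A B} g => by
      refine ((ModSite.shPre X.sheaf).map_comp _ _).symm.trans
        (Eq.trans (congrArg (ModSite.shPre X.sheaf).map ?_) ((ModSite.shPre X.sheaf).map_comp _ _))
      exact BraidedCategory.braiding_naturality_right _ ((ModSite.toPre X.sheaf).map g))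

theorem hasSheafHom_dcoh (G : X.Modules) : DCoh.HasSheafHom G :=
  have : ModSite.HasSheafHom (O := X.sheaf) G := KFlat.hasSheafHom X.sheaf G
  ((homAdj G).ofNatIsoLeft (braidIso G).symm).isLeftAdjoint

/-- The two internal Homs agree. -/
def dcohHomIsoB (G : X.Modules) [ModSite.HasSheafHom (O := X.sheaf) G] [DCoh.HasSheafHom G] :
    DCoh.sheafHom G ≅ homF G :=
  Adjunction.rightAdjointUniq (DCoh.sheafHomAdj G) ((homAdj G).ofNatIsoLeft (braidIso G).symm)

variable [IsLocallyNoetherian X]

/-- An ideal of the ring of sections over an affine open is cut out by a coherent quotient of `O`. -/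
theorem exists_coh_quotient {V : X.Opens} (hV : IsAffineOpen V) (J : Ideal Γ(X, V)) :
    ∃ (G : X.Modules) (u : Γ(G, V)), Coh.IsCoh G ∧
      (∀ g : Γ(G, V), ∃ a : Γ(X, V), a • u = g) ∧ ∀ a : Γ(X, V), a • u = 0 ↔ a ∈ J := by
  have : IsNoetherianRing Γ(X, V) := IsLocallyNoetherian.component_noetherian ⟨V, hV⟩
  let i : Spec (CommRingCat.of (Γ(X, V) ⧸ J)) ⟶ X :=
    Spec.map (CommRingCat.ofHom (Ideal.Quotient.mk J)) ≫ hV.fromSpec
  have : QuasiCompact i := inferInstance
  let I := i.ker
  let ι := I.subschemeι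
  refine ⟨(Coh.push ι).obj (Coh.structureModule I.subscheme), (show Γ(I.subscheme, ι ⁻¹ᵁ V) from 1),
    ProperFin.isCoh_push_of_isFinite ι _ (ProperFin.isCoh_structureModule _), fun g => ?_, fun a => ?_⟩
  · obtain ⟨a, ha⟩ := I.subschemeι_app_surjective ⟨V, hV⟩ (show Γ(I.subscheme, ι ⁻¹ᵁ V) from g)
    exact ⟨a, (mul_one (M := Γ(I.subscheme, ι ⁻¹ᵁ V)) (ι.app V a)).trans ha⟩
  · have h₁ : RingHom.ker (ι.app V).hom = RingHom.ker (i.app V).hom :=
      (I.ker_subschemeι_app ⟨V, hV⟩).trans (i.ker_apply ⟨V, hV⟩)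
    have h₂ : RingHom.ker (i.app V).hom = J := by
      let q : Γ(X, V) ⟶ CommRingCat.of (Γ(X, V) ⧸ J) := CommRingCat.ofHom (Ideal.Quotient.mk J)
      have hpre : i ⁻¹ᵁ V = ⊤ := by
        show Spec.map q ⁻¹ᵁ (hV.fromSpec ⁻¹ᵁ V) = ⊤
        rw [hV.fromSpec_preimage_self]
        rfl
      ext a
      rw [RingHom.mem_ker, ← Ideal.Quotient.eq_zero_iff_mem]
      have e : (i.app V ≫ (Spec (CommRingCat.of (Γ(X, V) ⧸ J))).presheaf.map (eqToHom hpre.symm).op ≫
          (Scheme.ΓSpecIso _).hom) = q := by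
        rw [show (eqToHom hpre.symm).op = (homOfLE hpre.ge).op from rfl, ← Category.assoc,
          show i.app V ≫ (Spec (CommRingCat.of (Γ(X, V) ⧸ J))).presheaf.map (homOfLE hpre.ge).op =
            i.appLE V ⊤ hpre.ge from rfl]
        rw [show i.appLE V ⊤ hpre.ge = hV.fromSpec.appLE V ⊤ hV.fromSpec_preimage_self.ge ≫
            (Spec.map q).appLE ⊤ ⊤ le_rfl from (Scheme.Hom.appLE_comp_appLE _ _ _ _ _ _ _).symm]
        have e₁ : hV.fromSpec.appLE V ⊤ hV.fromSpec_preimage_self.ge = (Scheme.ΓSpecIso Γ(X, V)).inv := by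
          rw [Scheme.Hom.appLE, hV.fromSpec_app_self, Category.assoc, ← Functor.map_comp]
          exact (congrArg (_ ≫ ·) ((Spec Γ(X, V)).presheaf.map_id (op ⊤))).trans (Category.comp_id _)
        rw [e₁, show (Spec.map q).appLE ⊤ ⊤ le_rfl = (Spec.map q).appTop from Scheme.Hom.appLE_eq_app _,
          Category.assoc, Scheme.ΓSpecIso_naturality, Iso.inv_hom_id_assoc]
      refine ⟨fun h => ?_, fun h => ?_⟩
      · refine (ConcreteCategory.congr_hom e a).symm.trans ?_
        simp [h]
      · have h' := (ConcreteCategory.congr_hom e a).trans h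
        simp only [CommRingCat.comp_apply] at h'
        apply (ConcreteCategory.bijective_of_isIso
          ((Spec (CommRingCat.of (Γ(X, V) ⧸ J))).presheaf.map (eqToHom hpre.symm).op ≫
            (Scheme.ΓSpecIso _).hom)).1
        simpa using h'
    rw [← h₂, ← h₁, RingHom.mem_ker]
    exact (Eq.congr_left (mul_one (ι.app V a))).symm.symm

/-- If the first Ext sheaves of all coherent modules into `F` vanish, the stalks of `F` are injective. -/
theorem stalk_injective_of_ext [HasInjectiveResolutions X.Modules] (F : X.Modules)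
    (h : ∀ (G : X.Modules) [ModSite.HasSheafHom (O := X.sheaf) G] [(homF G).Additive],
      Coh.IsCoh G → IsZero (((homF G).rightDerived 1).obj F)) (x : X) :
    Module.Injective (X.presheaf.stalk x) (F.presheaf.stalk x) := by
  refine Module.Baer.injective fun 𝔞 f => ?_
  obtain ⟨V, hV, hxV, -⟩ := exists_isAffineOpen_mem_and_subset (X := X) (x := x) (U := ⊤) trivial
  have : IsNoetherianRing Γ(X, V) := IsLocallyNoetherian.component_noetherian ⟨V, hV⟩
  let := X.presheaf.algebra_section_stalk (⟨x, hxV⟩ : V)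
  have hloc := hV.isLocalization_stalk ⟨x, hxV⟩
  obtain ⟨G, u, hG, hsurj, hker⟩ := exists_coh_quotient hV (𝔞.comap (X.presheaf.germ V x hxV).hom)
  have : G.IsQuasicoherent := hG.1
  have : ModSite.HasSheafHom (O := X.sheaf) G := KFlat.hasSheafHom X.sheaf G
  have hA : (homF G).Additive :=
    have : (ChgRings.tensR G).Additive := KFlat.additive_tensorBi_flip G
    (homAdj G).right_adjoint_additive
  have : HasInjectiveResolutions (ModSite.Mod X.sheaf) := ‹HasInjectiveResolutions X.Modules›
  let O := X.presheaf.stalk x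
  obtain ⟨e⟩ := nonempty_stalk_extSh_equiv G F (HomShEval.QCoh.isFP_of_isCoh G hG) x 1
  have hsub : Subsingleton (Ext ((DerSch.stalkFunctor X x).obj G) ((DerSch.stalkFunctor X x).obj F) 1) := by
    have : (DerSch.stalkFunctor X x).PreservesZeroMorphisms := by
      have := preservesHomology_stalkFunctor x
      infer_instance
    have := ModuleCat.subsingleton_of_isZero ((DerSch.stalkFunctor X x).map_isZero (h G hG))
    exact @Equiv.subsingleton _ _ e.symm.toEquiv this
  let ū : G.presheaf.stalk x := germM G V x hxV u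
  let p : O →ₗ[O] G.presheaf.stalk x := LinearMap.toSpanSingleton O _ ū
  have hp : Function.Surjective p := by
    have hs := HomShEval.QCoh.span_germ G hV (s := fun m : Γ(G, V) => m)
      (by rw [Set.range_id', Submodule.span_univ]) hxV
    rw [← LinearMap.range_eq_top, eq_top_iff, ← hs, Submodule.span_le]
    rintro _ ⟨m, rfl⟩
    obtain ⟨a, rfl⟩ := hsurj m
    exact ⟨X.presheaf.germ V x hxV a, (germM_smul G V x hxV a u).symm⟩
  have hkp : LinearMap.ker p = 𝔞 := by
    ext c
    obtain ⟨⟨a, s⟩, hc⟩ := IsLocalization.surj (hV.primeIdealOf ⟨x, hxV⟩).asIdeal.primeCompl c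
    have hs : IsUnit (X.presheaf.germ V x hxV s.1) :=
      IsLocalization.map_units (X.presheaf.stalk x) s
    have hc' : c * X.presheaf.germ V x hxV s.1 = X.presheaf.germ V x hxV a := hc
    constructor
    · intro hz
      have hz' : (X.presheaf.germ V x hxV a : O) • ū = 0 := by
        rw [← hc', mul_comm, mul_smul]
        exact (congrArg (X.presheaf.germ V x hxV s.1 • ·) (show c • ū = 0 from hz)).trans (smul_zero _)
      obtain ⟨t, htp, ht⟩ := (AssSch.Stalk.germM_eq_zero_iff G hV x hxV (a • u)).1 ((germM_smul G V x hxV a u).trans hz')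
      have h1 : (t * a) ∈ 𝔞.comap (X.presheaf.germ V x hxV).hom := (hker _).1 ((mul_smul t a u).trans ht)
      have h2 : X.presheaf.germ V x hxV t * X.presheaf.germ V x hxV a ∈ 𝔞 := by
        rw [← map_mul]; exact h1
      rw [← hc', ← mul_assoc] at h2
      exact (Ideal.unit_mul_mem_iff_mem 𝔞 ((AssSch.Stalk.isUnit_germ_iff hV x hxV t).2 htp)).1
        ((Ideal.mul_unit_mem_iff_mem 𝔞 hs).1 h2)
    · intro hz
      have h1 : a ∈ 𝔞.comap (X.presheaf.germ V x hxV).hom := by
        show X.presheaf.germ V x hxV a ∈ 𝔞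
        rw [← hc']
        exact Ideal.mul_mem_right _ _ hz
      have h2 : (X.presheaf.germ V x hxV a : O) • ū = 0 := by
        refine (germM_smul G V x hxV a u).symm.trans ?_
        rw [(hker a).2 h1]
        exact (G.presheaf.germ V x hxV).hom.map_zero
      rw [← hc', mul_comm, mul_smul] at h2
      exact (IsUnit.smul_eq_zero hs).1 h2
  let S : ShortComplex (ModuleCat.{u} O) :=
    ShortComplex.mk (X₁ := ModuleCat.of O 𝔞) (X₂ := ModuleCat.of O O) (X₃ := (DerSch.stalkFunctor X x).obj G)
      (ModuleCat.ofHom (Submodule.subtype 𝔞)) (ModuleCat.ofHom p)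
      (ModuleCat.hom_ext (LinearMap.ext fun a => LinearMap.mem_ker.1 (hkp.symm.le a.2)))
  have hS : S.ShortExact :=
    { exact := (ShortComplex.moduleCat_exact_iff _).2 fun c hc => ⟨⟨c, hkp.le hc⟩, rfl⟩
      mono_f := (ModuleCat.mono_iff_injective _).2 Subtype.val_injective
      epi_g := (ModuleCat.epi_iff_surjective _).2 hp }
  let Fx := (DerSch.stalkFunctor X x).obj F
  let f' : S.X₁ ⟶ Fx := ModuleCat.ofHom f
  obtain ⟨x₂, hx₂⟩ := Ext.contravariant_sequence_exact₁ hS Fx (Ext.mk₀ f') (rfl : 1 + 0 = 1)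
    (@Subsingleton.elim _ hsub _ _)
  obtain ⟨g, rfl⟩ := (Ext.mk₀_bijective S.X₂ Fx).2 x₂
  rw [Ext.mk₀_comp_mk₀] at hx₂
  have hfg := (Ext.mk₀_bijective S.X₁ Fx).1 hx₂
  exact ⟨g.hom, fun a ha => LinearMap.congr_fun (congrArg ModuleCat.Hom.hom hfg) ⟨a, ha⟩⟩

end Groth.Agent.InjMod
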