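import Groth.Agent.InjMod.SkyCofree
import Groth.Agent.QCoh.Qcqs

/-!
# Pushforward of the hull of the residue field from the local scheme
-/

set_option autoImplicit false

universe u

open CategoryTheory CategoryTheory.Limits AlgebraicGeometry Opposite TopologicalSpace
open Groth.Agent.PullStalk.Sky Groth.Agent.KFlat.StalkTensor

namespace Groth.Agent.InjMod

variable {X : Scheme.{u}} [IsLocallyNoetherian X] (x : X) (E : Type u) [AddCommGroup E]
  [Module (X.presheaf.stalk x) E]

omit [IsLocallyNoetherian X] in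
theorem preimage_fromSpecStalk_eq_top {U : X.Opens} (hx : x ∈ U) :
    X.fromSpecStalk x ⁻¹ᵁ U = ⊤ := by
  refine eq_top_iff.2 fun y _ => ?_
  refine (IsLocalRing.specializes_closedPoint y).mem_open (X.fromSpecStalk x ⁻¹ᵁ U).2 ?_
  show X.fromSpecStalk x (IsLocalRing.closedPoint (X.presheaf.stalk x)) ∈ U
  rwa [Scheme.fromSpecStalk_closedPoint]

theorem isQCoh_push_tilde :
    Coh.IsQCoh ((Scheme.Modules.pushforward (X.fromSpecStalk x)).obj
        (tilde (ModuleCat.of (X.presheaf.stalk x) E))) := by
  have : QuasiCompact (X.fromSpecStalk x) := quasiCompact_of_compactSpace _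
  have : QuasiSeparated (X.fromSpecStalk x) :=
    QuasiSeparated.of_comp (X.fromSpecStalk x) (terminal.from X)
  exact Groth.Agent.QCoh.isQuasicoherent_pushforward _ _

variable (i : IsLocalRing.ResidueField (X.presheaf.stalk x) →ₗ[X.presheaf.stalk x] E)
  (hi : InjHull.IsInjectiveHull i)

include hi in
theorem isIso_skyUnit_local :
    IsIso (skyUnit (X := Spec (X.presheaf.stalk x)) (tilde (ModuleCat.of (X.presheaf.stalk x) E))
      (IsLocalRing.closedPoint (X.presheaf.stalk x))) := by
  refine isIso_skyUnit_tilde (ModuleCat.of (X.presheaf.stalk x) E) _ (fun f hf => ?_) (fun f hf e => ?_)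
  · exact hull_smul_bijective (IsLocalRing.maximalIdeal (X.presheaf.stalk x)) i hi hf
  · exact hull_torsion (IsLocalRing.maximalIdeal (X.presheaf.stalk x)) i hi hf e

include hi in
theorem nonempty_push_tilde_iso_sky :
    Nonempty ((Scheme.Modules.pushforward (X.fromSpecStalk x)).obj
        (tilde (ModuleCat.of (X.presheaf.stalk x) E)) ≅ sky x E) := by
  let M := ModuleCat.of (X.presheaf.stalk x) E
  let ι := X.fromSpecStalk x
  let F := (Scheme.Modules.pushforward ι).obj (tilde M)
  let c := IsLocalRing.closedPoint (X.presheaf.stalk x)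
  have hloc := fun U => (skyUnit_app_bijective_iff (X := Spec (X.presheaf.stalk x)) (tilde M) c U).1
    (skyUnit_bijective_of_isIso (X := Spec (X.presheaf.stalk x)) (tilde M) c (isIso_skyUnit_local x E i hi) U)
  have hres : ∀ {U V : X.Opens} (h : V ≤ U), x ∈ V →
      Function.Bijective (F.presheaf.map (homOfLE h).op) := by
    intro U V h hx
    have he : ι ⁻¹ᵁ V = ι ⁻¹ᵁ U := by
      rw [preimage_fromSpecStalk_eq_top x hx, preimage_fromSpecStalk_eq_top x (h hx)]
    show Function.Bijective ((tilde M).presheaf.map (homOfLE (ι.preimage_mono h)).op)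
    have : IsIso (homOfLE (ι.preimage_mono h)) := ⟨eqToHom he.symm, rfl, rfl⟩
    exact (ConcreteCategory.isIso_iff_bijective _).1 inferInstance
  have hgerm : ∀ (U : X.Opens) (hx : x ∈ U), Function.Bijective (germM F U x hx) := by
    intro U hx
    refine ⟨fun a b e => ?_, fun t => ?_⟩
    · obtain ⟨W, hW, i₁, i₂, e'⟩ := F.presheaf.germ_eq x hx hx _ _ e
      exact (hres i₁.le hW).1 e'
    · obtain ⟨W, hW, s, rfl⟩ := exists_germM_eq F x t
      have hW' : x ∈ W ⊓ U := ⟨hW, hx⟩
      obtain ⟨a, ha⟩ := (hres (inf_le_right : W ⊓ U ≤ U) hW').2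
        (F.presheaf.map (homOfLE (inf_le_left : W ⊓ U ≤ W)).op s)
      refine ⟨a, ?_⟩
      refine (F.presheaf.germ_res_apply (homOfLE (inf_le_right : W ⊓ U ≤ U)) x hW' a).symm.trans ?_
      exact (congrArg (F.presheaf.germ (W ⊓ U) x hW') ha).trans (F.presheaf.germ_res_apply _ x hW' s)
  have hiso : IsIso (skyUnit F x) := by
    refine isIso_of_basis _ Set.univ ?_ fun U _ => (skyUnit_app_bijective_iff F x U).2 ⟨hgerm U, fun hx => ?_⟩
    · exact Opens.isBasis_iff_nbhd.2 fun {U y} hy => ⟨U, trivial, hy, le_rfl⟩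
    · refine (hloc (ι ⁻¹ᵁ U)).2 fun h => hx ?_
      have h' : ι c ∈ U := h
      rwa [Scheme.fromSpecStalk_closedPoint] at h'
  have htop : x ∈ (⊤ : X.Opens) := trivial
  let β₀ : E → F.presheaf.stalk x := fun e => germM F ⊤ x htop ((tilde.toOpen M ⊤).hom e)
  have hβ : Function.Bijective β₀ :=
    (hgerm ⊤ htop).comp ((ConcreteCategory.isIso_iff_bijective (tilde.toOpen M ⊤)).1 inferInstance)
  let β : E →ₗ[X.presheaf.stalk x] F.presheaf.stalk x :=
    { toFun := β₀
      map_add' := fun a b => by
        show germM F ⊤ x htop ((tilde.toOpen M ⊤).hom (a + b)) = _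
        rw [map_add]
        exact map_add (F.presheaf.germ ⊤ x htop).hom _ _
      map_smul' := fun r e => by
        obtain ⟨V, hxV, a, rfl⟩ := X.presheaf.exists_germ_eq (x := x) r
        show germM F ⊤ x htop ((tilde.toOpen M ⊤).hom (X.presheaf.germ V x hxV a • e)) =
          X.presheaf.germ V x hxV a • germM F ⊤ x htop ((tilde.toOpen M ⊤).hom e)
        refine (F.presheaf.germ_res_apply (homOfLE (le_top : V ≤ ⊤)) x hxV _).symm.trans ?_
        refine Eq.trans ?_ (congrArg (X.presheaf.germ V x hxV a • ·)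
          (F.presheaf.germ_res_apply (homOfLE (le_top : V ≤ ⊤)) x hxV _))
        refine Eq.trans ?_ (germM_smul F V x hxV a _)
        refine congrArg (F.presheaf.germ V x hxV) ?_
        have key : ∀ z : Γ(tilde M, ⊤),
            (tilde M).presheaf.map (homOfLE (le_top : ι ⁻¹ᵁ V ≤ ⊤)).op ((show (X.presheaf.stalk x) from X.presheaf.germ V x hxV a) • z) =
              ι.app V a • (tilde M).presheaf.map (homOfLE (le_top : ι ⁻¹ᵁ V ≤ ⊤)).op z := by
          intro z
          rw [Scheme.Modules.map_smul_Spec, Scheme.Modules.smul_Spec_def, Scheme.fromSpecStalk_app hxV]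
          rfl
        refine Eq.trans ?_ (key ((tilde.toOpen M ⊤).hom e))
        exact congrArg ((tilde M).presheaf.map (homOfLE (le_top : ι ⁻¹ᵁ V ≤ ⊤)).op)
          (map_smul (tilde.toOpen M ⊤).hom _ _) }
  exact ⟨asIso (skyUnit F x) ≪≫ (skyF x).mapIso
    (X := ModuleCat.of (X.presheaf.stalk x) (F.presheaf.stalk x)) (Y := ModuleCat.of (X.presheaf.stalk x) E)
    (LinearEquiv.ofBijective β hβ).symm.toModuleIso⟩

include hi in
theorem injective_push_tilde :
    Injective ((Scheme.Modules.pushforward (X.fromSpecStalk x)).obj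
        (tilde (ModuleCat.of (X.presheaf.stalk x) E))) :=
  Injective.of_iso (nonempty_push_tilde_iso_sky x E i hi).some.symm
    (injective_sky x E hi.isInjective)

include hi in
theorem isQCoh_sky : Coh.IsQCoh (sky x E) :=
  (SheafOfModules.isQuasicoherent X.ringCatSheaf).prop_of_iso
    (nonempty_push_tilde_iso_sky x E i hi).some (isQCoh_push_tilde x E)

end Groth.Agent.InjMod
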