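import Groth.Agent.InjMod.QCohInj

/-!
# Injective hulls of quasi-coherent modules are quasi-coherent
-/

set_option autoImplicit false

universe u

open CategoryTheory CategoryTheory.Limits AlgebraicGeometry

namespace Groth.Agent.InjMod

variable {X : Scheme.{u}}

/-- On a locally noetherian scheme a quasi-coherent module embeds into a quasi-coherent injective. -/
theorem exists_mono_qcoh_injective_loc [IsLocallyNoetherian X] (G : X.Modules) [G.IsQuasicoherent] :
    ∃ (H : X.Modules) (j : G ⟶ H), Mono j ∧ Injective H ∧ Coh.IsQCoh H := by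
  obtain ⟨H, l, hl, hH, j, hjl, hess⟩ := exists_hull.{u} (Injective.ι G)
  have : Mono j := mono_of_mono_fac hjl
  obtain ⟨ι, K, hK, hK0, hKind, ⟨e⟩⟩ := exists_decomposition H hH
  have hq : ∀ k, Coh.IsQCoh (K k) := by
    intro k
    have : IsSplitMono (Sigma.ι K k) := by
      classical
      exact IsSplitMono.mk' ⟨Sigma.desc fun l => if hl : l = k then eqToHom (congrArg K hl) else 0, by simp⟩
    by_contra hn
    refine hK0 k (hess (Sigma.ι K k ≫ e.inv) inferInstance fun W w y hw => ?_)
    by_contra hw0
    exact hn (isQCoh_of_meets (hK k) (hKind k) (Sigma.ι K k ≫ e.inv) j w y hw0 hw)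
  exact ⟨H, j, inferInstance, hH, (SheafOfModules.isQuasicoherent X.ringCatSheaf).prop_of_iso e.symm
    (@QCoh.isQuasicoherent_coproduct _ _ K hq)⟩

end Groth.Agent.InjMod
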