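import Groth.Agent.InjMod.ExtSections
import Groth.Agent.CohDev.Coh
import Groth.Agent.ExtSuppLib.Flasque
import Groth.Agent.InjMod.Hom
import Groth.Agent.S0030
import Groth.Agent.S0036
import Groth.Agent.S10943
import Groth.Agent.InjMod.DimShift

/-!
# Coherence of relative Ext sheaves for proper morphisms

Dimension shifting along embeddings into quasi-coherent injectives.
-/

set_option autoImplicit false
set_option maxHeartbeats 1600000

universe u

open CategoryTheory CategoryTheory.Limits AlgebraicGeometry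

noncomputable section

namespace Groth.Agent.InjMod

variable {X Y : Scheme.{u}}

/-- An extension of a coherent module by a coherent one, in the middle of an exact sequence. -/
theorem isCoh_of_exact [IsLocallyNoetherian X] {S : ShortComplex X.Modules} (hS : S.Exact)
    (h₁ : Coh.IsCoh S.X₁) (h₂ : Coh.IsQCoh S.X₂) (h₃ : Coh.IsCoh S.X₃) : Coh.IsCoh S.X₂ := by
  have : Epi (kernel.lift S.g S.f S.zero) := hS.epi_kernelLift
  have hk : Coh.IsCoh (kernel S.g) :=
    CohDev.isCoh_of_epi (kernel.lift S.g S.f S.zero) h₁ (@QCoh.isQuasicoherent_kernel X _ _ S.g h₂ h₃.1)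
  have hc : Coh.IsCoh (Abelian.coimage S.g) :=
    CohDev.isCoh_of_mono (Abelian.factorThruCoimage S.g)
      (@QCoh.isQuasicoherent_cokernel X _ _ (kernel.ι S.g) hk.1 h₂) h₃
  exact CohDev.isCoh_of_shortExact
    (S := ShortComplex.mk (kernel.ι S.g) (cokernel.π (kernel.ι S.g)) (cokernel.condition _))
    { exact := ShortComplex.exact_cokernel _ } hk hc

/-- A cokernel inside a coherent module. -/
theorem isCoh_cokernel_of_exact [IsLocallyNoetherian X] {S : ShortComplex X.Modules} (hS : S.Exact)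
    (h₁ : Coh.IsQCoh S.X₁) (h₂ : Coh.IsQCoh S.X₂) (h₃ : Coh.IsCoh S.X₃) : Coh.IsCoh (cokernel S.f) :=
  have : Mono (cokernel.desc S.f S.g S.zero) := hS.mono_cokernelDesc
  CohDev.isCoh_of_mono (cokernel.desc S.f S.g S.zero) (@QCoh.isQuasicoherent_cokernel X _ _ S.f h₁ h₂) h₃

/-- The cokernel of a composition. -/
theorem isCoh_cokernel_comp [IsLocallyNoetherian X] {A B C : X.Modules} (p : A ⟶ B) (i : B ⟶ C)
    (h₁ : Coh.IsCoh (cokernel p)) (h₂ : Coh.IsQCoh (cokernel (p ≫ i))) (h₃ : Coh.IsCoh (cokernel i)) :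
    Coh.IsCoh (cokernel (p ≫ i)) := by
  let a : cokernel p ⟶ cokernel (p ≫ i) :=
    cokernel.desc p (i ≫ cokernel.π (p ≫ i)) (by rw [← Category.assoc, cokernel.condition])
  let b : cokernel (p ≫ i) ⟶ cokernel i :=
    cokernel.desc (p ≫ i) (cokernel.π i) (by rw [Category.assoc, cokernel.condition, comp_zero])
  have hab : a ≫ b = 0 := (cancel_epi (cokernel.π p)).1 (by simp [a, b])
  let T := ShortComplex.mk a b hab
  have hk : ∀ {W : X.Modules} (k : cokernel (p ≫ i) ⟶ W), a ≫ k = 0 → i ≫ cokernel.π (p ≫ i) ≫ k = 0 :=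
    fun k hk => by
      have := congrArg (cokernel.π p ≫ ·) hk
      simpa [a] using this
  refine isCoh_of_exact (S := T) (ShortComplex.exact_of_g_is_cokernel _ ?_) h₁ h₂ h₃
  exact CokernelCofork.IsColimit.ofπ _ _
    (fun k hk' => cokernel.desc i (cokernel.π (p ≫ i) ≫ k) (hk k hk'))
    (fun k hk' => (cancel_epi (cokernel.π (p ≫ i))).1 (by simp [T, b]))
    (fun k hk' m hm =>
      have hm' : b ≫ m = k := hm
      (cancel_epi (cokernel.π i)).1 (by simp [← hm', b]))

variable (f : X ⟶ Y) (F : X.Modules) [ModSite.HasSheafHom (O := X.sheaf) F]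
  [HasInjectiveResolutions X.Modules]

/-- The relative internal Hom. -/
abbrev relF : X.Modules ⥤ Y.Modules := homF F ⋙ Scheme.Modules.pushforward f

theorem isZero_rpush_homF_injective (J : X.Modules) [hJ : Injective J] (k : ℕ) :
    IsZero ((Coh.Rpush f (k + 1)).obj ((homF F).obj J)) := by
  refine ExtSuppLib.isZero_Rpush_of_isFlasque f _ ?_ k
  exact ModShf.isFlasque_of_surjective (X := X.toTopCat) _ fun i => by
    exact ExtSuppLib.surjective_map_of_extP (@ExtSuppLib.extP_sheafHom _ _ _ X.sheaf F J _ hJ) i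

/-- Hypothesis on the second argument that is stable under dimension shifting. -/
structure RelGood (G : X.Modules) : Prop where
  qcoh : G.IsQuasicoherent
  ext : ∀ q : ℕ, Coh.IsCoh (((homF F).rightDerived (q + 1)).obj G)
  rpush : ∀ i : ℕ, Coh.IsCoh ((Coh.Rpush f (i + 1)).obj ((homF F).obj G))

theorem preservesFiniteLimits_pushforward : PreservesFiniteLimits (Scheme.Modules.pushforward f) :=
  ⟨fun K _ _ => ((Scheme.Modules.pullbackPushforwardAdjunction f).rightAdjoint_preservesLimits.preservesLimitsOfShape :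
    PreservesLimitsOfShape K (Scheme.Modules.pushforward f))⟩

theorem preservesFiniteLimits_homF : PreservesFiniteLimits (homF F) :=
  have : (homF F).IsRightAdjoint := (homAdj F).isRightAdjoint
  inferInstance

theorem preservesFiniteLimits_relF : PreservesFiniteLimits (relF f F) :=
  @comp_preservesFiniteLimits _ _ _ _ _ _ (homF F) (Scheme.Modules.pushforward f)
    (preservesFiniteLimits_homF F) (preservesFiniteLimits_pushforward f)

/-- A quasi-coherent injective embedding whose cokernel is again good. -/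
theorem exists_shift [IsNoetherian X] [IsLocallyNoetherian Y] [IsProper f] (hF : CohB1.IsFP F)
    {G : X.Modules} (hG : RelGood f F G) :
    ∃ S : ShortComplex X.Modules, S.ShortExact ∧ S.X₁ = G ∧ Injective S.X₂ ∧ S.X₂.IsQuasicoherent ∧
      RelGood f F S.X₃ ∧ Coh.IsCoh (cokernel ((Scheme.Modules.pushforward f).map ((homF F).map S.g))) := by
  obtain ⟨J, φ, hφ, hJ, hJq⟩ := @exists_mono_qcoh_injective X _ G hG.qcoh
  have hQq : (cokernel φ).IsQuasicoherent := @QCoh.isQuasicoherent_cokernel X _ _ φ hG.qcoh hJq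
  let S := ShortComplex.mk φ (cokernel.π φ) (cokernel.condition φ)
  have hS : S.ShortExact := { exact := ShortComplex.exact_cokernel φ }
  have hSJ : Injective S.X₂ := hJ
  have := preservesFiniteLimits_homF F
  have := preservesFiniteLimits_pushforward f
  let P := Scheme.Modules.pushforward f
  have hHJ : ∀ k, IsZero (((homF F).rightDerived (k + 1)).obj S.X₂) := fun k =>
    (homF F).isZero_rightDerived_obj_injective_succ k S.X₂
  have hPJ : ∀ k, IsZero ((P.rightDerived (k + 1)).obj ((homF F).obj S.X₂)) :=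
    isZero_rpush_homF_injective f F S.X₂
  obtain ⟨B, ψ, ι, d, w₁, w₂, hψι, hS₁, hS₂⟩ := DimShift.exists_splice (homF F) hS (hHJ 0)
  have hR1 : Coh.IsCoh (((homF F).rightDerived 1).obj S.X₁) := hG.ext 0
  have hHQq : Coh.IsQCoh ((homF F).obj S.X₃) := @isQuasicoherent_homF X F _ S.X₃ hF hQq
  have hHJq : Coh.IsQCoh ((homF F).obj S.X₂) := @isQuasicoherent_homF X F _ S.X₂ hF hJq
  have hBq : Coh.IsQCoh B := by
    have := hS₂.mono_f
    exact @QCoh.isQuasicoherent_of_iso X _ _
      ((kernelIsKernel d).conePointUniqueUpToIso hS₂.fIsKernel)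
      (@QCoh.isQuasicoherent_kernel X _ _ d hHQq hR1.1)
  have hPq : ∀ M : X.Modules, Coh.IsQCoh M → Coh.IsQCoh (P.obj M) := fun M hM =>
    @QCoh.isQuasicoherent_pushforward X Y f _ _ M hM
  refine ⟨S, hS, rfl, hJ, hJq, ⟨hQq, fun q => ?_, fun i => ?_⟩, ?_⟩
  · obtain ⟨e⟩ := DimShift.nonempty_iso (homF F) hS q (hHJ q) (hHJ (q + 1))
    exact CohDev.isCoh_of_iso e.symm (hG.ext (q + 1))
  · obtain ⟨e⟩ := DimShift.nonempty_iso P hS₁ i (hPJ i) (hPJ (i + 1))
    have hB : Coh.IsCoh ((P.rightDerived (i + 1)).obj B) := CohDev.isCoh_of_iso e.symm (hG.rpush (i + 1))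
    exact isCoh_of_exact ((RDerLES.derivedLES P).exact₂ _ hS₂ (i + 1)) hB
      (@S0030.result X Y f _ _ _ ((homF F).obj S.X₃) hHQq (i + 1)) (S0036.result f _ hR1 (i + 1))
  · rw [← hψι, P.map_comp]
    refine isCoh_cokernel_comp (P.map ψ) (P.map ι) ?_ ?_ ?_
    · obtain ⟨d₁, w, he, -⟩ := DimShift.exists_δ₀ P hS₁
      exact isCoh_cokernel_of_exact he (hPq _ hHJq) (hPq _ hBq) (hG.rpush 0)
    · exact @QCoh.isQuasicoherent_cokernel Y _ _ _ (hPq _ hHJq) (hPq _ hHQq)
    · have := hS₂.mono_f
      exact isCoh_cokernel_of_exact (hS₂.exact.map_of_mono_of_preservesKernel P this inferInstance)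
        (hPq _ hBq) (hPq _ hHQq) (CohDev.isCoh_of_iso (P.rightDerivedZeroIsoSelf.app _) (S0036.result f _ hR1 0))

theorem isCoh_relExt_aux [IsNoetherian X] [IsLocallyNoetherian Y] [IsProper f] [(relF f F).Additive]
    (hF : CohB1.IsFP F) :
    ∀ (p : ℕ) (G : X.Modules), RelGood f F G → Coh.IsCoh (((relF f F).rightDerived (p + 1)).obj G) := by
  intro p
  induction p with
  | zero =>
    intro G hG
    obtain ⟨S, hS, rfl, hJ, -, -, hc⟩ := exists_shift f F hF hG
    have := preservesFiniteLimits_relF f F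
    have := hJ
    obtain ⟨e⟩ := DimShift.nonempty_cokernel_iso (relF f F) hS
      ((relF f F).isZero_rightDerived_obj_injective_succ 0 S.X₂)
    exact CohDev.isCoh_of_iso e hc
  | succ p ih =>
    intro G hG
    obtain ⟨S, hS, rfl, hJ, -, hQ, -⟩ := exists_shift f F hF hG
    have := hJ
    obtain ⟨e⟩ := DimShift.nonempty_iso (relF f F) hS p
      ((relF f F).isZero_rightDerived_obj_injective_succ p S.X₂)
      ((relF f F).isZero_rightDerived_obj_injective_succ (p + 1) S.X₂)
    exact CohDev.isCoh_of_iso e (ih S.X₃ hQ)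

/-- Relative Ext sheaves of coherent modules under a proper morphism are coherent. -/
theorem isCoh_relExt [IsNoetherian X] [IsLocallyNoetherian Y] [IsProper f] [(relF f F).Additive]
    (hF : Coh.IsCoh F) (G : X.Modules) (hG : Coh.IsCoh G) (p : ℕ) :
    Coh.IsCoh (((relF f F).rightDerived p).obj G) := by
  have : HasInjectiveResolutions (ModSite.Mod X.sheaf) := ‹HasInjectiveResolutions X.Modules›
  have h0 : Coh.IsCoh ((homF F).obj G) :=
    CohDev.isCoh_of_iso ((homFZero F).app G) (S10943.result X F G hF hG 0)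
  rcases p with - | p
  · let P := Scheme.Modules.pushforward f
    have : PreservesFiniteLimits P := preservesFiniteLimits_pushforward f
    have := preservesFiniteLimits_relF f F
    exact CohDev.isCoh_of_iso (P.rightDerivedZeroIsoSelf.app _ ≪≫ ((relF f F).rightDerivedZeroIsoSelf.app G).symm)
      (S0036.result f _ h0 0)
  · exact isCoh_relExt_aux f F (HomShEval.QCoh.isFP_of_isCoh F hF) p G
      ⟨hG.1, fun q => S10943.result X F G hF hG (q + 1), fun i => S0036.result f _ h0 (i + 1)⟩

end Groth.Agent.InjMod
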