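import Groth.Agent.InjMod.RelExtCoh
import Groth.Agent.InjMod.ProjFramed
import Groth.Agent.InjMod.HomComp
import Groth.Agent.ProjMor.QProj
import Groth.Agent.AmpCrit.RelVan

/-!
# Twists of relative Ext sheaves and their higher direct images
-/

set_option autoImplicit false
set_option maxHeartbeats 1600000

universe u

open CategoryTheory CategoryTheory.Limits AlgebraicGeometry

noncomputable section

namespace Groth.Agent.InjMod

variable {X Y : Scheme.{u}} (f : X ⟶ Y) (F : X.Modules) [ModSite.HasSheafHom (O := X.sheaf) F]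
  [HasInjectiveResolutions X.Modules]

/-- Relative Ext sheaves commute with twisting by a locally free module from the base. -/
theorem nonempty_relExt_tensor [(relF f F).Additive] {N : Y.Modules} (hN' : HasFrames N)
    (G : X.Modules) (p : ℕ) :
    Nonempty (((relF f F).rightDerived p).obj (CohB1.tensorMod G ((Scheme.Modules.pullback f).obj N)) ≅
      CohB1.tensorMod (((relF f F).rightDerived p).obj G) N) := by
  let P := (Scheme.Modules.pullback f).obj N
  have hP : HasFrames P := fun x => by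
    obtain ⟨U, n, e, hx, he⟩ := hN' (f x)
    exact ⟨f ⁻¹ᵁ U, n, _, hx, he.pullback f⟩
  have hSN : ModSite.HasSheafHom (O := Y.sheaf) N := KFlat.hasSheafHom Y.sheaf N
  have hSN' : ModSite.HasSheafHom (O := Y.sheaf) (dualMod N) := KFlat.hasSheafHom Y.sheaf _
  obtain ⟨iN⟩ := nonempty_doubleDualIso (E := N) hN'
  obtain ⟨aN, lN, rN⟩ := preservesFiniteColimits_homF (E := dualMod N) (hasFrames_dual hN')
  have : (ChgRings.tensR N).Additive := KFlat.additive_tensorBi_flip N
  have : PreservesFiniteLimits (ChgRings.tensR N) := preservesFiniteLimits_of_natIso iN.symm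
  have : PreservesFiniteColimits (ChgRings.tensR N) := preservesFiniteColimits_of_natIso iN.symm
  have hSP : ModSite.HasSheafHom (O := X.sheaf) P := KFlat.hasSheafHom X.sheaf P
  have hSP' : ModSite.HasSheafHom (O := X.sheaf) (dualMod P) := KFlat.hasSheafHom X.sheaf _
  obtain ⟨iP⟩ := nonempty_doubleDualIso (E := P) hP
  obtain ⟨aP, lP, rP⟩ := preservesFiniteColimits_homF (E := dualMod P) (hasFrames_dual hP)
  have : (ChgRings.tensR P).Additive := KFlat.additive_tensorBi_flip P
  have : PreservesFiniteLimits (ChgRings.tensR P) := preservesFiniteLimits_of_natIso iP.symm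
  have : PreservesFiniteColimits (ChgRings.tensR P) := preservesFiniteColimits_of_natIso iP.symm
  have : (ChgRings.tensR P).PreservesInjectiveObjects :=
    ⟨fun {Q} _ => Injective.of_iso (iP.app Q).symm (injective_homF (hasFrames_dual hP) Q)⟩
  let e₂ : ChgRings.tensR P ⋙ relF f F ≅ relF f F ⋙ ChgRings.tensR N :=
    Functor.isoWhiskerRight iP (relF f F) ≪≫ (Functor.associator _ _ _).symm ≪≫
      Functor.isoWhiskerRight (homSwapIso F (dualMod P)) _ ≪≫
      Functor.associator _ _ _ ≪≫
      Functor.isoWhiskerLeft (homF F) (Functor.isoWhiskerRight iP.symm _ ≪≫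
        (projFramedIso f hN').symm) ≪≫ (Functor.associator _ _ _).symm
  exact ⟨(DerFun.rightDerivedCompIso (ChgRings.tensR P) (relF f F) p G).symm ≪≫
    (ExtSuppLib.rightDerivedMapIso e₂ p).app _ ≪≫
    (ModShf.rightDerivedCompIso (relF f F) (ChgRings.tensR N) p).app G⟩

theorem isZero_rpush_relF_injective {Z : Scheme.{u}} (g : Y ⟶ Z) [HasInjectiveResolutions Y.Modules]
    (J : X.Modules) [hJ : Injective J] (k : ℕ) :
    IsZero ((Coh.Rpush g (k + 1)).obj ((relF f F).obj J)) := by
  refine ExtSuppLib.isZero_Rpush_of_isFlasque g _ ?_ k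
  have h : TopCat.Sheaf.IsFlasque (X := X.toTopCat) (Coh.toAb ((homF F).obj J)) :=
    ModShf.isFlasque_of_surjective (X := X.toTopCat) _ fun i => by
      exact ExtSuppLib.surjective_map_of_extP (@ExtSuppLib.extP_sheafHom _ _ _ X.sheaf F J _ hJ) i
  have : TopCat.Presheaf.IsFlasque (X := X.toTopCat) (Coh.toAb ((homF F).obj J)).obj := h
  exact TopCat.Presheaf.IsFlasque.pushforward_isFlasque (X := X.toTopCat)
    (Coh.toAb ((homF F).obj J)).obj f.base

theorem isInvertible_twist {m : ℕ} {S T : Scheme.{u}} (e : T ⟶ CohB1.ProjSpaceOver m S) (d : ℤ) :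
    PicF.IsInvertible ((Scheme.Modules.pullback e).obj (Twist.twistOver m S d)) :=
  PicCl.isInvertible_pullback e (PicCl.isInvertible_pullback _
    (Groth.Agent.ProjTwist.isInvertible_twistProjSpace m (ULift.{u} ℤ) d))

/-- Relative Serre vanishing for the twists of a closed subscheme of projective space. -/
theorem exists_twist_bound [HasInjectiveResolutions Y.Modules] {Z : Scheme.{u}} [IsNoetherian Z] {m : ℕ}
    (g : Y ⟶ Z) (e' : Y ⟶ CohB1.ProjSpaceOver m Z) [IsClosedImmersion e']
    (he' : e' ≫ CohB1.ProjSpaceOver.toBase m Z = g) {M : Y.Modules} (hM : Coh.IsCoh M) :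
    ∃ l₀ : ℕ, ∀ l : ℕ, l₀ ≤ l → ∀ a : ℕ, IsZero ((Coh.Rpush g (a + 1)).obj
      (CohB1.tensorMod M ((Scheme.Modules.pullback e').obj (Twist.twistOver m Z (l : ℤ))))) := by
  have := Groth.Agent.ProjProper.Basic.isProper_toBase m Z
  have : IsProper g := he' ▸ inferInstance
  obtain ⟨-, hL', hV⟩ := AmpleLib.isRelAmple_iff.mp (ProjMor.isRelAmple_twistOver m Z)
  let L := (Scheme.Modules.pullback e').obj (Twist.twistOver m Z 1)
  have hamp : RelAmple.IsRelAmple g L := by
    subst he'
    refine AmpleLib.isRelAmple_iff.mpr ⟨inferInstance, PicCl.isInvertible_pullback e' hL', fun V ↦ ?_⟩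
    exact AmpleLib.ampleOn_pullback_of_isInducing hL' e' le_rfl (hV V)
      ((e' ≫ CohB1.ProjSpaceOver.toBase m Z).isCompact_preimage V.2.isCompact) e'.isEmbedding.isInducing
  obtain ⟨n₀, hn₀⟩ := AmpCrit.RelVan.exists_bound g (L := L) (isInvertible_twist e' 1)
    (fun W hW => hamp.2 ⟨W, hW⟩) hM
  refine ⟨n₀, fun l hl a => (hn₀ l hl a).of_iso ((Coh.Rpush g (a + 1)).mapIso ?_)⟩
  let fstZ := pullback.fst (CohB1.ProjSpace.toSpec m (ULift.{u} ℤ)) (specULiftZIsTerminal.from Z)
  let cmp := fun d : ℤ => (Scheme.Modules.pullbackComp e' fstZ).app (Twist.twistProjSpace m (ULift.{u} ℤ) d)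
  exact ProjTwist.tensCongr (Iso.refl M) (cmp (l : ℤ) ≪≫
    (AmpCrit.SerreVan.nonempty_pullback_twist (e' ≫ fstZ) l).some ≪≫ AmpleLib.tensorPowIso (cmp 1).symm l)

end Groth.Agent.InjMod
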