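import Groth.Agent.InjMod.Gen
import Groth.Agent.InjHull.Prime
import Groth.Agent.InjHull.Noetherian

/-!
# Skyscrapers: injectivity, and tilde of prime hulls
-/

set_option autoImplicit false

universe u

open CategoryTheory CategoryTheory.Limits AlgebraicGeometry Opposite TopologicalSpace
open Groth.Agent.PullStalk.Sky Groth.Agent.KFlat.StalkTensor

namespace Groth.Agent.InjMod

section general

variable {X : Scheme.{u}}

/-- Skyscrapers of injective modules are injective. -/
theorem injective_sky (x : X) (N : Type u) [AddCommGroup N] [Module (X.presheaf.stalk x) N]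
    (hN : Module.Injective (X.presheaf.stalk x) N) : Injective (sky x N : X.Modules) :=
  have := Module.injective_object_of_injective_module (X.presheaf.stalk x) N
  Injective.injective_of_adjoint (stalkSkyAdj x) (ModuleCat.of (X.presheaf.stalk x) N)

variable (F : X.Modules) (x : X)

/-- The unit into the skyscraper of the stalk. -/
noncomputable def skyUnit : F ⟶ sky x (F.presheaf.stalk x) :=
  toSky LinearMap.id

theorem skyUnit_app_bijective_iff (U : X.Opens) :
    Function.Bijective ((skyUnit F x).app U) ↔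
      (∀ hx : x ∈ U, Function.Bijective (germM F U x hx)) ∧ (x ∉ U → Subsingleton Γ(F, U)) := by
  constructor
  · intro h
    refine ⟨fun hx => ⟨fun a b e => h.1 ?_, fun t => ?_⟩, fun hx => ?_⟩
    · refine funext fun p => ?_
      exact (toSky_app (M := F) LinearMap.id U a p).trans (e.trans (toSky_app (M := F) LinearMap.id U b p).symm)
    · obtain ⟨a, ha⟩ := h.2 (fun _ : PLift (x ∈ U) => t)
      exact ⟨a, (toSky_app (M := F) LinearMap.id U a ⟨hx⟩).symm.trans (congrFun ha ⟨hx⟩)⟩
    · exact ⟨fun a b => h.1 (funext fun p => absurd p.down hx)⟩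
  · rintro ⟨h1, h2⟩
    refine ⟨fun a b e => ?_, fun g => ?_⟩
    · by_cases hx : x ∈ U
      · exact (h1 hx).1 ((toSky_app (M := F) LinearMap.id U a ⟨hx⟩).symm.trans
          ((congrFun e ⟨hx⟩).trans (toSky_app (M := F) LinearMap.id U b ⟨hx⟩)))
      · exact (h2 hx).elim a b
    · by_cases hx : x ∈ U
      · obtain ⟨a, ha⟩ := (h1 hx).2 ((show PLift (x ∈ U) → F.presheaf.stalk x from g) ⟨hx⟩)
        exact ⟨a, funext fun p => (toSky_app (M := F) LinearMap.id U a p).trans ha⟩
      · exact ⟨0, funext fun p => absurd p.down hx⟩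

/-- A morphism bijective on the members of a basis is an isomorphism. -/
theorem isIso_of_basis {M N : X.Modules} (φ : M ⟶ N) (B : Set X.Opens) (hB : Opens.IsBasis B)
    (h : ∀ W ∈ B, Function.Bijective (φ.app W)) : IsIso φ := by
  have hBm : ∀ (y : X) (U : X.Opens), y ∈ U → ∃ W ∈ B, y ∈ W ∧ W ≤ U := fun y U hy => by
    obtain ⟨W, hW, hyW, hWU⟩ := Opens.isBasis_iff_nbhd.1 hB hy
    exact ⟨W, hW, hyW, hWU⟩
  refine KFlat.PullTensor.isIso_of_stalk_bijective φ fun y => ⟨?_, fun t => ?_⟩
  · rw [injective_iff_map_eq_zero]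
    intro t ht
    obtain ⟨U, hy, m, rfl⟩ := exists_germM_eq M y t
    have ht' : N.presheaf.germ U y hy (φ.app U m) = N.presheaf.germ U y hy 0 :=
      ((DerSch.stalkFunctor_map_germ y φ U hy m).symm.trans ht).trans
        (map_zero (N.presheaf.germ U y hy).hom).symm
    obtain ⟨V, hyV, i₁, i₂, e⟩ := N.presheaf.germ_eq y hy hy _ _ ht'
    obtain ⟨W, hW, hyW, hWV⟩ := hBm y V hyV
    refine (M.presheaf.germ_res_apply (homOfLE (hWV.trans i₁.le)) y hyW m).symm.trans ?_
    suffices h0 : M.presheaf.map (homOfLE (hWV.trans i₁.le)).op m = 0 from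
      (congrArg (M.presheaf.germ W y hyW) h0).trans (map_zero (M.presheaf.germ W y hyW).hom)
    refine (h W hW).1 ?_
    rw [map_zero]
    refine (NatTrans.naturality_apply φ.mapPresheaf (homOfLE (hWV.trans i₁.le)).op m).trans ?_
    show N.presheaf.map (homOfLE (hWV.trans i₁.le)).op (φ.app U m) = 0
    have e' := congrArg (N.presheaf.map (homOfLE hWV).op) e
    rw [map_zero, map_zero] at e'
    exact (ConcreteCategory.congr_hom (N.presheaf.map_comp i₁.op (homOfLE hWV).op) _).trans e'
  · obtain ⟨U, hy, n, rfl⟩ := exists_germM_eq N y t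
    obtain ⟨W, hW, hyW, hWU⟩ := hBm y U hy
    obtain ⟨m, hm⟩ := (h W hW).2 (N.presheaf.map (homOfLE hWU).op n)
    exact ⟨germM M W y hyW m, (DerSch.stalkFunctor_map_germ y φ W hyW m).trans
      ((congrArg (N.presheaf.germ W y hyW) hm).trans (N.presheaf.germ_res_apply _ y hyW n))⟩

end general

section hull

variable {R : Type u} [CommRing R] [IsNoetherianRing R] {E : Type u} [AddCommGroup E] [Module R E]
  (p : Ideal R) [p.IsPrime] (g : (R ⧸ p) →ₗ[R] E) (hg : _root_.InjHull.IsInjectiveHull g)

include hg in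
/-- Elements of the prime are locally nilpotent on the hull. -/
theorem hull_torsion {s : R} (hs : s ∈ p) (x : E) : ∃ n : ℕ, s ^ n • x = 0 := by
  let J : Ideal R := Ideal.span {s}
  obtain ⟨C, hC⟩ := InjHull.Basic.exists_isCompl_of_injective _
    (InjHull.Noetherian.injective_gam hg.isInjective J)
  have hsub : LinearMap.range g ≤ InjHull.Noetherian.Gam J E := by
    rintro _ ⟨a, rfl⟩
    refine InjHull.Noetherian.mem_gam.mpr ⟨1, fun b hb => ?_⟩
    rw [pow_one, Ideal.mem_span_singleton'] at hb
    obtain ⟨c, rfl⟩ := hb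
    rw [← map_smul, mul_smul, (InjHull.Prime.smul_eq_zero_of_prime p).mpr (Or.inl hs), smul_zero, map_zero]
  have hC0 : C = ⊥ := by
    by_contra hne
    exact hg.essential C hne (le_bot_iff.mp ((inf_le_inf_left C hsub).trans
      (le_of_eq (by rw [inf_comm]; exact hC.inf_eq_bot))))
  have hx : x ∈ InjHull.Noetherian.Gam J E := by
    have h' := hC.sup_eq_top
    rw [hC0, sup_bot_eq] at h'
    rw [h']; trivial
  obtain ⟨n, hn⟩ := InjHull.Noetherian.mem_gam.mp hx
  exact ⟨n, hn (s ^ n) (Ideal.pow_mem_pow (Ideal.mem_span_singleton_self s) n)⟩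

omit [IsNoetherianRing R] in
include hg in
/-- Elements outside the prime act bijectively on the hull. -/
theorem hull_smul_bijective {s : R} (hs : s ∉ p) : Function.Bijective fun x : E => s • x := by
  let μ : E →ₗ[R] E := s • LinearMap.id
  have hinj : Function.Injective μ := by
    rw [injective_iff_map_eq_zero]
    intro x hx
    by_contra hx0
    obtain ⟨r, m, hm, hr0⟩ := InjHull.Basic.exists_smul_mem_range hg.toIsEssentialInj hx0
    have : g (s • m) = 0 := by
      rw [map_smul, hm, smul_comm, show s • x = 0 from hx, smul_zero]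
    rcases (InjHull.Prime.smul_eq_zero_of_prime p).1 (hg.injective (this.trans (map_zero g).symm)) with h | h
    · exact hs h
    · exact hr0 (by rw [← hm, h, map_zero])
  refine ⟨hinj, ?_⟩
  obtain ⟨C, hC⟩ := InjHull.Basic.exists_isCompl_of_injective (LinearMap.range μ)
    (InjHull.Basic.injective_of_equiv hg.isInjective (LinearEquiv.ofInjective μ hinj))
  have hind := InjHull.Prime.indecomposable_of_quotient_prime hg.toIsEssentialInj
  rcases hind.2 _ _ hC with h | h
  · have := hind.1
    obtain ⟨x, hx⟩ := exists_ne (0 : E)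
    have h1 : μ x ∈ LinearMap.range μ := ⟨x, rfl⟩
    rw [h, Submodule.mem_bot] at h1
    exact absurd (hinj (h1.trans (map_zero μ).symm)) hx
  · have h' := hC.sup_eq_top
    rw [h, sup_bot_eq] at h'
    exact fun y => by
      obtain ⟨x, hx⟩ := LinearMap.range_eq_top.mp h' y
      exact ⟨x, hx⟩

end hull

section spec

variable {R : CommRingCat.{u}} (M : ModuleCat.{u} R) (p : PrimeSpectrum R)

theorem localized_bijective {A : Type u} [CommRing A] {N N' : Type u} [AddCommGroup N] [Module A N]
    [AddCommGroup N'] [Module A N'] (S : Submonoid A) (f : N →ₗ[A] N') [IsLocalizedModule S f]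
    (hS : ∀ s ∈ S, Function.Bijective fun e : N => s • e) : Function.Bijective f := by
  refine ⟨(injective_iff_map_eq_zero f).2 fun e he => ?_, fun z => ?_⟩
  · obtain ⟨c, hc⟩ := (IsLocalizedModule.eq_zero_iff S f).1 he
    exact (hS c.1 c.2).1 (hc.trans (smul_zero _).symm)
  · obtain ⟨⟨e, c⟩, hc⟩ := IsLocalizedModule.surj S f z
    obtain ⟨e', rfl⟩ := (hS c.1 c.2).2 e
    refine ⟨e', ((Module.End.isUnit_iff _).1 (IsLocalizedModule.map_units f c)).1 ?_⟩
    show c.1 • f e' = c.1 • z
    exact (map_smul f _ _).symm.trans hc.symm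

theorem toStalk_eq (U : (Spec R).Opens) (hp : p ∈ U) (e : M) :
    germM (tilde M) U p hp ((tilde.toOpen M U).hom e) = (tilde.toStalk M p).hom e := by
  rw [← tilde.toOpen_res M ⊤ U (homOfLE le_top)]
  exact ((tilde M).presheaf.germ_res_apply _ p hp _)

/-- If functions outside `p` act bijectively and those in `p` locally nilpotently, tilde is a skyscraper. -/
theorem isIso_skyUnit_tilde (hu : ∀ f : R, f ∉ p.asIdeal → Function.Bijective fun e : M => f • e)
    (hn : ∀ f : R, f ∈ p.asIdeal → ∀ e : M, ∃ n : ℕ, f ^ n • e = 0) :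
    IsIso (skyUnit (tilde M) p) := by
  refine isIso_of_basis _ (Set.range (PrimeSpectrum.basicOpen (R := R)))
    PrimeSpectrum.isBasis_basic_opens ?_
  rintro _ ⟨f, rfl⟩
  refine (skyUnit_app_bijective_iff _ _ _).2 ⟨fun hf => ?_, fun hf => ⟨fun z z' => ?_⟩⟩
  · have h1 : Function.Bijective (tilde.toOpen M (PrimeSpectrum.basicOpen f)).hom := by
      refine localized_bijective (.powers f) _ ?_
      rintro _ ⟨n, rfl⟩
      exact hu _ fun h => hf (p.2.mem_of_pow_mem n h)
    have h2 : Function.Bijective (tilde.toStalk M p).hom :=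
      localized_bijective p.asIdeal.primeCompl _ fun s hs => hu s hs
    refine (Function.Bijective.of_comp_iff _ h1).1 ?_
    convert h2 using 1
    exact funext fun e => toStalk_eq M p _ hf e
  · suffices h0 : ∀ z : (modulesSpecToSheaf.obj (tilde M)).presheaf.obj (op (PrimeSpectrum.basicOpen f)),
        z = 0 from (h0 z).trans (h0 z').symm
    intro z
    have hf' : f ∈ p.asIdeal := by
      by_contra h
      exact hf h
    obtain ⟨⟨e, ⟨_, n, rfl⟩⟩, hz⟩ := IsLocalizedModule.surj (.powers f)
      (tilde.toOpen M (PrimeSpectrum.basicOpen f)).hom z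
    obtain ⟨m, hm⟩ := hn f hf' e
    have he : (tilde.toOpen M (PrimeSpectrum.basicOpen f)).hom e = 0 :=
      (IsLocalizedModule.eq_zero_iff (.powers f) _).2 ⟨⟨_, m, rfl⟩, hm⟩
    have hz' := hz.trans he
    exact ((Module.End.isUnit_iff _).1 (IsLocalizedModule.map_units
      (tilde.toOpen M (PrimeSpectrum.basicOpen f)).hom
        (⟨_, n, rfl⟩ : Submonoid.powers f))).1 (hz'.trans (map_zero _).symm)

theorem skyUnit_bijective_of_isIso {X : Scheme.{u}} (F : X.Modules) (x : X)
    (h : IsIso (skyUnit F x)) (U : X.Opens) : Function.Bijective ((skyUnit F x).app U) :=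
  (ConcreteCategory.isIso_iff_bijective _).1 (Scheme.Modules.Hom.isIso_iff_isIso_app.1 h U)

end spec

end Groth.Agent.InjMod
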