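import Mathlib

/-!
# Uniform stabilisation of an ascending family of ideals over a noetherian space
-/

set_option autoImplicit false

open TopologicalSpace

namespace Groth.Agent.InjMod

/-- A monotone sequence of families of ideals, each semicontinuous, stabilises uniformly. -/
theorem exists_uniform_stable {α : Type*} [TopologicalSpace α] [NoetherianSpace α] [QuasiSober α]
    {R : Type*} [CommRing R] [IsNoetherianRing R] (I : ℕ → α → Ideal R)
    (hmono : ∀ q, Monotone fun m => I m q)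
    (hopen : ∀ m a, IsOpen {q | a ∈ I m q}) :
    ∃ n, ∀ m, n ≤ m → ∀ q, I m q = I n q := by
  suffices h : ∀ Z : Closeds α, ∃ n, ∀ m, n ≤ m → ∀ q ∈ Z, I m q = I n q by
    obtain ⟨n, hn⟩ := h ⊤
    exact ⟨n, fun m hm q => hn m hm q trivial⟩
  intro Z
  induction Z using WellFoundedLT.induction with
  | _ Z ih =>
    rcases (Z : Set α).eq_empty_or_nonempty with hZ | hne
    · exact ⟨0, fun m _ q hq => absurd (hZ ▸ hq : q ∈ (∅ : Set α)) id⟩
    by_cases hirr : IsPreirreducible (Z : Set α)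
    · obtain ⟨p, hp⟩ := QuasiSober.sober (⟨hne, hirr⟩ : IsIrreducible (Z : Set α)) Z.isClosed'
      obtain ⟨n₀, hn₀⟩ : ∃ n₀, ∀ m, n₀ ≤ m → I n₀ p = I m p :=
        monotone_stabilizes_iff_noetherian.2 inferInstance ⟨_, hmono p⟩
      obtain ⟨s, hs⟩ := IsNoetherian.noetherian (I n₀ p)
      let V : Set α := ⋂ a ∈ s, {q | a ∈ I n₀ q}
      have hV : IsOpen V := isOpen_biInter_finset fun a _ => hopen n₀ a
      have hpV : p ∈ V := Set.mem_iInter₂.2 fun a ha => by
        show a ∈ I n₀ p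
        rw [← hs]
        exact Ideal.subset_span ha
      let Z' : Closeds α := ⟨(Z : Set α) ∩ Vᶜ, Z.isClosed'.inter hV.isClosed_compl⟩
      have hlt : Z' < Z := lt_of_le_not_ge Set.inter_subset_left fun h =>
        (h (hp.mem : p ∈ (Z : Set α))).2 hpV
      obtain ⟨n₁, hn₁⟩ := ih Z' hlt
      refine ⟨max n₀ n₁, fun m hm q hq => ?_⟩
      by_cases hqV : q ∈ V
      · have hle : ∀ k, n₀ ≤ k → I k q = I n₀ q := by
          intro k hk
          refine le_antisymm (fun a ha => ?_) (hmono q hk)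
          have hap : a ∈ I k p := (hp.specializes hq).mem_open (hopen k a) ha
          rw [← hn₀ k hk, ← hs] at hap
          exact Ideal.span_le.2 (fun b hb => Set.mem_iInter₂.1 hqV b hb) hap
        rw [hle m (le_of_max_le_left hm), hle (max n₀ n₁) (le_max_left _ _)]
      · rw [hn₁ m (le_of_max_le_right hm) q ⟨hq, hqV⟩,
          hn₁ (max n₀ n₁) (le_max_right _ _) q ⟨hq, hqV⟩]
    · simp only [isPreirreducible_iff_isClosed_union_isClosed, not_forall, exists_prop,
        not_or] at hirr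
      obtain ⟨z₁, z₂, hz₁, hz₂, hsub, h1, h2⟩ := hirr
      have hlt : ∀ z (hz : IsClosed z), ¬ (Z : Set α) ⊆ z →
          (⟨(Z : Set α) ∩ z, Z.isClosed'.inter hz⟩ : Closeds α) < Z := fun z hz hn =>
        lt_of_le_not_ge Set.inter_subset_left fun h => hn fun q hq => (h hq).2
      obtain ⟨n₁, hn₁⟩ := ih _ (hlt z₁ hz₁ h1)
      obtain ⟨n₂, hn₂⟩ := ih _ (hlt z₂ hz₂ h2)
      refine ⟨max n₁ n₂, fun m hm q hq => ?_⟩
      rcases hsub hq with h | h
      · rw [hn₁ m (le_of_max_le_left hm) q ⟨hq, h⟩, hn₁ (max n₁ n₂) (le_max_left _ _) q ⟨hq, h⟩]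
      · rw [hn₂ m (le_of_max_le_right hm) q ⟨hq, h⟩, hn₂ (max n₁ n₂) (le_max_right _ _) q ⟨hq, h⟩]

end Groth.Agent.InjMod
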