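import Groth.Agent.ModExt.Basic
import Groth.Agent.ExtSuppLib.Restrict
import Groth.Agent.InjMod.Extend
import Mathlib

/-!
# Extension by zero along a monomorphism; injectivity is local
-/

set_option autoImplicit false

universe u

open CategoryTheory CategoryTheory.Limits Opposite
open ModSite Groth.Agent.KFlat
open Groth.Agent.Topos

namespace Groth.Agent.InjMod

variable {C : Type u} [SmallCategory C] {J : GrothendieckTopology C} (O : Sheaf J CommRingCat.{u})
  (U : C)

instance : (toPre (O.over U)).Full := inferInstanceAs (SheafOfModules.forget.{u} _).Full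
instance : (toPre (O.over U)).Faithful := inferInstanceAs (SheafOfModules.forget.{u} _).Faithful

/-- The explicit model of extension by zero. -/
noncomputable abbrev extModel : Mod (O.over U) ⥤ Mod O :=
  toPre (O.over U) ⋙ ModExt.extPre O U ⋙ shPre O

/-- The adjunction of the explicit model. -/
noncomputable def extModelAdj : extModel O U ⊣ restr O U :=
  ((ModExt.extPreAdj O U).comp (preAdj O)).restrictFullyFaithful
    (iC := toPre (O.over U)) (iD := 𝟭 (Mod O)) (L := extModel O U) (R := restr O U)
    (Functor.FullyFaithful.ofFullyFaithful (toPre (O.over U))) (Functor.FullyFaithful.id (Mod O))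
    (Iso.refl _) (Iso.refl _)

theorem extModelAdj_unit (M : Mod (O.over U)) :
    (toPre (O.over U)).map ((extModelAdj O U).unit.app M) = ModExt.unitPre O U M := by
  refine (Adjunction.map_restrictFullyFaithful_unit_app (iC := toPre (O.over U)) (iD := 𝟭 (Mod O))
    _ _ _ _ _ M).trans ?_
  simp only [Iso.refl_hom, NatTrans.id_app, Functor.map_id, Category.comp_id, Adjunction.comp_unit_app]
  exact Category.comp_id _

variable [∀ W : C, Subsingleton (W ⟶ U)]

theorem unitPre_pre_bijective (M : Mod (O.over U)) (W : (Over U)ᵒᵖ) :
    Function.Bijective (((ModExt.extPreAdj O U).unit.app ((toPre _).obj M)).app W) := by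
  let : ∀ V : C, DecidableEq (V ⟶ U) := fun _ a b => Classical.propDecidable (a = b)
  rw [ModExtZero.unit_eq]
  refine ⟨ModExtZero.unit_injective W, fun x => ?_⟩
  change ModExtZero.Sum (X := U) (A := ringSh O) ((toPre _).obj M) W.unop.left at x
  refine ⟨x W.unop.hom, DFinsupp.ext fun g => ?_⟩
  obtain rfl := Subsingleton.elim g W.unop.hom
  exact DirectSum.of_eq_same _ _

theorem isIso_extModelAdj_unit (M : Mod (O.over U)) : IsIso ((extModelAdj O U).unit.app M) := by
  let adj := preAdj (O.over U)
  have h2 : IsIso ((shPre (O.over U)).map ((ModExt.restrPre O U).map ((preAdj O).unit.app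
      ((ModExt.extPre O U).obj ((toPre _).obj M))))) :=
    ModFlat.Cocont.isIso_unit_map (F := Over.forget U) (J := J.over U) (K := J)
      (𝟙 ((ringSh O).over U)) _
  have h1 : IsIso ((ModExt.extPreAdj O U).unit.app ((toPre _).obj M)) := by
    have : IsIso ((PresheafOfModules.toPresheaf _).map
        ((ModExt.extPreAdj O U).unit.app ((toPre _).obj M))) := by
      rw [NatTrans.isIso_iff_isIso_app]
      intro W
      rw [ConcreteCategory.isIso_iff_bijective]
      exact unitPre_pre_bijective O U M W
    exact isIso_of_reflects_iso _ (PresheafOfModules.toPresheaf _)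
  have h3 : IsIso ((toPre (O.over U) ⋙ shPre (O.over U)).map ((extModelAdj O U).unit.app M)) := by
    change IsIso ((shPre (O.over U)).map ((toPre _).map ((extModelAdj O U).unit.app M)))
    rw [extModelAdj_unit]
    refine (congrArg (fun t => IsIso t) ((shPre (O.over U)).map_comp _ _)).mpr ?_
    exact @IsIso.comp_isIso _ _ _ _ _ _ _ (@Functor.map_isIso _ _ _ _ _ _ (shPre (O.over U)) _ h1) h2
  exact (NatIso.isIso_map_iff (asIso adj.counit) _).1 h3

theorem isIso_extZeroAdj_unit (M : Mod (O.over U)) : IsIso ((extZeroAdj O U).unit.app M) := by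
  have := isIso_extModelAdj_unit O U M
  rw [← Adjunction.unit_leftAdjointUniq_hom_app (extModelAdj O U) (extZeroAdj O U) M]
  infer_instance

omit [∀ W : C, Subsingleton (W ⟶ U)] in
/-- A section of an extension by zero is locally supported over `U`. -/
theorem locally_over_extModel (M : Mod (O.over U)) {W : C}
    (x : ((extModel O U).obj M).val.obj (op W)) :
    ∃ S ∈ J W, ∀ ⦃V : C⦄ (g : V ⟶ W), S g →
      Nonempty (V ⟶ U) ∨ ((extModel O U).obj M).val.map g.op x = 0 := by
  classical
  have hs := ((isIso_shPre_map_iff ((preAdj O).unit.app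
    ((ModExt.extPre O U).obj ((toPre _).obj M)))).1 inferInstance).2
  refine ⟨_, hs.imageSieve_mem (U := W) x, fun V g hg => ?_⟩
  obtain ⟨t, ht⟩ := hg
  rcases isEmpty_or_nonempty (V ⟶ U) with hV | hV
  · refine Or.inr (ht.symm.trans ?_)
    have : t = 0 := DFinsupp.ext fun f => isEmptyElim f
    rw [this]
    exact map_zero _
  · exact Or.inl hV

omit [∀ W : C, Subsingleton (W ⟶ U)] in
/-- Morphisms out of a submodule of an extension by zero are determined on `U`. -/
theorem restr_map_injective {N : Mod (O.over U)} {S F : Mod O} (s : S ⟶ (extZero O U).obj N) [Mono s]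
    (a b : S ⟶ F) (h : (restr O U).map a = (restr O U).map b) : a = b := by
  have hd : (restr O U).map (a - b) = 0 := by rw [Functor.map_sub, h, sub_self]
  rw [ExtSuppLib.restr_map_eq_zero_iff] at hd
  rw [← sub_eq_zero]
  let s' := s ≫ (ModExt.extZeroIso O U).hom.app N
  have : Mono ((toPre O).map s') := inferInstance
  have hinj := PresheafOfModules.injective_of_mono ((toPre O).map s')
  apply SheafOfModules.hom_ext
  refine PresheafOfModules.hom_ext fun W => ModuleCat.hom_ext (LinearMap.ext fun x => ?_)
  obtain ⟨R, hR, hRx⟩ := locally_over_extModel O U N (s'.val.app W x)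
  refine Sheaf.isSeparated (toAb F) W.unop R hR _ _ (fun V g hg => ?_)
  refine (PresheafOfModules.naturality_apply (a - b).val g.op x).symm.trans ?_
  refine Eq.trans ?_ (map_zero ((toAb F).obj.map g.op).hom).symm
  rcases hRx g hg with ⟨⟨w⟩⟩ | h0
  · exact hd w _
  · have : S.val.map g.op x = 0 := hinj (op V)
      ((PresheafOfModules.naturality_apply s'.val g.op x).trans (h0.trans (map_zero _).symm))
    rw [this]
    exact map_zero _

/-- Morphisms from a submodule of `j_!N` to a module injective on `U` extend. -/
theorem exists_extend {N : Mod (O.over U)} {S F : Mod O} [Injective ((restr O U).obj F)]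
    (s : S ⟶ (extZero O U).obj N) [Mono s] (g : S ⟶ F) :
    ∃ k : (extZero O U).obj N ⟶ F, s ≫ k = g := by
  have : (restr O U).IsRightAdjoint := (extZeroAdj O U).isRightAdjoint
  have := isIso_extZeroAdj_unit O U N
  let k' := Injective.factorThru ((restr O U).map g) ((restr O U).map s)
  let k := ((extZeroAdj O U).homEquiv _ _).symm ((extZeroAdj O U).unit.app N ≫ k')
  have hk : (restr O U).map k = k' := by
    rw [← cancel_epi ((extZeroAdj O U).unit.app N)]
    refine ((extZeroAdj O U).homEquiv_unit _ _ k).symm.trans ?_
    exact Equiv.apply_symm_apply _ _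
  refine ⟨k, restr_map_injective O U s _ _ ?_⟩
  rw [Functor.map_comp, hk]
  exact Injective.comp_factorThru _ _

omit [∀ W : C, Subsingleton (W ⟶ U)] in
/-- Injectivity is local. -/
theorem injective_of_local (hsub : ∀ V W : C, Subsingleton (W ⟶ V)) {ι : Type u} (V : ι → C)
    (hV : J.CoversTop V) (F : Mod O) (hF : ∀ i, Injective ((restr O (V i)).obj F)) : Injective F := by
  refine injective_of_detect F fun {X Y} p hp hn => ?_
  by_contra hno
  push Not at hno
  apply hn
  have hloc : ∀ i, IsIso ((restr O (V i)).map p) := by
    intro i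
    have := hsub (V i)
    have : (restr O (V i)).IsRightAdjoint := (extZeroAdj O (V i)).isRightAdjoint
    by_contra hni
    let φ := (extZeroAdj O (V i)).counit.app Y
    by_cases hl : ∃ l, l ≫ p = φ
    · obtain ⟨l, hl⟩ := hl
      apply hni
      have : IsSplitEpi ((restr O (V i)).map p) := IsSplitEpi.mk'
        { section_ := (extZeroAdj O (V i)).unit.app _ ≫ (restr O (V i)).map l
          id := by
            refine (Category.assoc _ _ _).trans ?_
            refine (congrArg (_ ≫ ·) (((restr O (V i)).map_comp l p).symm.trans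
              (congrArg (restr O (V i)).map hl))).trans ?_
            exact (extZeroAdj O (V i)).right_triangle_components Y }
      exact isIso_of_mono_of_epi _
    · push Not at hl
      obtain ⟨S, s, hs, g, hg⟩ := hno _ φ hl
      have := hF i
      obtain ⟨k, hk⟩ := exists_extend O (V i) (F := F) s g
      exact hg k hk
  have : IsIso ((SheafOfModules.toSheaf (ringSh O)).map p) := by
    have hbij : ∀ (i : ι) {Z : C} (a : Z ⟶ V i), Function.Bijective (p.val.app (op Z)) := by
      intro i Z a
      have := hloc i
      have h' : IsIso (((SheafOfModules.toSheaf.{u} (ringSh (O.over (V i)))).map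
        ((restr O (V i)).map p)).hom.app (op (Over.mk a))) := inferInstance
      exact (ConcreteCategory.isIso_iff_bijective ((((SheafOfModules.toSheaf.{u} (ringSh (O.over (V i)))).map
        ((restr O (V i)).map p)).hom.app (op (Over.mk a))))).1 h'
    have : J.HasSheafCompose (forget AddCommGrpCat.{u}) := inferInstance
    refine (Sheaf.isLocallyBijective_iff_isIso ((SheafOfModules.toSheaf (ringSh O)).map p)).1 ?_
    refine ⟨⟨fun {W} x y e => J.superset_covering ?_ (hV W.unop)⟩,
      ⟨fun {W} t => J.superset_covering ?_ (hV W)⟩⟩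
    · rintro Z g ⟨i, ⟨a⟩⟩
      apply (hbij i a).1
      exact (PresheafOfModules.naturality_apply p.val g.op x).trans
        ((congrArg _ e).trans (PresheafOfModules.naturality_apply p.val g.op y).symm)
    · rintro Z g ⟨i, ⟨a⟩⟩
      exact (hbij i a).2 _
  exact isIso_of_reflects_iso p (SheafOfModules.toSheaf (ringSh O))

end Groth.Agent.InjMod
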